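import Groth.Agent.AlgSp.K634.Formal
import Mathlib.AlgebraicGeometry.IdealSheaf.Basic

/-!
# Every closed immersion into an affine scheme with square-zero ideal is a standard pair
-/

set_option autoImplicit false

universe u v w

open CategoryTheory CategoryTheory.Limits AlgebraicGeometry Opposite

namespace K634.AffPair

open K634.Formal AlgSp

variable {S : Scheme.{u}} {F G H : Sp S}

theorem exists_std_iso {W V : Over S} (i : W ⟶ V) [IsAffine V.left] [IsClosedImmersion i.left]
    (h : i.left.ker * i.left.ker = ⊥) :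
    ∃ (A : Type u) (_ : CommRing A) (I : Ideal A) (_ : I ^ 2 = ⊥) (str : Spec (.of A) ⟶ S)
      (e₁ : Over.mk (Spec.map (CommRingCat.ofHom (Ideal.Quotient.mk I)) ≫ str) ≅ W)
      (e₂ : Over.mk str ≅ V), stdJ A I str ≫ e₂.hom = e₁.hom ≫ i := by
  obtain ⟨hW, hs⟩ := IsClosedImmersion.isAffine_surjective_of_isAffine i.left
  let I : Ideal Γ(V.left, ⊤) := RingHom.ker i.left.appTop.hom
  have hI : I ^ 2 = ⊥ := by
    have := congrArg (fun J => J.ideal ⟨⊤, isAffineOpen_top V.left⟩) h
    simp only [Scheme.IdealSheafData.ideal_mul, Pi.mul_apply, Scheme.IdealSheafData.ideal_bot,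
      Pi.bot_apply] at this
    rw [Scheme.Hom.ker_apply] at this
    rw [pow_two]
    exact this
  let q : CommRingCat.of (Γ(V.left, ⊤) ⧸ I) ≅ Γ(W.left, ⊤) :=
    (RingHom.quotientKerEquivOfSurjective hs).toCommRingCatIso
  have hq : CommRingCat.ofHom (Ideal.Quotient.mk I) ≫ q.hom = i.left.appTop := by
    ext x; rfl
  have e1 : Spec.map q.hom ≫ Spec.map (CommRingCat.ofHom (Ideal.Quotient.mk I)) = Spec.map i.left.appTop := by
    rw [← Spec.map_comp, hq]
  have e2 : Spec.map i.left.appTop ≫ V.left.isoSpec.inv = W.left.isoSpec.inv ≫ i.left :=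
    Scheme.isoSpec_inv_naturality _
  have key : Spec.map (CommRingCat.ofHom (Ideal.Quotient.mk I)) ≫ V.left.isoSpec.inv =
      (Scheme.Spec.mapIso q.op).symm.hom ≫ W.left.isoSpec.inv ≫ i.left := by
    rw [← e2, ← e1]
    change _ = Spec.map q.inv ≫ _
    rw [← Category.assoc, ← Category.assoc, ← Spec.map_comp, q.hom_inv_id, Spec.map_id, Category.id_comp]
  refine ⟨Γ(V.left, ⊤), inferInstance, I, hI, V.left.isoSpec.inv ≫ V.hom,
    Over.isoMk ((Scheme.Spec.mapIso q.op).symm ≪≫ W.left.isoSpec.symm) ?_,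
    Over.isoMk V.left.isoSpec.symm rfl, ?_⟩
  · have hi : i.left ≫ V.hom = W.hom := Over.w i
    simp only [Over.mk_left, Over.mk_hom, Iso.trans_hom, Category.assoc, Iso.symm_hom]
    rw [reassoc_of% key, hi]
    rfl
  · ext1
    simp only [Over.comp_left, Over.homMk_left, Over.isoMk_hom_left, Iso.trans_hom, Category.assoc, Iso.symm_hom]
    exact key

theorem smooth_lft {f : F ⟶ G} (hf : IsFormallySmoothMor f) {W V : Over S} (i : W ⟶ V) [IsAffine V.left]
    [IsClosedImmersion i.left] (h : i.left.ker * i.left.ker = ⊥) : Lft ((yon S).map i) f := by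
  obtain ⟨A, _, I, hI, str, e₁, e₂, w⟩ := exists_std_iso i h
  refine (smooth_iff.1 hf A I hI str).of_iso_left ((yon S).mapIso e₁) ((yon S).mapIso e₂) ?_
  simp only [Functor.mapIso_hom, ← Functor.map_comp, w]

theorem unramified_unq {f : F ⟶ G} (hf : IsFormallyUnramifiedMor f) {W V : Over S} (i : W ⟶ V)
    [IsAffine V.left] [IsClosedImmersion i.left] (h : i.left.ker * i.left.ker = ⊥) :
    Unq ((yon S).map i) f := by
  obtain ⟨A, _, I, hI, str, e₁, e₂, w⟩ := exists_std_iso i h
  refine (unramified_iff.1 hf A I hI str).of_iso_left ((yon S).mapIso e₁) ((yon S).mapIso e₂) ?_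
  simp only [Functor.mapIso_hom, ← Functor.map_comp, w]

end K634.AffPair
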