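import Groth.Prelude.Def_AlgSp
import Mathlib.AlgebraicGeometry.Morphisms.Etale

/-!
# Descent of morphisms of fppf sheaves along a single flat surjective morphism locally of finite presentation,
and affine refinements
-/

set_option autoImplicit false

universe u v w

open CategoryTheory CategoryTheory.Limits AlgebraicGeometry Opposite

namespace K634.Desc

open AlgSp

variable {S : Scheme.{u}} {F G H P : Sp S}

theorem generate_singleton_mem {W X : Over S} (g : W ⟶ X) [Flat g.left] [Surjective g.left]
    [LocallyOfFinitePresentation g.left] : Sieve.generate (Presieve.singleton g) ∈ (J S) X := by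
  rw [GrothendieckTopology.mem_over_iff]
  refine GrothendieckTopology.superset_covering _ ?_
    (Precoverage.generate_mem_toGrothendieck g.left.singleton_mem_fppfPrecoverage)
  rw [Sieve.generate_le_iff]
  rintro _ _ ⟨⟩
  rw [Sieve.overEquiv_iff]
  refine ⟨W, Over.homMk (𝟙 _) (by simp), g, ⟨⟩, ?_⟩
  ext; simp

theorem isSheafFor_singleton (F : Sp S) {W X : Over S} (g : W ⟶ X) [Flat g.left] [Surjective g.left]
    [LocallyOfFinitePresentation g.left] : (Presieve.singleton g).IsSheafFor F.obj := by
  rw [Presieve.isSheafFor_iff_generate]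
  exact ((isSheaf_iff_isSheaf_of_type _ _).1 F.property) _ (generate_singleton_mem g)

/-- Morphisms out of `h_X` into an fppf sheaf descend along `W ⟶ X` flat surjective locally of finite presentation. -/
theorem existsUnique_desc (F : Sp S) {W X : Over S} (g : W ⟶ X) [Flat g.left] [Surjective g.left]
    [LocallyOfFinitePresentation g.left] (m : (yon S).obj W ⟶ F)
    (hm : ∀ (Z : Over S) (p₁ p₂ : Z ⟶ W), p₁ ≫ g = p₂ ≫ g → (yon S).map p₁ ≫ m = (yon S).map p₂ ≫ m) :
    ∃! l : (yon S).obj X ⟶ F, (yon S).map g ≫ l = m := by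
  obtain ⟨y, hy, huniq⟩ := Presieve.isSheafFor_singleton.1 (isSheafFor_singleton F g)
    ((J S).uliftYonedaEquiv m) (fun {Z} p₁ p₂ h => by
      have := hm Z p₁ p₂ h
      rw [GrothendieckTopology.uliftYonedaEquiv_naturality,
        GrothendieckTopology.uliftYonedaEquiv_naturality, this])
  refine ⟨(J S).uliftYonedaEquiv.symm y, ?_, ?_⟩
  · apply (J S).uliftYonedaEquiv.injective
    rw [← GrothendieckTopology.uliftYonedaEquiv_naturality, Equiv.apply_symm_apply, hy]
  · intro l hl
    rw [Equiv.eq_symm_apply]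
    apply huniq
    rw [GrothendieckTopology.uliftYonedaEquiv_naturality, hl]

theorem epi_yon_map {W X : Over S} (g : W ⟶ X) [Flat g.left] [Surjective g.left]
    [LocallyOfFinitePresentation g.left] : Epi ((yon S).map g) := by
  constructor
  intro F l l' h
  obtain ⟨m, -, hu⟩ := existsUnique_desc F g ((yon S).map g ≫ l) (fun Z p₁ p₂ e => by
    rw [← Category.assoc, ← Category.assoc, ← Functor.map_comp, ← Functor.map_comp, e])
  rw [hu l rfl, hu l' h.symm]

/-- An open cover `V ⟶ X` of a quasi-compact scheme is refined by one affine scheme, which is a finite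
disjoint union of affine opens of `V`. -/
theorem exists_affine_refinement {V X : Scheme.{u}} (f : V ⟶ X) [CompactSpace X] (hf : IsOpenMap f)
    [Surjective f] : ∃ (W : Scheme.{u}) (g : W ⟶ V), IsAffine W ∧ Etale g ∧ Surjective (g ≫ f) := by
  obtain ⟨s, hs⟩ := isCompact_univ.elim_finite_subcover
    (fun i : V.affineCover.I₀ => f '' (V.affineCover.f i).opensRange)
    (fun i => hf _ (V.affineCover.f i).opensRange.isOpen) (fun x _ => by
      obtain ⟨v, rfl⟩ := f.surjective x
      obtain ⟨i, y, hy⟩ := V.affineCover.exists_eq v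
      exact Set.mem_iUnion.2 ⟨i, v, ⟨y, hy⟩, rfl⟩)
  refine ⟨∐ fun i : s => V.affineCover.X i.1, Sigma.desc fun i : s => V.affineCover.f i.1, inferInstance,
    ?_, ⟨fun x => ?_⟩⟩
  · have : IsZariskiLocalAtSource (@Etale.{u}) := HasRingHomProperty.instIsZariskiLocalAtSource
    rw [IsZariskiLocalAtSource.iff_of_openCover (P := @Etale) (sigmaOpenCover _)]
    have key : ∀ i : s, Etale (Sigma.ι (fun i : s => V.affineCover.X i.1) i ≫
        Sigma.desc fun i : s => V.affineCover.f i.1) := fun i => by
      rw [Sigma.ι_desc]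
      infer_instance
    exact key
  · obtain ⟨i, hi, hx⟩ := Set.mem_iUnion₂.1 (hs (Set.mem_univ x))
    obtain ⟨v, ⟨y, hy⟩, rfl⟩ := hx
    refine ⟨Sigma.ι (fun i : s => V.affineCover.X i.1) ⟨i, hi⟩ y, ?_⟩
    rw [← Scheme.Hom.comp_apply, ← Category.assoc, Sigma.ι_desc, Scheme.Hom.comp_apply, hy]

end K634.Desc
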