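import Mathlib.AlgebraicGeometry.Morphisms.Etale
import Mathlib.AlgebraicGeometry.Morphisms.ClosedImmersion

/-!
# The cartesian square `Spec (B/IB) ⟶ Spec B` over `Spec (A/I) ⟶ Spec A`
-/

set_option autoImplicit false

universe u

open CategoryTheory CategoryTheory.Limits AlgebraicGeometry Opposite

namespace K634.Quot

variable {A B : Type u} [CommRing A] [CommRing B] (φ : A →+* B) (I : Ideal A)

/-- the induced map `A/I → B/IB` -/
abbrev qmap : A ⧸ I →+* B ⧸ I.map φ := Ideal.quotientMap (I.map φ) φ Ideal.le_comap_map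

theorem qmap_comp_mk : (qmap φ I).comp (Ideal.Quotient.mk I) = (Ideal.Quotient.mk (I.map φ)).comp φ :=
  RingHom.ext fun _ => rfl

theorem isPushout_quot : IsPushout (CommRingCat.ofHom φ) (CommRingCat.ofHom (Ideal.Quotient.mk I))
    (CommRingCat.ofHom (Ideal.Quotient.mk (I.map φ))) (CommRingCat.ofHom (qmap φ I)) := by
  refine ⟨⟨by ext; rfl⟩, ⟨PushoutCocone.IsColimit.mk _ (fun s => CommRingCat.ofHom
    (Ideal.Quotient.lift (I.map φ) s.inl.hom ?_)) ?_ ?_ ?_⟩⟩
  · have hw := s.condition
    intro b hb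
    have : I.map φ ≤ RingHom.ker s.inl.hom := by
      rw [Ideal.map_le_iff_le_comap]
      intro x hx
      have h1 := congrArg (fun f => f.hom x) hw
      simp only [CommRingCat.hom_comp, CommRingCat.hom_ofHom, RingHom.comp_apply] at h1
      rw [Ideal.Quotient.eq_zero_iff_mem.2 hx, map_zero] at h1
      exact h1
    exact this hb
  · intro s
    ext x
    rfl
  · intro s
    ext x
    exact congrArg (fun f => f.hom x) s.condition
  · intro s m h1 h2
    ext x
    exact congrArg (fun f => f.hom x) h1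

theorem isPullback_quot : IsPullback (Spec.map (CommRingCat.ofHom (Ideal.Quotient.mk (I.map φ))))
    (Spec.map (CommRingCat.ofHom (qmap φ I))) (Spec.map (CommRingCat.ofHom φ))
    (Spec.map (CommRingCat.ofHom (Ideal.Quotient.mk I))) :=
  isPullback_SpecMap_of_isPushout _ _ _ _ (isPushout_quot φ I)

theorem map_sq (hI : I ^ 2 = ⊥) : (I.map φ) ^ 2 = ⊥ := by
  rw [← Ideal.map_pow, hI, Ideal.map_bot]

end K634.Quot
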