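import Groth.Agent.AlgSp.K634.Rep
import Groth.Agent.AlgSp.K634.Desc
import Groth.Agent.AlgSp.K634.Quot
import Groth.Agent.Sga3A.NilDescent

/-!
# Infinitesimal lifting properties descend along representable étale surjective maps on top
-/

set_option autoImplicit false

universe u v w

open CategoryTheory CategoryTheory.Limits AlgebraicGeometry Opposite

namespace K634.Top

open K634.Formal K634.Desc K634.Quot TensorProduct

section General

variable {C : Type w} [Category.{v} C]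

theorem unq_top {T T' W WT F G H : C} {i : T ⟶ T'} {w : W ⟶ T'} {wT : WT ⟶ T} {iW : WT ⟶ W}
    (hw : iW ≫ w = wT ≫ i) {a : F ⟶ G} {b : G ⟶ H} [Epi w] {l l' : T' ⟶ G}
    (h1 : i ≫ l = i ≫ l') (h2 : l ≫ b = l' ≫ b) (x : W ⟶ F) (hx : x ≫ a = w ≫ l)
    (ha : Lft iW a) (hab : Unq iW (a ≫ b)) : l = l' := by
  obtain ⟨y, hy1, hy2⟩ := ha (iW ≫ x) (w ≫ l') (by
    rw [Category.assoc, hx, ← Category.assoc, hw, Category.assoc, h1, ← Category.assoc, ← hw,
      Category.assoc])
  have : x = y := hab x y hy1.symm (by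
    rw [← Category.assoc, hx, ← Category.assoc, hy2, Category.assoc, h2, Category.assoc])
  rw [← cancel_epi w, ← hx, this, hy2]

theorem lft_top {T T' W WT F G H : C} {i : T ⟶ T'} {w : W ⟶ T'} {wT : WT ⟶ T} {iW : WT ⟶ W}
    (hw : iW ≫ w = wT ≫ i) {a : F ⟶ G} {b : G ⟶ H} [Epi w] [Epi wT] {t : T ⟶ G} {c : T' ⟶ H}
    (h : t ≫ b = i ≫ c) (x₀ : WT ⟶ F) (hx : x₀ ≫ a = wT ≫ t) (hab : Lft iW (a ≫ b))
    {Z ZT : C} (p₁ p₂ : Z ⟶ W) (q₁ q₂ : ZT ⟶ WT) (iZ : ZT ⟶ Z) (hp : p₁ ≫ w = p₂ ≫ w)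
    (hq : q₁ ≫ wT = q₂ ≫ wT) (hpq₁ : iZ ≫ p₁ = q₁ ≫ iW) (hpq₂ : iZ ≫ p₂ = q₂ ≫ iW)
    (hb : Unq iZ b) (hdesc : ∀ m : W ⟶ G, p₁ ≫ m = p₂ ≫ m → ∃ l : T' ⟶ G, w ≫ l = m) :
    ∃ l : T' ⟶ G, i ≫ l = t ∧ l ≫ b = c := by
  obtain ⟨y, hy1, hy2⟩ := hab x₀ (w ≫ c) (by
    rw [← Category.assoc, hx, Category.assoc, h, ← Category.assoc, ← hw, Category.assoc])
  obtain ⟨l, hl⟩ := hdesc (y ≫ a) (by
    refine hb _ _ ?_ ?_
    · rw [← Category.assoc, hpq₁, Category.assoc, ← Category.assoc iW, hy1, hx, ← Category.assoc, hq,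
        Category.assoc, ← hx, ← hy1, Category.assoc, ← Category.assoc q₂, ← hpq₂, Category.assoc]
    · rw [Category.assoc, Category.assoc, hy2, ← Category.assoc, hp, Category.assoc, Category.assoc,
        Category.assoc, hy2])
  refine ⟨l, ?_, ?_⟩
  · rw [← cancel_epi wT, ← Category.assoc, ← hw, Category.assoc, hl, ← Category.assoc, hy1, hx]
  · rw [← cancel_epi w, ← Category.assoc, hl, Category.assoc, hy2]

end General

open AlgSp

variable {S : Scheme.{u}} {F G H : Sp S}

section Std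

variable {A B : Type u} [CommRing A] [CommRing B] (φ : A →+* B) (I : Ideal A) (str : Spec (.of A) ⟶ S)

/-- `Spec B ⟶ Spec A` over `S`. -/
noncomputable abbrev bcW : Over.mk (Spec.map (CommRingCat.ofHom φ) ≫ str) ⟶ Over.mk str :=
  Over.homMk (Spec.map (CommRingCat.ofHom φ)) rfl

/-- `Spec (B/IB) ⟶ Spec (A/I)` over `S`. -/
noncomputable abbrev bcWT : Over.mk (Spec.map (CommRingCat.ofHom (Ideal.Quotient.mk (I.map φ))) ≫
      Spec.map (CommRingCat.ofHom φ) ≫ str) ⟶
    Over.mk (Spec.map (CommRingCat.ofHom (Ideal.Quotient.mk I)) ≫ str) :=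
  Over.homMk (Spec.map (CommRingCat.ofHom (qmap φ I))) (by
    have := (isPullback_quot φ I).w
    simp only [Over.mk_left, Over.mk_hom]
    rw [← Category.assoc, ← Category.assoc, this])

theorem bc_comm : stdJ B (I.map φ) (Spec.map (CommRingCat.ofHom φ) ≫ str) ≫ bcW φ str =
    bcWT φ I str ≫ stdJ A I str := by
  ext1
  exact (isPullback_quot φ I).w

end Std

/-- An étale surjective map `V ⟶ Spec A` over `S` is refined by `Spec B` with `A → B` étale and surjective on spectra. -/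
theorem exists_algebra_cover {A : Type u} [CommRing A] (str : Spec (.of A) ⟶ S) {V : Over S}
    (g : V ⟶ Over.mk str) [Etale g.left] [Surjective g.left] :
    ∃ (B : Type u) (_ : CommRing B) (φ : A →+* B) (k : Over.mk (Spec.map (CommRingCat.ofHom φ) ≫ str) ⟶ V),
      Etale (Spec.map (CommRingCat.ofHom φ)) ∧ Surjective (Spec.map (CommRingCat.ofHom φ)) ∧ Etale k.left ∧
        k ≫ g = bcW φ str := by
  have : CompactSpace (Over.mk str).left := inferInstanceAs (CompactSpace (Spec (.of A)))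
  obtain ⟨W, h, hW, hh, hs⟩ := exists_affine_refinement g.left g.left.isOpenMap
  let e := W.isoSpec
  let ψ : CommRingCat.of A ⟶ Γ(W, ⊤) := Spec.preimage (e.inv ≫ h ≫ g.left)
  have hψ : Spec.map ψ = e.inv ≫ h ≫ g.left := Spec.map_preimage _
  refine ⟨Γ(W, ⊤), inferInstance, ψ.hom, Over.homMk (e.inv ≫ h) ?_, ?_, ?_, ?_, ?_⟩
  · have hg : g.left ≫ str = V.hom := Over.w g
    simp only [Over.mk_left, Over.mk_hom, CommRingCat.ofHom_hom, Category.assoc]
    rw [hψ, Category.assoc, Category.assoc, hg]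
  · rw [CommRingCat.ofHom_hom, hψ]; infer_instance
  · rw [CommRingCat.ofHom_hom, hψ]
    infer_instance
  · exact (inferInstance : Etale (e.inv ≫ h))
  · ext1
    simp [hψ]

theorem epi_bcW {A B : Type u} [CommRing A] [CommRing B] (φ : A →+* B) (str : Spec (.of A) ⟶ S)
    [Etale (Spec.map (CommRingCat.ofHom φ))] [Surjective (Spec.map (CommRingCat.ofHom φ))] :
    Epi ((yon S).map (bcW φ str)) := by
  have h1 : Etale (bcW φ str).left := ‹_›
  have h2 : Surjective (bcW φ str).left := ‹_›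
  exact epi_yon_map _

theorem unramified_of_top {a : F ⟶ G} {b : G ⟶ H} (ha : RepWith @Etale a) (ha' : RepWith @Surjective a)
    (hab : IsFormallyUnramifiedMor (a ≫ b)) : IsFormallyUnramifiedMor b := by
  have haf := etale_of_repWith_etale ha
  rw [Formal.etale_iff, Formal.smooth_iff] at haf
  rw [unramified_iff] at hab ⊢
  intro A _ I hI str l l' h1 h2
  obtain ⟨V, snd, fst, hsq⟩ := ha.1 l
  have e1 : Etale snd.left := ha.2 _ _ _ hsq
  have e2 : Surjective snd.left := ha'.2 _ _ _ hsq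
  obtain ⟨B, _, φ, k, hφ, hφ', -, hk⟩ := exists_algebra_cover str snd
  have := epi_bcW φ str
  refine unq_top (w := (yon S).map (bcW φ str))
    (iW := (yon S).map (stdJ B (I.map φ) (Spec.map (CommRingCat.ofHom φ) ≫ str)))
    (wT := (yon S).map (bcWT φ I str)) ?_ h1 h2 ((yon S).map k ≫ fst) (a := a) ?_
    (haf.1 B _ (map_sq φ I hI) _) (hab B _ (map_sq φ I hI) _)
  · rw [← Functor.map_comp, ← Functor.map_comp, bc_comm]
  · rw [Category.assoc, hsq.w, ← Category.assoc, ← Functor.map_comp, hk]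

open TensorProduct in
/-- Étale surjective affine schemes over `Spec (A/I)` are dominated by `Spec (B/IB)` with `B` étale over `A` and
`Spec B ⟶ Spec A` surjective, `I` nil. -/
theorem exists_etale_lift {A : Type u} [CommRing A] (I : Ideal A) (hI : ∀ x ∈ I, IsNilpotent x)
    {B₀ : Type u} [CommRing B₀] (φ₀ : A ⧸ I →+* B₀) (h1 : Etale (Spec.map (CommRingCat.ofHom φ₀)))
    (h2 : Surjective (Spec.map (CommRingCat.ofHom φ₀))) :
    ∃ (B : Type u) (_ : CommRing B) (φ : A →+* B) (ψ : B₀ →+* B ⧸ I.map φ),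
      Etale (Spec.map (CommRingCat.ofHom φ)) ∧ Surjective (Spec.map (CommRingCat.ofHom φ)) ∧
        ψ.comp φ₀ = qmap φ I := by
  algebraize [φ₀]
  have het : Algebra.Etale (A ⧸ I) B₀ := by
    have := HasRingHomProperty.Spec_iff (P := @Etale) |>.1 h1
    exact this
  have hff : Module.FaithfullyFlat (A ⧸ I) B₀ := by
    have : Flat (Spec.map (CommRingCat.ofHom φ₀)) := inferInstance
    exact (flat_and_surjective_SpecMap_iff _).1 ⟨this, h2⟩
  have hn : ∀ x : A, algebraMap A (A ⧸ I) x = 0 → IsNilpotent x := fun x hx =>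
    hI x (Ideal.Quotient.eq_zero_iff_mem.1 hx)
  have hs : Function.Surjective (algebraMap A (A ⧸ I)) := Ideal.Quotient.mk_surjective
  obtain ⟨B, _, _, hB, ⟨e⟩⟩ := Groth.Agent.Proet.EtaleLiftLoc.exists_etale_lift A (A ⧸ I) B₀
    (fun s => ⟨1, isUnit_one, fun x _ => by rw [one_mul]; exact hs x⟩)
  have hff : Module.FaithfullyFlat (A ⧸ I) ((A ⧸ I) ⊗[A] B) :=
    Module.FaithfullyFlat.of_linearEquiv (A ⧸ I) _ e.toLinearEquiv
  have hfb := Groth.Agent.Sga3A.NilDescent.faithfullyFlat_of_nil hn hs B hff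
  let g : (A ⧸ I) ⊗[A] B →ₐ[A] B ⧸ I.map (algebraMap A B) :=
    Algebra.TensorProduct.lift (Ideal.quotientMapₐ (I.map (algebraMap A B)) (Algebra.ofId A B)
      Ideal.le_comap_map) (Ideal.Quotient.mkₐ A _) (fun _ _ => .all _ _)
  refine ⟨B, inferInstance, algebraMap A B, g.toRingHom.comp e.symm.toAlgHom.toRingHom, ?_, ?_, ?_⟩
  · exact HasRingHomProperty.Spec_iff (P := @Etale) |>.2 ((RingHom.etale_algebraMap).2 hB)
  · refine ((flat_and_surjective_SpecMap_iff (CommRingCat.ofHom (algebraMap A B))).2 ?_).2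
    exact (RingHom.faithfullyFlat_algebraMap_iff).2 hfb
  · refine Ideal.Quotient.ringHom_ext (RingHom.ext fun x => ?_)
    have : e.symm (algebraMap (A ⧸ I) B₀ (Ideal.Quotient.mk I x)) = Ideal.Quotient.mk I x ⊗ₜ 1 := by
      rw [e.symm.commutes]; rfl
    change g (e.symm (algebraMap (A ⧸ I) B₀ (Ideal.Quotient.mk I x))) = _
    rw [this]
    simp [g]

section Std2

variable {A B C : Type u} [CommRing A] [CommRing B] [CommRing C] (φ : A →+* B) (χ : B →+* C) (θ : A →+* C)
  (h : χ.comp φ = θ) (I : Ideal A) (str : Spec (.of A) ⟶ S)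

/-- `Spec C ⟶ Spec B` over `S`, for `A → B → C`. -/
noncomputable abbrev bcP : Over.mk (Spec.map (CommRingCat.ofHom θ) ≫ str) ⟶
    Over.mk (Spec.map (CommRingCat.ofHom φ) ≫ str) :=
  Over.homMk (Spec.map (CommRingCat.ofHom χ)) (by
    subst h
    simp only [Over.mk_left, Over.mk_hom, CommRingCat.ofHom_comp, Spec.map_comp, Category.assoc])

include h in
theorem map_le_comap : I.map φ ≤ (I.map θ).comap χ := by
  subst h
  rw [Ideal.map_le_iff_le_comap, Ideal.comap_comap]
  exact Ideal.le_comap_map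

/-- `Spec (C/IC) ⟶ Spec (B/IB)` over `S`. -/
noncomputable abbrev bcQ : Over.mk (Spec.map (CommRingCat.ofHom (Ideal.Quotient.mk (I.map θ))) ≫
      Spec.map (CommRingCat.ofHom θ) ≫ str) ⟶
    Over.mk (Spec.map (CommRingCat.ofHom (Ideal.Quotient.mk (I.map φ))) ≫ Spec.map (CommRingCat.ofHom φ) ≫ str) :=
  Over.homMk (Spec.map (CommRingCat.ofHom (Ideal.quotientMap (I.map θ) χ (map_le_comap φ χ θ h I)))) (by
    simp only [Over.mk_left, Over.mk_hom]
    rw [← Spec.map_comp_assoc, ← Spec.map_comp_assoc, ← Spec.map_comp_assoc]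
    subst h
    rfl)

theorem bcP_bcW : bcP φ χ θ h str ≫ bcW φ str = bcW θ str := by
  subst h
  ext1
  simp only [Over.comp_left, Over.homMk_left, CommRingCat.ofHom_comp, Spec.map_comp]

theorem stdJ_bcP : stdJ C (I.map θ) (Spec.map (CommRingCat.ofHom θ) ≫ str) ≫ bcP φ χ θ h str =
    bcQ φ χ θ h I str ≫ stdJ B (I.map φ) (Spec.map (CommRingCat.ofHom φ) ≫ str) := by
  ext1
  simp only [Over.comp_left, Over.homMk_left]
  rw [← Spec.map_comp, ← Spec.map_comp]
  rfl

theorem bcQ_bcWT : bcQ φ χ θ h I str ≫ bcWT φ I str = bcWT θ I str := by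
  ext1
  simp only [Over.comp_left, Over.homMk_left]
  rw [← Spec.map_comp]
  congr 1
  ext x
  subst h
  rfl

end Std2

open TensorProduct in
/-- Descent of morphisms along `Spec B ⟶ Spec A`, tested on `Spec (B ⊗[A] B)`. -/
theorem exists_desc {A B : Type u} [CommRing A] [CommRing B] [Algebra A B] (str : Spec (.of A) ⟶ S)
    [Flat (Spec.map (CommRingCat.ofHom (algebraMap A B)))]
    [Surjective (Spec.map (CommRingCat.ofHom (algebraMap A B)))]
    [LocallyOfFinitePresentation (Spec.map (CommRingCat.ofHom (algebraMap A B)))]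
    (m : (yon S).obj (Over.mk (Spec.map (CommRingCat.ofHom (algebraMap A B)) ≫ str)) ⟶ G)
    (hm : (yon S).map (bcP (algebraMap A B) (Algebra.TensorProduct.includeLeftRingHom : B →+* B ⊗[A] B)
        (algebraMap A (B ⊗[A] B)) rfl str) ≫ m =
      (yon S).map (bcP (algebraMap A B) (Algebra.TensorProduct.includeRight : B →ₐ[A] B ⊗[A] B).toRingHom
        (algebraMap A (B ⊗[A] B)) (Algebra.TensorProduct.includeRight : B →ₐ[A] B ⊗[A] B).comp_algebraMap str) ≫ m) :
    ∃ l : (yon S).obj (Over.mk str) ⟶ G, (yon S).map (bcW (algebraMap A B) str) ≫ l = m := by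
  have i1 : Flat (bcW (algebraMap A B) str).left := ‹_›
  have i2 : Surjective (bcW (algebraMap A B) str).left := ‹_›
  have i3 : LocallyOfFinitePresentation (bcW (algebraMap A B) str).left := ‹_›
  refine (existsUnique_desc G (bcW (algebraMap A B) str) m ?_).exists
  intro Z p₁ p₂ hp
  have hpb := isPullback_SpecMap_of_isPushout _ _ _ _ (CommRingCat.isPushout_tensorProduct A B B)
  have hp' : p₁.left ≫ Spec.map (CommRingCat.ofHom (algebraMap A B)) =
      p₂.left ≫ Spec.map (CommRingCat.ofHom (algebraMap A B)) := congrArg (·.left) hp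
  let r : Z ⟶ Over.mk (Spec.map (CommRingCat.ofHom (algebraMap A (B ⊗[A] B))) ≫ str) :=
    Over.homMk (hpb.lift p₁.left p₂.left hp') (by
      have h1 := Over.w p₁
      simp only [Over.mk_left, Over.mk_hom] at h1 ⊢
      have h2 : Spec.map (CommRingCat.ofHom (algebraMap A (B ⊗[A] B))) =
          Spec.map (CommRingCat.ofHom (Algebra.TensorProduct.includeLeftRingHom : B →+* B ⊗[A] B)) ≫
            Spec.map (CommRingCat.ofHom (algebraMap A B)) := by
        rw [← Spec.map_comp]; rfl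
      rw [← h1, h2, Category.assoc, hpb.lift_fst_assoc])
  have hr1 : p₁ = r ≫ bcP (algebraMap A B) (Algebra.TensorProduct.includeLeftRingHom : B →+* B ⊗[A] B)
        (algebraMap A (B ⊗[A] B)) rfl str := by
    ext1
    exact (hpb.lift_fst p₁.left p₂.left hp').symm
  have hr2 : p₂ = r ≫ bcP (algebraMap A B) (Algebra.TensorProduct.includeRight : B →ₐ[A] B ⊗[A] B).toRingHom
        (algebraMap A (B ⊗[A] B)) (Algebra.TensorProduct.includeRight : B →ₐ[A] B ⊗[A] B).comp_algebraMap str := by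
    ext1
    exact (hpb.lift_snd p₁.left p₂.left hp').symm
  rw [hr1, hr2, Functor.map_comp, Functor.map_comp, Category.assoc, Category.assoc, hm]

theorem etale_of_top {a : F ⟶ G} {b : G ⟶ H} (ha : RepWith @Etale a) (ha' : RepWith @Surjective a)
    (hab : IsFormallyEtaleMor (a ≫ b)) : IsFormallyEtaleMor b := by
  rw [Formal.etale_iff] at hab ⊢
  have hbu := unramified_of_top ha ha' hab.2
  refine ⟨?_, hbu⟩
  have haf := etale_of_repWith_etale ha
  rw [Formal.etale_iff, Formal.smooth_iff] at haf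
  have habs := Formal.smooth_iff.1 hab.1
  rw [unramified_iff] at hbu
  rw [Formal.smooth_iff]
  intro A _ I hI str t c hc
  obtain ⟨V, snd, fst, hsq⟩ := ha.1 t
  have e1 : Etale snd.left := ha.2 _ _ _ hsq
  have e2 : Surjective snd.left := ha'.2 _ _ _ hsq
  obtain ⟨B₀, _, φ₀, k, hφ₀, hφ₀', -, hk⟩ :=
    exists_algebra_cover (A := A ⧸ I) (Spec.map (CommRingCat.ofHom (Ideal.Quotient.mk I)) ≫ str) snd
  have hnil : ∀ x ∈ I, IsNilpotent x := fun x hx => ⟨2, by
    have : x ^ 2 ∈ I ^ 2 := Ideal.pow_mem_pow hx 2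
    rwa [hI] at this⟩
  obtain ⟨B, _, φ, ψ, hφ, hφ', hψ⟩ := exists_etale_lift I hnil φ₀ hφ₀ hφ₀'
  algebraize [φ]
  have hφf : Flat (Spec.map (CommRingCat.ofHom (algebraMap A B))) := (inferInstance : Flat (Spec.map (CommRingCat.ofHom φ)))
  have hφs : Surjective (Spec.map (CommRingCat.ofHom (algebraMap A B))) := hφ'
  have hφl : LocallyOfFinitePresentation (Spec.map (CommRingCat.ofHom (algebraMap A B))) :=
    (inferInstance : LocallyOfFinitePresentation (Spec.map (CommRingCat.ofHom φ)))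
  have hw := epi_bcW φ str
  have hqe : Etale (Spec.map (CommRingCat.ofHom (qmap φ I))) :=
    MorphismProperty.of_isPullback (P := @Etale) (isPullback_quot φ I) hφ
  have hqs : Surjective (Spec.map (CommRingCat.ofHom (qmap φ I))) :=
    MorphismProperty.of_isPullback (P := @Surjective) (isPullback_quot φ I) hφ'
  have hwT : Epi ((yon S).map (bcWT φ I str)) := by
    have h1 : Etale (bcWT φ I str).left := hqe
    have h2 : Surjective (bcWT φ I str).left := hqs
    exact epi_yon_map _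
  let κ : Over.mk (Spec.map (CommRingCat.ofHom (Ideal.Quotient.mk (I.map φ))) ≫
      Spec.map (CommRingCat.ofHom φ) ≫ str) ⟶
      Over.mk (Spec.map (CommRingCat.ofHom φ₀) ≫ Spec.map (CommRingCat.ofHom (Ideal.Quotient.mk I)) ≫ str) :=
    Over.homMk (Spec.map (CommRingCat.ofHom ψ)) (by
      simp only [Over.mk_left, Over.mk_hom]
      rw [← Spec.map_comp_assoc, ← CommRingCat.ofHom_comp, hψ, ← Spec.map_comp_assoc, ← Spec.map_comp_assoc]
      rfl)
  have hκ : κ ≫ bcW φ₀ (Spec.map (CommRingCat.ofHom (Ideal.Quotient.mk I)) ≫ str) = bcWT φ I str := by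
    ext1
    simp only [Over.comp_left, Over.homMk_left, κ]
    rw [← Spec.map_comp, ← CommRingCat.ofHom_comp, hψ]
  refine lft_top (w := (yon S).map (bcW φ str))
    (iW := (yon S).map (stdJ B (I.map φ) (Spec.map (CommRingCat.ofHom φ) ≫ str)))
    (wT := (yon S).map (bcWT φ I str)) ?_ hc ((yon S).map κ ≫ (yon S).map k ≫ fst) (a := a) ?_
    (habs B _ (map_sq φ I hI) _)
    ((yon S).map (bcP φ (Algebra.TensorProduct.includeLeftRingHom : B →+* B ⊗[A] B)
        (algebraMap A (B ⊗[A] B)) rfl str))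
    ((yon S).map (bcP φ (Algebra.TensorProduct.includeRight : B →ₐ[A] B ⊗[A] B).toRingHom
        (algebraMap A (B ⊗[A] B)) (Algebra.TensorProduct.includeRight : B →ₐ[A] B ⊗[A] B).comp_algebraMap str))
    ((yon S).map (bcQ φ (Algebra.TensorProduct.includeLeftRingHom : B →+* B ⊗[A] B)
        (algebraMap A (B ⊗[A] B)) rfl I str))
    ((yon S).map (bcQ φ (Algebra.TensorProduct.includeRight : B →ₐ[A] B ⊗[A] B).toRingHom
        (algebraMap A (B ⊗[A] B)) (Algebra.TensorProduct.includeRight : B →ₐ[A] B ⊗[A] B).comp_algebraMap I str))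
    ((yon S).map (stdJ (B ⊗[A] B) (I.map (algebraMap A (B ⊗[A] B)))
      (Spec.map (CommRingCat.ofHom (algebraMap A (B ⊗[A] B))) ≫ str)))
    ?_ ?_ ?_ ?_ (hbu _ _ (map_sq _ I hI) _) ?_
  · rw [← Functor.map_comp, ← Functor.map_comp, bc_comm]
  · rw [Category.assoc, Category.assoc, hsq.w, ← Functor.map_comp_assoc, ← Functor.map_comp_assoc,
      Category.assoc, hk, hκ]
  · rw [← Functor.map_comp, ← Functor.map_comp, bcP_bcW, bcP_bcW]
  · rw [← Functor.map_comp, ← Functor.map_comp, bcQ_bcWT, bcQ_bcWT]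
  · rw [← Functor.map_comp, ← Functor.map_comp, stdJ_bcP]
  · rw [← Functor.map_comp, ← Functor.map_comp, stdJ_bcP]
  · intro m hm
    exact exists_desc str m hm

end K634.Top
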