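import Groth.Agent.AlgSp.K634.RetractFF
import Groth.Agent.AlgSp.K634.AffPair
import Groth.Agent.AlgSp.K634.Top
import Groth.Agent.AlgSp.K635.Univ

/-!
# Infinitesimal lifting from a formally smooth chart, given the universal first order thickening
-/

set_option autoImplicit false

universe u

open CategoryTheory CategoryTheory.Limits AlgebraicGeometry Opposite

namespace K634.FSLift

open AlgSp K634.Quot K634.Formal K634.AffPair K634.Top K634.RetractFF K635.Thick

variable {S : Scheme.{u}}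

/-- `Spec E' ⟶ Spec E` over `S`. -/
noncomputable abbrev spJ {E E' : CommRingCat.{u}} (q : E ⟶ E') (str : Spec E ⟶ S) :
    Over.mk (Spec.map q ≫ str) ⟶ Over.mk str := Over.homMk (Spec.map q) rfl

theorem ker_mul_ker {E E' : CommRingCat.{u}} (q : E ⟶ E') (h : RingHom.ker q.hom ^ 2 = ⊥) :
    (Spec.map q).ker * (Spec.map q).ker = ⊥ := by
  rw [← pow_two]
  exact Groth.Agent.UnramB.FirstOrderNbhd.ker_sq_SpecMap q h

theorem isFO_spec {E E' : CommRingCat.{u}} (q : E ⟶ E') (hq : Function.Surjective q.hom)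
    (h : RingHom.ker q.hom ^ 2 = ⊥) : MoreMor.IsFirstOrderThickening (Spec.map q) :=
  ⟨⟨IsClosedImmersion.spec_of_surjective q hq,
    Groth.Agent.UnramB.FirstOrderNbhd.surjective_SpecMap_of_ker_sq q hq h⟩, ker_mul_ker q h⟩

theorem smooth_lft_of_spec {F G : Sp S} {f : F ⟶ G} (hf : IsFormallySmoothMor f) {E E' : CommRingCat.{u}}
    (q : E ⟶ E') (hq : Function.Surjective q.hom) (h : RingHom.ker q.hom ^ 2 = ⊥) {str : Spec E ⟶ S}
    {str' : Spec E' ⟶ S} (j : Over.mk str' ⟶ Over.mk str) (hj : j.left = Spec.map q) :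
    Lft ((yon S).map j) f := by
  have : IsAffine (Over.mk str).left := inferInstanceAs (IsAffine (Spec E))
  have : IsClosedImmersion j.left := by
    rw [hj]; exact IsClosedImmersion.spec_of_surjective q hq
  refine smooth_lft hf j ?_
  rw [hj]
  exact ker_mul_ker q h

theorem mul_eq_zero_of_sqZero {E E' : CommRingCat.{u}} (q : E ⟶ E') (h : (Spec.map q).ker * (Spec.map q).ker = ⊥)
    (x y : E) (hx : q x = 0) (hy : q y = 0) : x * y = 0 := by
  have := congrArg (fun J => J.ideal ⟨⊤, isAffineOpen_top (Spec E)⟩) h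
  simp only [Scheme.IdealSheafData.ideal_mul, Pi.mul_apply, Scheme.IdealSheafData.ideal_bot,
    Pi.bot_apply] at this
  rw [Scheme.Hom.ker_apply] at this
  have key : ∀ z : E, q z = 0 → (Scheme.ΓSpecIso E).inv.hom z ∈ RingHom.ker (Spec.map q).appTop.hom := by
    intro z hz
    rw [RingHom.mem_ker]
    have h1 := congr($(Scheme.ΓSpecIso_inv_naturality q).hom z)
    simp only [CommRingCat.hom_comp, RingHom.comp_apply] at h1
    refine h1.symm.trans ?_
    have : q.hom z = 0 := hz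
    rw [this, map_zero]
  have h2 := Ideal.mul_mem_mul (key x hx) (key y hy)
  have h3 : (Scheme.ΓSpecIso E).inv.hom (x * y) = 0 := by
    rw [map_mul]
    have h4 : RingHom.ker (Spec.map q).appTop.hom * RingHom.ker (Spec.map q).appTop.hom = ⊥ := this
    rw [h4] at h2
    exact h2
  have h5 : Function.Injective (Scheme.ΓSpecIso E).inv.hom :=
    (ConcreteCategory.bijective_of_isIso (Scheme.ΓSpecIso E).inv).1
  exact h5 (by rw [h3, map_zero])

/-- The diagram chase: maps out of the universal first order thickening lift along `jE`. -/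
theorem core {T0 TE TT X0 Z P : Over S} {X U : Sp S} {σ : (yon S).obj X0 ⟶ X} {k : X0 ⟶ Z}
    {hC : (yon S).obj Z ⟶ X} (HU : IsUnivFOThick σ ((yon S).map k) hC) {ζ : X ⟶ (yon S).obj P}
    {g₀ : Z ⟶ P} (hg₀ : (yon S).map g₀ = hC ≫ ζ) {p : U ⟶ X} {v : (yon S).obj T0 ⟶ U} {w : T0 ⟶ X0}
    (hv : v ≫ p = (yon S).map w ≫ σ) (j0 : T0 ⟶ TE) (jE : TE ⟶ TT) (θ : TE ⟶ Z) (β : TT ⟶ P)
    (e1 : j0 ≫ θ = w ≫ k) (e2 : θ ≫ g₀ = jE ≫ β) (L0 : Lft ((yon S).map j0) p)
    (LE : Lft ((yon S).map jE) (p ≫ ζ)) (hfo1 : MoreMor.IsFirstOrderThickening (j0 ≫ jE).left)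
    (hfo2 : MoreMor.IsFirstOrderThickening j0.left) : ∃ y : TT ⟶ Z, jE ≫ y = θ ∧ y ≫ g₀ = β := by
  have e1' : (yon S).map j0 ≫ (yon S).map θ = (yon S).map w ≫ (yon S).map k := by
    rw [← Functor.map_comp, e1, Functor.map_comp]
  have e2' : (yon S).map θ ≫ (yon S).map g₀ = (yon S).map jE ≫ (yon S).map β := by
    rw [← Functor.map_comp, e2, Functor.map_comp]
  obtain ⟨a'', ha1, ha2⟩ := L0 v ((yon S).map θ ≫ hC) (by
    rw [hv, ← Category.assoc, e1', Category.assoc, HU.2.1])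
  obtain ⟨l, hl1, hl2⟩ := LE a'' ((yon S).map β) (by
    rw [← Category.assoc, ha2, Category.assoc, ← hg₀, e2'])
  have hjl : (yon S).map jE ≫ l ≫ p = (yon S).map θ ≫ hC := by
    rw [← Category.assoc, hl1, ha2]
  obtain ⟨y', hy1, hy2⟩ := (K635.Univ.existsUnique_scheme HU (j0 ≫ jE) hfo1 ((yon S).map w) (l ≫ p)
    (by rw [Functor.map_comp, Category.assoc, hjl, ← Category.assoc, e1', Category.assoc, HU.2.1])).exists
  obtain ⟨y₀, rfl⟩ := (yon S).map_surjective y'
  refine ⟨y₀, ?_, ?_⟩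
  · have h3 := (K635.Univ.existsUnique_scheme HU j0 hfo2 ((yon S).map w) ((yon S).map θ ≫ hC)
      (by rw [← Category.assoc, e1', Category.assoc, HU.2.1])).unique
      (y₁ := (yon S).map (jE ≫ y₀)) (y₂ := (yon S).map θ)
      ⟨by rw [← Functor.map_comp, ← Category.assoc, Functor.map_comp, hy1], by
        rw [Functor.map_comp, Category.assoc, hy2, hjl]⟩ ⟨e1', rfl⟩
    exact (yon S).map_injective h3
  · exact (yon S).map_injective (by
      rw [Functor.map_comp, hg₀, ← Category.assoc, hy2, Category.assoc, hl2])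

section

variable {A : Type u} [CommRing A] {I : Ideal A} (hI : I ^ 2 = ⊥) {str : Spec (.of A) ⟶ S} {X : Sp S}
  {ζ : X ⟶ (yon S).obj (Over.mk str)}
  {σ : (yon S).obj (Over.mk (Spec.map (CommRingCat.ofHom (Ideal.Quotient.mk I)) ≫ str)) ⟶ X}
  (hσ : σ ≫ ζ = (yon S).map (stdJ A I str))
  {U : Sp S} {p : U ⟶ X} (hp : IsFormallySmoothMor p) (hpζ : IsFormallySmoothMor (p ≫ ζ))
  {B : Type u} [CommRing B] {φ : A →+* B} (hφ : Etale (Spec.map (CommRingCat.ofHom φ)))
  (hφ' : Surjective (Spec.map (CommRingCat.ofHom φ)))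
  {v : (yon S).obj (Over.mk (Spec.map (CommRingCat.ofHom (Ideal.Quotient.mk (I.map φ))) ≫
    Spec.map (CommRingCat.ofHom φ) ≫ str)) ⟶ U} (hv : v ≫ p = (yon S).map (bcWT φ I str) ≫ σ)
  {C : CommRingCat.{u}} {strC : Spec C ⟶ S}
  {k : Over.mk (Spec.map (CommRingCat.ofHom (Ideal.Quotient.mk I)) ≫ str) ⟶ Over.mk strC}
  {hC : (yon S).obj (Over.mk strC) ⟶ X} (HU : IsUnivFOThick σ ((yon S).map k) hC)

include hI hσ hp hpζ hφ hφ' hv HU

theorem exists_lift_of_univ : ∃ ℓ : (yon S).obj (Over.mk str) ⟶ X,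
    (yon S).map (stdJ A I str) ≫ ℓ = σ ∧ ℓ ≫ ζ = 𝟙 _ := by
  obtain ⟨g₀, hg₀⟩ := (yon S).map_surjective (hC ≫ ζ)
  obtain ⟨γ, hγ⟩ : ∃ γ : CommRingCat.of A ⟶ C, g₀.left = Spec.map γ := ⟨Spec.preimage g₀.left, (Spec.map_preimage _).symm⟩
  obtain ⟨κ, hκ⟩ : ∃ κ : C ⟶ CommRingCat.of (A ⧸ I), k.left = Spec.map κ :=
    ⟨Spec.preimage k.left, (Spec.map_preimage _).symm⟩
  have hkg : k ≫ g₀ = stdJ A I str := (yon S).map_injective (by
    rw [Functor.map_comp, hg₀, reassoc_of% HU.2.1, hσ])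
  have hγκ : γ ≫ κ = CommRingCat.ofHom (Ideal.Quotient.mk I) := Spec.map_injective (by
    rw [Spec.map_comp, ← hκ, ← hγ]
    exact congrArg (fun f => f.left) hkg)
  have hg : Spec.map γ ≫ str = strC := by rw [← hγ]; exact Over.w g₀
  have hfo := (isFOThickMor_yon_map_iff k).1 HU.1
  have hK : ∀ x y : C, κ x = 0 → κ y = 0 → x * y = 0 := by
    refine mul_eq_zero_of_sqZero κ ?_
    rw [← hκ]
    exact hfo.2
  have hφf : φ.FaithfullyFlat := by
    have : Flat (Spec.map (CommRingCat.ofHom φ)) := inferInstance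
    exact (flat_and_surjective_SpecMap_iff _).1 ⟨this, hφ'⟩
  have hφ₀ : (qmap φ I).FaithfullyFlat := by
    have h1 : Flat (Spec.map (CommRingCat.ofHom (qmap φ I))) :=
      MorphismProperty.of_isPullback (P := @Flat) (isPullback_quot φ I) inferInstance
    have h2 : Surjective (Spec.map (CommRingCat.ofHom (qmap φ I))) :=
      MorphismProperty.of_isPullback (P := @Surjective) (isPullback_quot φ I) hφ'
    exact (flat_and_surjective_SpecMap_iff (CommRingCat.ofHom (qmap φ I))).1 ⟨h1, h2⟩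
  obtain ⟨r, hr1, hr2⟩ := exists_retraction_of_lift I hI φ hφf hφ₀ γ κ hγκ hK (by
    intro E E' β q'' p' hq'' hp' hker hβ θ hθγ hθp
    have hk1 : RingHom.ker q''.hom ^ 2 = ⊥ := by
      refine le_bot_iff.1 (le_trans (Ideal.pow_right_mono ?_ 2) hker.le)
      intro x hx
      rw [RingHom.mem_ker] at hx ⊢
      rw [CommRingCat.hom_comp, RingHom.comp_apply, hx, map_zero]
    have hk2 : RingHom.ker p'.hom ^ 2 = ⊥ := by
      have : RingHom.ker p'.hom = (RingHom.ker (q'' ≫ p').hom).map q''.hom := by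
        rw [CommRingCat.hom_comp, ← RingHom.comap_ker, Ideal.map_comap_of_surjective _ hq'']
      rw [this, ← Ideal.map_pow, hker, Ideal.map_bot]
    let jE : Over.mk (Spec.map q'' ≫ Spec.map β ≫ str) ⟶ Over.mk (Spec.map β ≫ str) := spJ q'' _
    let j0 : Over.mk (Spec.map (CommRingCat.ofHom (Ideal.Quotient.mk (I.map φ))) ≫
        Spec.map (CommRingCat.ofHom φ) ≫ str) ⟶ Over.mk (Spec.map q'' ≫ Spec.map β ≫ str) :=
      Over.homMk (Spec.map p') (by
        change Spec.map p' ≫ Spec.map q'' ≫ Spec.map β ≫ str =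
          Spec.map (CommRingCat.ofHom (Ideal.Quotient.mk (I.map φ))) ≫ Spec.map (CommRingCat.ofHom φ) ≫ str
        simp only [← Spec.map_comp_assoc, Category.assoc]
        rw [hβ]
        rfl)
    let θ' : Over.mk (Spec.map q'' ≫ Spec.map β ≫ str) ⟶ Over.mk strC := Over.homMk (Spec.map θ) (by
      change Spec.map θ ≫ strC = Spec.map q'' ≫ Spec.map β ≫ str
      rw [← hg, ← Spec.map_comp_assoc, hθγ, Spec.map_comp_assoc])
    let β' : Over.mk (Spec.map β ≫ str) ⟶ Over.mk str := Over.homMk (Spec.map β) rfl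
    have e1 : j0 ≫ θ' = bcWT φ I str ≫ k := by
      ext1
      change Spec.map p' ≫ Spec.map θ = Spec.map (CommRingCat.ofHom (qmap φ I)) ≫ k.left
      rw [hκ, ← Spec.map_comp, ← Spec.map_comp, hθp]
    have e2 : θ' ≫ g₀ = jE ≫ β' := by
      ext1
      change Spec.map θ ≫ g₀.left = Spec.map q'' ≫ Spec.map β
      rw [hγ, ← Spec.map_comp, ← Spec.map_comp, hθγ]
    obtain ⟨y₀, hy1, hy2⟩ := core HU hg₀ hv j0 jE θ' β' e1 e2
      (smooth_lft_of_spec hp p' hp' hk2 j0 rfl) (smooth_lft_of_spec hpζ q'' hq'' hk1 jE rfl) (by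
        have : (j0 ≫ jE).left = Spec.map (q'' ≫ p') := by
          rw [Spec.map_comp]; rfl
        rw [this]
        exact isFO_spec _ (hp'.comp hq'') hker) (isFO_spec p' hp' hk2)
    obtain ⟨y, hy⟩ : ∃ y : C ⟶ E, y₀.left = Spec.map y := ⟨Spec.preimage y₀.left, (Spec.map_preimage _).symm⟩
    refine ⟨y, ?_, ?_⟩
    · apply Spec.map_injective
      rw [Spec.map_comp, ← hy]
      exact congrArg (fun f => f.left) hy1
    · apply Spec.map_injective
      rw [Spec.map_comp, ← hy, ← hγ]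
      exact congrArg (fun f => f.left) hy2)
  let r' : Over.mk str ⟶ Over.mk strC := Over.homMk (Spec.map r) (by
    change Spec.map r ≫ strC = str
    rw [← hg, ← Spec.map_comp_assoc, hr1, Spec.map_id, Category.id_comp])
  refine ⟨(yon S).map r' ≫ hC, ?_, ?_⟩
  · have h1 : stdJ A I str ≫ r' = k := by
      ext1
      change Spec.map _ ≫ Spec.map r = k.left
      rw [hκ, ← Spec.map_comp, hr2]
    have h2 := congrArg (yon S).map h1
    rw [Functor.map_comp] at h2
    rw [reassoc_of% h2, HU.2.1]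
  · rw [Category.assoc, ← hg₀, ← Functor.map_comp]
    have : r' ≫ g₀ = 𝟙 _ := by
      ext1
      change Spec.map r ≫ g₀.left = 𝟙 _
      rw [hγ, ← Spec.map_comp, hr1, Spec.map_id]
    rw [this]
    exact CategoryTheory.Functor.map_id _ _

end

end K634.FSLift
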