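import Groth.Agent.AlgSp.K634.Top

/-!
# Infinitesimal lifting properties on étale charts
-/

set_option autoImplicit false

universe u v w

open CategoryTheory CategoryTheory.Limits AlgebraicGeometry Opposite

namespace K634.Charts

open K634.Formal K634.Desc K634.Quot K634.Top AlgSp

variable {S : Scheme.{u}} {F G H : Sp S}

theorem smooth_yon_map_iff {U V : Over S} (h : U ⟶ V) :
    IsFormallySmoothMor ((yon S).map h) ↔ MoreMor.IsFormallySmoothHom h.left := by
  rw [Formal.smooth_iff]
  constructor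
  · intro H A _ I hI a b w
    obtain ⟨l, h1, h2⟩ := (Lft.map_iff (yon S)).1 (H A I hI (b ≫ V.hom)) (Over.homMk a (by
        have e : h.left ≫ V.hom = U.hom := Over.w h
        simp only [Over.mk_left, Over.mk_hom]
        rw [← e, ← Category.assoc, ← w, Category.assoc])) (Over.homMk b rfl) (by
        ext1
        exact w.symm)
    exact ⟨l.left, congrArg (·.left) h1, congrArg (·.left) h2⟩
  · intro H A _ I hI str
    rw [Lft.map_iff]
    exact lft_over _ _ (lft_of_isFormallySmoothHom H A I hI)

theorem unramified_yon_map_iff {U V : Over S} (h : U ⟶ V) :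
    IsFormallyUnramifiedMor ((yon S).map h) ↔ FormallyUnramified h.left := by
  rw [unramified_iff]
  constructor
  · intro H
    refine FormallyUnramified.of_hom_ext _ ?_
    intro R T φ hφ hk g₁ g₂ h1 h2
    let I : Ideal R := RingHom.ker φ.hom
    let e : T ⟶ CommRingCat.of (R ⧸ I) :=
      CommRingCat.ofHom (RingHom.quotientKerEquivOfSurjective hφ).symm.toRingHom
    have he : CommRingCat.ofHom (Ideal.Quotient.mk I) = φ ≫ e := by
      ext x
      change Ideal.Quotient.mk I x = (RingHom.quotientKerEquivOfSurjective hφ).symm (φ.hom x)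
      rw [RingEquiv.eq_symm_apply]
      rfl
    have h3 : Spec.map (CommRingCat.ofHom (Ideal.Quotient.mk I)) ≫ g₁ =
        Spec.map (CommRingCat.ofHom (Ideal.Quotient.mk I)) ≫ g₂ := by
      rw [he, Spec.map_comp, Category.assoc, Category.assoc, h1]
    have eU : h.left ≫ V.hom = U.hom := Over.w h
    have := (Unq.map_iff (yon S)).1 (H R I hk (g₁ ≫ U.hom)) (Over.homMk g₁ rfl) (Over.homMk g₂ (by
        simp only [Over.mk_left, Over.mk_hom]
        rw [← eU, ← Category.assoc, ← Category.assoc, h2])) (by ext1; exact h3) (by ext1; exact h2)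
    exact congrArg (·.left) this
  · intro H A _ I hI str
    rw [Unq.map_iff]
    exact unq_over _ _ (unq_of_formallyUnramified _ A I hI)

theorem isFormallyEtaleHom_iff {X Y : Scheme.{u}} (f : X ⟶ Y) :
    MoreMor.IsFormallyEtaleHom f ↔ MoreMor.IsFormallySmoothHom f ∧ FormallyUnramified f := by
  constructor
  · intro h
    exact ⟨Groth.Agent.Flat2H.FSHom.isFormallySmoothHom_of_isFormallyEtaleHom f h,
      Groth.Agent.Flat2H.FSHom.formallyUnramified_of_isFormallyEtaleHom f h⟩
  · rintro ⟨h1, h2⟩ A _ I hI a b w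
    obtain ⟨l, hl1, hl2⟩ := h1 A I hI a b w
    exact ⟨l, ⟨hl1, hl2⟩, fun l' h' => unq_of_formallyUnramified f A I hI l' l
      (h'.1.trans hl1.symm) (h'.2.trans hl2.symm)⟩

theorem etale_yon_map_iff {U V : Over S} (h : U ⟶ V) :
    IsFormallyEtaleMor ((yon S).map h) ↔ MoreMor.IsFormallyEtaleHom h.left := by
  rw [Formal.etale_iff, isFormallyEtaleHom_iff, smooth_yon_map_iff, unramified_yon_map_iff]

/-- A morphism of algebraic spaces has an étale surjective chart diagram. -/
theorem exists_chart (f : F ⟶ G) (hF : IsAlgSpace F) (hG : IsAlgSpace G) :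
    ∃ (U V : Over S) (a : (yon S).obj U ⟶ F) (b : (yon S).obj V ⟶ G) (h : U ⟶ V),
      RepWith @Etale a ∧ RepWith @Surjective a ∧ RepWith @Etale b ∧ RepWith @Surjective b ∧
        a ≫ f = (yon S).map h ≫ b := by
  obtain ⟨V, b, hb1, hb2⟩ := hG.atlas
  obtain ⟨U₀, a₀, ha1, ha2⟩ := hF.atlas
  obtain ⟨U, snd, fst, hsq⟩ := hb1.1 (a₀ ≫ f)
  obtain ⟨h, rfl⟩ := (yon S).map_surjective fst
  refine ⟨U, V, (yon S).map snd ≫ a₀, b, h, ?_, ?_, hb1, hb2, ?_⟩
  · exact (RepWith @Etale).comp_mem _ _ ((repWith_yon_map_iff _ _).2 (hb1.2 _ _ _ hsq)) ha1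
  · exact (RepWith @Surjective).comp_mem _ _ ((repWith_yon_map_iff _ _).2 (hb2.2 _ _ _ hsq)) ha2
  · rw [Category.assoc, hsq.w]

section Charts

variable {f : F ⟶ G} {U V : Over S} {a : (yon S).obj U ⟶ F} {b : (yon S).obj V ⟶ G} {h : U ⟶ V}

theorem unramified_of_chart (ha : RepWith @Etale a) (ha' : RepWith @Surjective a)
    (hb : RepWith @Etale b) (w : a ≫ f = (yon S).map h ≫ b) (hh : FormallyUnramified h.left) :
    IsFormallyUnramifiedMor f := by
  refine unramified_of_top ha ha' ?_
  rw [w]
  exact unramified_comp ((unramified_yon_map_iff h).2 hh) (Formal.etale_iff.1 (etale_of_repWith_etale hb)).2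

theorem etale_of_chart (ha : RepWith @Etale a) (ha' : RepWith @Surjective a)
    (hb : RepWith @Etale b) (w : a ≫ f = (yon S).map h ≫ b) (hh : MoreMor.IsFormallyEtaleHom h.left) :
    IsFormallyEtaleMor f := by
  refine etale_of_top ha ha' ?_
  rw [w]
  exact etale_comp ((etale_yon_map_iff h).2 hh) (etale_of_repWith_etale hb)

theorem chart_unramified (ha : RepWith @Etale a) (w : a ≫ f = (yon S).map h ≫ b)
    (hf : IsFormallyUnramifiedMor f) : FormallyUnramified h.left := by
  rw [← unramified_yon_map_iff]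
  refine unramified_of_comp (b := b) ?_
  rw [← w]
  exact unramified_comp (Formal.etale_iff.1 (etale_of_repWith_etale ha)).2 hf

theorem chart_smooth (ha : RepWith @Etale a) (hb : RepWith @Etale b) (w : a ≫ f = (yon S).map h ≫ b)
    (hf : IsFormallySmoothMor f) : MoreMor.IsFormallySmoothHom h.left := by
  rw [← smooth_yon_map_iff]
  refine smooth_of_comp (b := b) (Formal.etale_iff.1 (etale_of_repWith_etale hb)).2 ?_
  rw [← w]
  exact smooth_comp (Formal.etale_iff.1 (etale_of_repWith_etale ha)).1 hf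

theorem chart_etale (ha : RepWith @Etale a) (hb : RepWith @Etale b) (w : a ≫ f = (yon S).map h ≫ b)
    (hf : IsFormallyEtaleMor f) : MoreMor.IsFormallyEtaleHom h.left := by
  rw [isFormallyEtaleHom_iff]
  rw [Formal.etale_iff] at hf
  exact ⟨chart_smooth ha hb w hf.1, chart_unramified ha w hf.2⟩

end Charts

theorem unramified_iff_locP (f : F ⟶ G) (hF : IsAlgSpace F) (hG : IsAlgSpace G) :
    IsFormallyUnramifiedMor f ↔ LocP @FormallyUnramified f := by
  constructor
  · intro hf U V a b h ha hb w
    exact chart_unramified ha w hf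
  · intro H
    obtain ⟨U, V, a, b, h, ha, ha', hb, -, w⟩ := exists_chart f hF hG
    exact unramified_of_chart ha ha' hb w (H a b h ha hb w)

theorem etale_iff_locP (f : F ⟶ G) (hF : IsAlgSpace F) (hG : IsAlgSpace G) :
    IsFormallyEtaleMor f ↔ LocP @MoreMor.IsFormallyEtaleHom f := by
  constructor
  · intro hf U V a b h ha hb w
    exact chart_etale ha hb w hf
  · intro H
    obtain ⟨U, V, a, b, h, ha, ha', hb, -, w⟩ := exists_chart f hF hG
    exact etale_of_chart ha ha' hb w (H a b h ha hb w)

end K634.Charts
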