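import Groth.Agent.AlgSp.K634.UnivAff
import Groth.Agent.AlgSp.K634.FSLift
import Groth.Agent.AlgSp.K634.Charts

/-!
# Formal smoothness of morphisms of algebraic spaces is checked on one étale surjective chart
-/

set_option autoImplicit false

universe u

open CategoryTheory CategoryTheory.Limits AlgebraicGeometry Opposite

namespace K634.SmoothLoc

open AlgSp K634.Quot K634.Formal K634.Top

variable {S : Scheme.{u}}

/-- A map from `Spec (A/I)` lifts to an étale surjective chart after an étale cover `A → B`. -/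
theorem exists_cover_lift {A : Type u} [CommRing A] {I : Ideal A} (hI : I ^ 2 = ⊥) {str : Spec (.of A) ⟶ S} {X : Sp S}
    (σ : (yon S).obj (Over.mk (Spec.map (CommRingCat.ofHom (Ideal.Quotient.mk I)) ≫ str)) ⟶ X)
    {U : Over S} {p : (yon S).obj U ⟶ X} (hp : RepWith @Etale p) (hps : RepWith @Surjective p) :
    ∃ (B : Type u) (_ : CommRing B) (φ : A →+* B)
      (v : (yon S).obj (Over.mk (Spec.map (CommRingCat.ofHom (Ideal.Quotient.mk (I.map φ))) ≫
        Spec.map (CommRingCat.ofHom φ) ≫ str)) ⟶ (yon S).obj U),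
      Etale (Spec.map (CommRingCat.ofHom φ)) ∧ Surjective (Spec.map (CommRingCat.ofHom φ)) ∧
        v ≫ p = (yon S).map (bcWT φ I str) ≫ σ := by
  obtain ⟨V, snd, fst, hsq⟩ := hp.1 σ
  have e1 : Etale snd.left := hp.2 _ _ _ hsq
  have e2 : Surjective snd.left := hps.2 _ _ _ hsq
  obtain ⟨B₀, _, φ₀, k, hφ₀, hφ₀', -, hk⟩ :=
    exists_algebra_cover (A := A ⧸ I) (Spec.map (CommRingCat.ofHom (Ideal.Quotient.mk I)) ≫ str) snd
  have hnil : ∀ x ∈ I, IsNilpotent x := fun x hx => ⟨2, by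
    have : x ^ 2 ∈ I ^ 2 := Ideal.pow_mem_pow hx 2
    rwa [hI] at this⟩
  obtain ⟨B, _, φ, ψ, hφ, hφ', hψ⟩ := exists_etale_lift I hnil φ₀ hφ₀ hφ₀'
  let κ : Over.mk (Spec.map (CommRingCat.ofHom (Ideal.Quotient.mk (I.map φ))) ≫
      Spec.map (CommRingCat.ofHom φ) ≫ str) ⟶
      Over.mk (Spec.map (CommRingCat.ofHom φ₀) ≫ Spec.map (CommRingCat.ofHom (Ideal.Quotient.mk I)) ≫ str) :=
    Over.homMk (Spec.map (CommRingCat.ofHom ψ)) (by
      simp only [Over.mk_left, Over.mk_hom]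
      rw [← Spec.map_comp_assoc, ← CommRingCat.ofHom_comp, hψ, ← Spec.map_comp_assoc, ← Spec.map_comp_assoc]
      rfl)
  have hκ : κ ≫ bcW φ₀ (Spec.map (CommRingCat.ofHom (Ideal.Quotient.mk I)) ≫ str) = bcWT φ I str := by
    ext1
    simp only [Over.comp_left, Over.homMk_left, κ]
    rw [← Spec.map_comp, ← CommRingCat.ofHom_comp, hψ]
  refine ⟨B, inferInstance, φ, (yon S).map κ ≫ (yon S).map k ≫ fst, hφ, hφ', ?_⟩
  rw [Category.assoc, Category.assoc, hsq.w, ← Functor.map_comp_assoc, ← Functor.map_comp_assoc,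
    Category.assoc, hk, hκ]

/-- Formal smoothness descends along representable étale surjective maps on top. -/
theorem smooth_of_top {F G : Sp S} (hF : IsAlgSpace F) (hG : IsAlgSpace G) {U : Over S}
    {a : (yon S).obj U ⟶ F} {f : F ⟶ G} (ha : RepWith @Etale a) (ha' : RepWith @Surjective a)
    (haf : IsFormallySmoothMor (a ≫ f)) : IsFormallySmoothMor f := by
  rw [Formal.smooth_iff]
  intro A _ I hI str t c hc
  obtain ⟨X, pr, ζ, sq⟩ : ∃ (X : Sp S) (pr : X ⟶ F) (ζ : X ⟶ (yon S).obj (Over.mk str)),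
    IsPullback pr ζ f c := ⟨_, _, _, IsPullback.of_hasPullback _ _⟩
  have hX : IsAlgSpace X := K613.Chart.isAlgSpace_of_isPullback hG.diag hF (IsAlgSpace.yon_obj _) sq
  obtain ⟨W, α, c', sqW⟩ := Functor.relativelyRepresentable.of_diag hG.diag (a ≫ f) c
  obtain ⟨p, hp1, hp2⟩ : ∃ p : (yon S).obj W ⟶ X, p ≫ pr = c' ≫ a ∧ p ≫ ζ = (yon S).map α :=
    ⟨sq.lift (c' ≫ a) ((yon S).map α) (by rw [Category.assoc]; exact sqW.w), sq.lift_fst _ _ _, sq.lift_snd _ _ _⟩
  have sqp : IsPullback c' p a pr := by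
    refine IsPullback.of_bot ?_ hp1.symm sq
    rw [hp2]
    exact sqW
  have hpe : RepWith @Etale p := MorphismProperty.of_isPullback (P := RepWith @Etale) sqp ha
  have hps : RepWith @Surjective p := MorphismProperty.of_isPullback (P := RepWith @Surjective) sqp ha'
  have hpζ : IsFormallySmoothMor (p ≫ ζ) := by
    rw [hp2]
    exact smooth_of_isPullback sqW haf
  obtain ⟨σ, hσ1, hσ2⟩ : ∃ σ : (yon S).obj (Over.mk (Spec.map (CommRingCat.ofHom (Ideal.Quotient.mk I)) ≫ str)) ⟶ X,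
      σ ≫ pr = t ∧ σ ≫ ζ = (yon S).map (stdJ A I str) :=
    ⟨sq.lift t _ hc, sq.lift_fst _ _ _, sq.lift_snd _ _ _⟩
  obtain ⟨B, _, φ, v, hφ, hφ', hv⟩ := exists_cover_lift hI σ hpe hps
  obtain ⟨C, strC, k, hC, HU⟩ := K634.UnivAff.exists_univ_affine hX hσ2 hpe hφ hφ' hv
  obtain ⟨ℓ, h1, h2⟩ := K634.FSLift.exists_lift_of_univ hI hσ2
    (Formal.etale_iff.1 (Formal.etale_of_repWith_etale hpe)).1 hpζ hφ hφ' hv HU
  refine ⟨ℓ ≫ pr, ?_, ?_⟩
  · rw [← Category.assoc, h1, hσ1]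
  · rw [Category.assoc, sq.w, ← Category.assoc, h2, Category.id_comp]

theorem smooth_of_chart {F G : Sp S} (hF : IsAlgSpace F) (hG : IsAlgSpace G) {f : F ⟶ G} {U V : Over S}
    {a : (yon S).obj U ⟶ F} {b : (yon S).obj V ⟶ G} {h : U ⟶ V} (ha : RepWith @Etale a)
    (ha' : RepWith @Surjective a) (hb : RepWith @Etale b) (w : a ≫ f = (yon S).map h ≫ b)
    (hh : MoreMor.IsFormallySmoothHom h.left) : IsFormallySmoothMor f := by
  refine smooth_of_top hF hG ha ha' ?_
  rw [w]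
  exact smooth_comp ((K634.Charts.smooth_yon_map_iff h).2 hh) (Formal.etale_iff.1 (Formal.etale_of_repWith_etale hb)).1

theorem smooth_iff_locP {F G : Sp S} (hF : IsAlgSpace F) (hG : IsAlgSpace G) (f : F ⟶ G) :
    IsFormallySmoothMor f ↔ LocP @MoreMor.IsFormallySmoothHom f := by
  constructor
  · intro hf U V a b h ha hb w
    exact K634.Charts.chart_smooth ha hb w hf
  · intro H
    obtain ⟨U, V, a, b, h, ha, ha', hb, -, w⟩ := K634.Charts.exists_chart f hF hG
    exact smooth_of_chart hF hG ha ha' hb w (H a b h ha hb w)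

end K634.SmoothLoc
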