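import Groth.Agent.AlgSp.K597.Affine
import Groth.Agent.AlgSp.K635.Thick

/-!
# Finite and integral morphisms of sheaves are representable
-/

set_option autoImplicit false

universe u

open CategoryTheory CategoryTheory.Limits AlgebraicGeometry Opposite

namespace K634.FiniteMor

open AlgSp K635.Thick

variable {S : Scheme.{u}} {F G : Sp S} {f : F ⟶ G}

/-- Two represented pullbacks of `f` along the same map have isomorphic projections. -/
theorem prop_of_isPullback {P : MorphismProperty Scheme.{u}} [P.RespectsIso] {U V V' : Over S} {g : (yon S).obj U ⟶ G}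
    {fst : (yon S).obj V ⟶ F} {snd : V ⟶ U} (sq : IsPullback fst ((yon S).map snd) f g)
    {fst' : (yon S).obj V' ⟶ F} {snd' : V' ⟶ U} (sq' : IsPullback fst' ((yon S).map snd') f g)
    (h : P snd.left) : P snd'.left := by
  let e : V' ≅ V := (yon S).preimageIso (sq'.isoIsPullback _ _ sq)
  have he : e.hom ≫ snd = snd' := (yon S).map_injective (by
    rw [Functor.map_comp, Functor.preimageIso_hom, Functor.map_preimage]
    exact sq'.isoIsPullback_hom_snd _ _ sq)
  rw [← he, Over.comp_left]
  have : IsIso e.hom.left := inferInstanceAs (IsIso ((Over.forget S).map e.hom))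
  exact (P.cancel_left_of_respectsIso _ _).2 h

/-- A property that is Zariski local on the target can be tested on represented pullbacks to affine schemes. -/
theorem repWith_of_affine {P : MorphismProperty Scheme.{u}} [IsZariskiLocalAtTarget P] (hf : Representable f)
    (h : ∀ (Z : Over S), IsAffine Z.left → ∀ (g : (yon S).obj Z ⟶ G), ∃ (W : Over S) (i : W ⟶ Z)
      (fst : (yon S).obj W ⟶ F), IsPullback fst ((yon S).map i) f g ∧ P i.left) : RepWith P f := by
  refine ⟨hf, fun U V g fst snd sq => ?_⟩
  change P snd.left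
  rw [IsZariskiLocalAtTarget.iff_of_openCover (P := P) U.left.affineCover]
  intro j
  let c : Over.mk (U.left.affineCover.f j ≫ U.hom) ⟶ U := Over.homMk (U.left.affineCover.f j) rfl
  have hc : IsAffine (Over.mk (U.left.affineCover.f j ≫ U.hom)).left :=
    inferInstanceAs (IsAffine (U.left.affineCover.X j))
  obtain ⟨W, i, fst', sq', hP⟩ := h _ hc ((yon S).map c ≫ g)
  have h1 := prop_of_isPullback (P := P) sq' (exists_pullback_comp sq c) hP
  have h2 : IsPullback (pullback.fst snd c).left (pullback.snd snd c).left snd.left (U.left.affineCover.f j) :=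
    (IsPullback.of_hasPullback snd c).map (Over.forget S)
  have h3 := IsPullback.of_hasPullback snd.left (U.left.affineCover.f j)
  change P (pullback.snd snd.left (U.left.affineCover.f j))
  rw [← h3.isoIsPullback_hom_snd _ _ h2]
  exact (P.cancel_left_of_respectsIso _ _).2 h1

theorem isAffineMor_of_isFiniteMor (h : IsFiniteMor f) : IsAffineMor f := fun Z hZ g => by
  obtain ⟨W, i, fst, sq, hW, -⟩ := h hZ g
  exact ⟨W, i, fst, sq, hW⟩

theorem isAffineMor_of_isIntegralMor (h : IsIntegralMor f) : IsAffineMor f := fun Z hZ g => by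
  obtain ⟨W, i, fst, sq, hW, -⟩ := h hZ g
  exact ⟨W, i, fst, sq, hW⟩

theorem isFiniteMor_iff : IsFiniteMor f ↔ RepWith @IsFinite f := by
  constructor
  · intro h
    refine repWith_of_affine (K597.Affine.repWith_of_isAffineMor (isAffineMor_of_isFiniteMor h)).1 fun Z hZ g => ?_
    obtain ⟨W, i, fst, sq, hW, hi⟩ := h hZ g
    exact ⟨W, i, fst, sq, hi⟩
  · intro h Z hZ g
    obtain ⟨W, i, fst, sq⟩ := h.1 g
    have hi : IsFinite i.left := h.2 _ _ _ sq
    exact ⟨W, i, fst, sq, isAffine_of_isAffineHom i.left, hi⟩

theorem isIntegralMor_iff : IsIntegralMor f ↔ RepWith @IsIntegralHom f := by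
  constructor
  · intro h
    refine repWith_of_affine (K597.Affine.repWith_of_isAffineMor (isAffineMor_of_isIntegralMor h)).1 fun Z hZ g => ?_
    obtain ⟨W, i, fst, sq, hW, hi⟩ := h hZ g
    exact ⟨W, i, fst, sq, hi⟩
  · intro h Z hZ g
    obtain ⟨W, i, fst, sq⟩ := h.1 g
    have hi : IsIntegralHom i.left := h.2 _ _ _ sq
    exact ⟨W, i, fst, sq, isAffine_of_isAffineHom i.left, hi⟩

end K634.FiniteMor
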