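import Groth.Agent.AlgSp.K634.FpqcOpn
import Groth.Agent.HTop.K344.FpLimit
import Groth.Agent.AlgSp.K651.PinchMain

/-!
# Fpqc coverings of an affine base: reduction to a faithfully flat algebra
-/

set_option autoImplicit false
set_option backward.isDefEq.respectTransparency false
universe u
open CategoryTheory CategoryTheory.Limits AlgebraicGeometry Opposite
open AlgSp K628.Fqc K651.FpqcSh K613.Basic K625.Prod

namespace K634.FpqcAff

/-- An `A`-algebra as an object over `Spec A`. -/
noncomputable abbrev spec (A : Type u) [CommRing A] (B : Type u) [CommRing B] [Algebra A B] :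
    Over (Spec (CommRingCat.of A)) := Over.mk (Spec.map (CommRingCat.ofHom (algebraMap A B)))

/-- A morphism of algebras as a morphism over `Spec A`. -/
noncomputable def specHom {A : Type u} [CommRing A] {B C : Type u} [CommRing B] [Algebra A B] [CommRing C] [Algebra A C]
    (φ : C →ₐ[A] B) : spec A B ⟶ spec A C := Over.homMk (Spec.map (CommRingCat.ofHom φ.toRingHom)) (by
      change Spec.map _ ≫ Spec.map _ = Spec.map _
      rw [← Spec.map_comp, ← CommRingCat.ofHom_comp]
      congr 2
      exact φ.comp_algebraMap)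

theorem toBase_ext {S : Scheme.{u}} {T : Over S} (a b : T ⟶ Over.mk (𝟙 S)) : a = b := by
  ext1
  have h1 : a.left = T.hom := (Category.comp_id _).symm.trans (Over.w a)
  have h2 : b.left = T.hom := (Category.comp_id _).symm.trans (Over.w b)
  rw [h1, h2]

variable {A : Type u} [CommRing A]

/-- A flat surjective quasi-compact scheme over `Spec A` is covered by the spectrum of a faithfully flat algebra. -/
theorem exists_cover (T : Over (Spec (CommRingCat.of A))) [Flat T.hom] [Surjective T.hom] [QuasiCompact T.hom] :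
    ∃ (B : Type u) (_ : CommRing B) (_ : Algebra A B) (t : spec A B ⟶ T), Module.Flat A B ∧
      Function.Surjective (PrimeSpectrum.comap (algebraMap A B)) ∧ FqC (toBase (spec A B)) := by
  have hc : CompactSpace T.left := QuasiCompact.compactSpace_of_compactSpace T.hom
  obtain ⟨Z₀, r, hrs, hrl, hZ₀⟩ := T.left.exists_hom_isAffine_of_isZariskiLocalAtSource @IsLocalIso
  have hrf : Flat r := IsLocalIso.le_of_isZariskiLocalAtSource @Flat _ _ _ hrl
  let χ : CommRingCat.of A ⟶ Γ(Z₀, ⊤) := Spec.preimage (Z₀.isoSpec.inv ≫ r ≫ T.hom)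
  have hχ : Spec.map χ = Z₀.isoSpec.inv ≫ r ≫ T.hom := Spec.map_preimage _
  let _ : Algebra A Γ(Z₀, ⊤) := χ.hom.toAlgebra
  have h1 : Flat (Spec.map χ) := by rw [hχ]; infer_instance
  have h2 : Surjective (Spec.map χ) := by rw [hχ]; infer_instance
  let t : spec A Γ(Z₀, ⊤) ⟶ T := Over.homMk (Z₀.isoSpec.inv ≫ r) (by
    change (Z₀.isoSpec.inv ≫ r) ≫ T.hom = Spec.map χ
    rw [hχ, Category.assoc])
  have h3 : IsAffineHom (Spec.map χ) := inferInstance
  have h4 : QuasiCompact (Spec.map χ) := inferInstance
  refine ⟨Γ(Z₀, ⊤), inferInstance, inferInstance, t, ?_, h2.surj, ⟨h1, h4, h2⟩⟩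
  rw [HasRingHomProperty.Spec_iff (P := @Flat)] at h1
  exact (RingHom.flat_algebraMap_iff).1 h1

/-- The cartesian square over a faithfully flat algebra. -/
theorem exists_square {G : Sp (Spec (CommRingCat.of A))} {T X' : Over (Spec (CommRingCat.of A))} [Flat T.hom]
    [Surjective T.hom] [QuasiCompact T.hom] {q : X' ⟶ T} {p : (yon _).obj X' ⟶ G}
    (sq : IsPullback p ((yon _).map q) ((isTerminalBase _).from G) ((yon _).map (toBase T))) :
    ∃ (B : Type u) (_ : CommRing B) (_ : Algebra A B) (t : spec A B ⟶ T), Module.Flat A B ∧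
      Function.Surjective (PrimeSpectrum.comap (algebraMap A B)) ∧ FqC (toBase (spec A B)) ∧
      IsAffineHom (toBase (spec A B)).left ∧
      IsPullback ((yon _).map (pullback.fst q t) ≫ p) ((yon _).map (pullback.snd q t)) ((isTerminalBase _).from G)
        ((yon _).map (toBase (spec A B))) := by
  obtain ⟨B, _, _, t, h1, h2, h3⟩ := exists_cover T
  refine ⟨B, inferInstance, inferInstance, t, h1, h2, h3,
    inferInstanceAs (IsAffineHom (Spec.map (CommRingCat.ofHom (algebraMap A B)))), ?_⟩
  have h4 : t ≫ toBase T = toBase (spec A B) := toBase_ext _ _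
  rw [← h4, Functor.map_comp]
  exact (((IsPullback.of_hasPullback q t).map (yon _)).flip.paste_vert sq.flip).flip

end K634.FpqcAff
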