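import Groth.Agent.AlgSp.K634.MonoTfae
import Groth.Agent.AlgSp.K596.Univ
import Groth.Agent.AlgSp.K596.Mono
import Groth.Agent.S10264
import Mathlib.AlgebraicGeometry.ZariskisMainTheorem

/-!
# Closed immersions of algebraic spaces are universally closed monomorphisms locally of finite type
-/

set_option autoImplicit false

universe u

open CategoryTheory CategoryTheory.Limits AlgebraicGeometry Opposite

namespace K634.ClosedTfae

open AlgSp K634.Formal K634.Charts K634.MonoTfae

variable {S : Scheme.{u}}

theorem repWith_closedImmersion_of_mono {X Y : Sp S} (hY : IsAlgSpace Y) (f : X ⟶ Y) (hf : Representable f)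
    (h1 : IsUnivClosedMor f) (h2 : LocP @LocallyOfFiniteType f) [CategoryTheory.Mono f] :
    RepWith @IsClosedImmersion f := by
  have e1 := K597.repWith_of_locP K597.etLoc_lft hY.hasAtlas hf h2
  have e2 := (K596.Univ.repWith_universallyClosed_iff hf).2 h1
  have e3 := K596.Mono.repWith_mono_of_mono hf
  refine ⟨hf, fun U V g fst snd sq => ?_⟩
  have i1 : LocallyOfFiniteType snd.left := e1.2 _ _ _ sq
  have i2 : UniversallyClosed snd.left := e2.2 _ _ _ sq
  have i3 : CategoryTheory.Mono snd.left := e3.2 _ _ _ sq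
  have i4 : IsProper snd.left := ⟨⟩
  exact (IsClosedImmersion.iff_isProper_and_mono _).2 ⟨i4, i3⟩

theorem tfae_of_rep {X Y : Space S} (f : X ⟶ Y)
    (hr : LocP @LocallyOfFiniteType f.hom → CategoryTheory.Mono f.hom → Representable f.hom) :
    (RepWith @IsClosedImmersion f.hom ↔
      (IsUnivClosedMor f.hom ∧ LocP (@LocallyOfFiniteType ⊓ @FormallyUnramified) f.hom ∧ CategoryTheory.Mono f.hom)) ∧
    (RepWith @IsClosedImmersion f.hom ↔
      (IsUnivClosedMor f.hom ∧ LocP (@LocallyOfFiniteType ⊓ @FormallyUnramified) f.hom ∧ IsUnivInjectiveMor f.hom)) ∧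
    (RepWith @IsClosedImmersion f.hom ↔
      (IsUnivClosedMor f.hom ∧ LocP @LocallyOfFiniteType f.hom ∧ CategoryTheory.Mono f.hom)) ∧
    (RepWith @IsClosedImmersion f.hom ↔
      (IsUnivClosedMor f.hom ∧ IsUnivInjectiveMor f.hom ∧ LocP @LocallyOfFiniteType f.hom ∧
        IsFormallyUnramifiedMor f.hom)) := by
  obtain ⟨t1, t2, t3, -⟩ := MonoTfae.tfae f
  have key : RepWith @IsClosedImmersion f.hom ↔
      (IsUnivClosedMor f.hom ∧ LocP (@LocallyOfFiniteType ⊓ @FormallyUnramified) f.hom ∧ CategoryTheory.Mono f.hom) := by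
    constructor
    · intro h
      refine ⟨(K596.Univ.repWith_universallyClosed_iff h.1).1 ⟨h.1, fun U V g fst snd sq => ?_⟩,
        Groth.Agent.S10264.result f ⟨h.1, fun U V g fst snd sq => ?_⟩,
        K596.Mono.mono_of_repWith (Q := @IsClosedImmersion) (fun A B g hg => ?_) h⟩
      · have : IsClosedImmersion snd.left := h.2 _ _ _ sq
        exact (inferInstance : UniversallyClosed snd.left)
      · have : IsClosedImmersion snd.left := h.2 _ _ _ sq
        exact (inferInstance : IsImmersion snd.left)
      · infer_instance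
    · rintro ⟨h1, h2, h3⟩
      have h4 := (t2.1 ⟨h2, h3⟩).1
      exact repWith_closedImmersion_of_mono Y.property f.hom (hr h4 h3) h1 h4
  exact ⟨key, key.trans (and_congr_right fun _ => t1), key.trans (and_congr_right fun _ => t2),
    key.trans (and_congr_right fun _ => t3)⟩

end K634.ClosedTfae
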