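import Groth.Agent.AlgSp.K634.ReesAR
import Mathlib.RingTheory.ReesAlgebra
import Mathlib.RingTheory.TensorProduct.Basic
import Mathlib.RingTheory.FiniteType
import Mathlib.RingTheory.FiniteStability
import Mathlib.RingTheory.Polynomial.Basic

/-!
# Artin-Rees for the equalizer `{w : w ⊗ 1 = 1 ⊗ w}` of an algebra

`A` Noetherian, `I` an ideal, `W` an `A`-algebra which is "an isomorphism on equalizers" away from `V(I)`, and
`W'` the Rees algebra of `W` (a subring of `W[X]`), whose equalizer over `reesAlgebra I` is finite.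

* `main` : there is `c` such that every `w ∈ I^n W` with `w ⊗ 1 = 1 ⊗ w` is the image of an element of `I^(n-c)`
  (`n ≥ c`), and `I^c ∩ ker (A → W) = 0`.
-/

set_option autoImplicit false

open Polynomial TensorProduct

universe u v w

namespace K634.ReesEq

variable {A : Type u} [CommRing A] (I : Ideal A) {W : Type v} [CommRing W] [Algebra A W]
  {V : Type w} [CommRing V] [Algebra (reesAlgebra I) V]

/-- the equalizer -/
def eqz (A : Type u) [CommRing A] (W : Type v) [CommRing W] [Algebra A W] : Subalgebra A W :=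
  AlgHom.equalizer (Algebra.TensorProduct.includeLeft (R := A) (S := A) (A := W) (B := W))
    Algebra.TensorProduct.includeRight

theorem mem_eqz {A : Type u} [CommRing A] {W : Type v} [CommRing W] [Algebra A W] (w : W) :
    w ∈ eqz A W ↔ w ⊗ₜ[A] (1 : W) = 1 ⊗ₜ w := Iff.rfl

variable (ψ : V →+* W[X]) (hψi : Function.Injective ψ)
    (hψc : ∀ r : reesAlgebra I, ψ (algebraMap _ _ r) = Polynomial.map (algebraMap A W) r.1)

include hψc in
/-- coefficients of elements of the equalizer -/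
theorem coeff_mem (x : V) (hx : x ∈ eqz (reesAlgebra I) V) (i : ℕ) : (ψ x).coeff i ∈ eqz A W := by
  let f₁ : V →+* (W ⊗[A] W)[X] :=
    (Polynomial.mapRingHom (Algebra.TensorProduct.includeLeft (R := A) (S := A) (A := W) (B := W)).toRingHom).comp ψ
  let f₂ : V →+* (W ⊗[A] W)[X] :=
    (Polynomial.mapRingHom (Algebra.TensorProduct.includeRight (R := A) (A := W) (B := W)).toRingHom).comp ψ
  let _ : Algebra (reesAlgebra I) (W ⊗[A] W)[X] := (f₁.comp (algebraMap _ _)).toAlgebra
  have hC : ∀ r : reesAlgebra I, f₂ (algebraMap _ _ r) = f₁ (algebraMap _ _ r) := by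
    intro r
    change Polynomial.map _ (ψ _) = Polynomial.map _ (ψ _)
    rw [hψc, Polynomial.map_map, Polynomial.map_map]
    congr 1
    ext a
    exact ((Algebra.TensorProduct.includeRight (R := A) (A := W) (B := W)).commutes a).trans
      ((Algebra.TensorProduct.includeLeft (R := A) (S := A) (A := W) (B := W)).commutes a).symm
  let F₁ : V →ₐ[reesAlgebra I] (W ⊗[A] W)[X] := { f₁ with commutes' := fun r ↦ rfl }
  let F₂ : V →ₐ[reesAlgebra I] (W ⊗[A] W)[X] := { f₂ with commutes' := fun r ↦ hC r }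
  let F := Algebra.TensorProduct.lift F₁ F₂ (fun _ _ ↦ Commute.all _ _)
  have h := congrArg F ((mem_eqz x).1 hx)
  rw [Algebra.TensorProduct.lift_tmul, Algebra.TensorProduct.lift_tmul, map_one, map_one, one_mul, mul_one] at h
  have h2 := congrArg (fun p ↦ Polynomial.coeff p i) h
  change (Polynomial.map _ (ψ x)).coeff i = (Polynomial.map _ (ψ x)).coeff i at h2
  rw [Polynomial.coeff_map, Polynomial.coeff_map] at h2
  exact h2

/-- an element of degree zero -/
theorem mem_of_coeff_zero (hψi : Function.Injective ψ)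
    (hψc : ∀ r : reesAlgebra I, ψ (algebraMap _ _ r) = Polynomial.map (algebraMap A W) r.1)
    (hψr : ∀ f : W[X], (∀ i, f.coeff i ∈ (I ^ i).map (algebraMap A W)) → ∃ x, ψ x = f)
    (w : W) (hw : w ∈ eqz A W) : ∃ x ∈ eqz (reesAlgebra I) V, ψ x = C w := by
  have hC : ∀ w : W, ∃ x, ψ x = C w := fun w ↦ hψr _ fun i ↦ by
    rw [coeff_C]
    split_ifs with h
    · subst h
      rw [pow_zero, Ideal.one_eq_top, Ideal.map_top]
      trivial
    · exact Ideal.zero_mem _
  choose γ hγ using hC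
  let g : W →+* V :=
    { toFun := γ
      map_one' := hψi (by rw [hγ, map_one, map_one])
      map_mul' := fun a b ↦ hψi (by rw [hγ, map_mul, map_mul, hγ, hγ])
      map_zero' := hψi (by rw [hγ, map_zero, map_zero])
      map_add' := fun a b ↦ hψi (by rw [hγ, map_add, map_add, hγ, hγ]) }
  let T := V ⊗[reesAlgebra I] V
  let f₁ : W →+* T := (algebraMap V T).comp g
  let f₂ : W →+* T := (Algebra.TensorProduct.includeRight (R := reesAlgebra I) (A := V) (B := V)).toRingHom.comp g
  let _ : Algebra A T := (f₁.comp (algebraMap A W)).toAlgebra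
  have hg : ∀ a : A, g (algebraMap A W a) = algebraMap (reesAlgebra I) V (algebraMap A (reesAlgebra I) a) := by
    intro a
    refine hψi ?_
    rw [hψc]
    change ψ (γ _) = _
    rw [hγ]
    change _ = Polynomial.map _ (C a)
    rw [Polynomial.map_C]
  let F₁ : W →ₐ[A] T := { f₁ with commutes' := fun r ↦ rfl }
  have hf : ∀ r, f₂ (algebraMap A W r) = f₁ (algebraMap A W r) := fun r ↦ by
    change (Algebra.TensorProduct.includeRight (R := reesAlgebra I) (A := V) (B := V)) (g (algebraMap A W r)) =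
      algebraMap V T (g (algebraMap A W r))
    rw [hg, AlgHom.commutes, ← IsScalarTower.algebraMap_apply (reesAlgebra I) V T]
  let F₂ : W →ₐ[A] T := { f₂ with commutes' := fun r ↦ hf r }
  let F := Algebra.TensorProduct.lift F₁ F₂ (fun _ _ ↦ Commute.all _ _)
  have h := congrArg F ((mem_eqz w).1 hw)
  rw [Algebra.TensorProduct.lift_tmul, Algebra.TensorProduct.lift_tmul, map_one, map_one, one_mul, mul_one] at h
  exact ⟨γ w, h, hγ w⟩

/-- coefficients of high degree of elements of the equalizer -/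
theorem coeff_mem_smul
    (hψc : ∀ r : reesAlgebra I, ψ (algebraMap _ _ r) = Polynomial.map (algebraMap A W) r.1) (s : Finset V)
    (hs : Submodule.span (reesAlgebra I) (s : Set V) = Subalgebra.toSubmodule (eqz (reesAlgebra I) V)) (x : V)
    (hx : x ∈ eqz (reesAlgebra I) V) (n : ℕ) :
    (ψ x).coeff n ∈ I ^ (n - s.sup fun g ↦ (ψ g).natDegree) • Subalgebra.toSubmodule (eqz A W) := by
  have hg : ∀ g ∈ s, g ∈ eqz (reesAlgebra I) V := fun g hg ↦ by
    have : g ∈ Submodule.span (reesAlgebra I) (s : Set V) := Submodule.subset_span hg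
    rw [hs] at this
    exact this
  have hx' : x ∈ Submodule.span (reesAlgebra I) (s : Set V) := by
    rw [hs]
    exact hx
  obtain ⟨f, -, rfl⟩ := Submodule.mem_span_finset.1 hx'
  rw [map_sum, Polynomial.finsetSum_coeff]
  refine Submodule.sum_mem _ fun g hgs ↦ ?_
  rw [Algebra.smul_def (f g) g, map_mul, hψc, Polynomial.coeff_mul]
  refine Submodule.sum_mem _ fun ij hij ↦ ?_
  obtain ⟨i, j⟩ := ij
  rw [Finset.mem_antidiagonal] at hij
  change (Polynomial.map (algebraMap A W) (f g).1).coeff i * (ψ g).coeff j ∈ _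
  rw [Polynomial.coeff_map, ← Algebra.smul_def]
  by_cases hj : j ≤ s.sup fun g ↦ (ψ g).natDegree
  · refine Submodule.smul_mem_smul (Ideal.pow_le_pow_right ?_ ((f g).2 i)) (coeff_mem I ψ hψc g (hg g hgs) j)
    simp only at hij
    omega
  · rw [Polynomial.coeff_eq_zero_of_natDegree_lt (p := ψ g), smul_zero]
    · exact Submodule.zero_mem _
    · have : (ψ g).natDegree ≤ s.sup fun g ↦ (ψ g).natDegree := Finset.le_sup (f := fun g ↦ (ψ g).natDegree) hgs
      omega

theorem fg_eqz (hψi : Function.Injective ψ)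
    (hψc : ∀ r : reesAlgebra I, ψ (algebraMap _ _ r) = Polynomial.map (algebraMap A W) r.1)
    (hψr : ∀ f : W[X], (∀ i, f.coeff i ∈ (I ^ i).map (algebraMap A W)) → ∃ x, ψ x = f) (s : Finset V)
    (hs : Submodule.span (reesAlgebra I) (s : Set V) = Subalgebra.toSubmodule (eqz (reesAlgebra I) V)) :
    (Subalgebra.toSubmodule (eqz A W)).FG := by
  classical
  have hg : ∀ g ∈ s, g ∈ eqz (reesAlgebra I) V := fun g hg ↦ by
    have : g ∈ Submodule.span (reesAlgebra I) (s : Set V) := Submodule.subset_span hg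
    rw [hs] at this
    exact this
  refine ⟨s.image fun g ↦ (ψ g).coeff 0, le_antisymm ?_ ?_⟩
  · rw [Submodule.span_le]
    intro w hw
    obtain ⟨g, hgs, rfl⟩ := Finset.mem_image.1 hw
    exact coeff_mem I ψ hψc g (hg g hgs) 0
  · intro w hw
    obtain ⟨x, hx, hxw⟩ := mem_of_coeff_zero I ψ hψi hψc hψr w hw
    have hx' : x ∈ Submodule.span (reesAlgebra I) (s : Set V) := by
      rw [hs]
      exact hx
    obtain ⟨f, -, rfl⟩ := Submodule.mem_span_finset.1 hx'
    have h1 := congrArg (fun p ↦ Polynomial.coeff p 0) hxw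
    simp only [map_sum, Polynomial.finsetSum_coeff, coeff_C_zero] at h1
    rw [← h1]
    refine Submodule.sum_mem _ fun g hgs ↦ ?_
    rw [Algebra.smul_def, map_mul, hψc, Polynomial.mul_coeff_zero, Polynomial.coeff_map, ← Algebra.smul_def]
    exact Submodule.smul_mem _ _ (Submodule.subset_span (Finset.mem_coe.2 (Finset.mem_image_of_mem _ hgs)))

/-- A power of `a ∈ I` moves an element whose coefficients are in the equalizer to the base. -/
theorem exists_pow_smul (hψi : Function.Injective ψ)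
    (hψc : ∀ r : reesAlgebra I, ψ (algebraMap _ _ r) = Polynomial.map (algebraMap A W) r.1) {a : A} (ha : a ∈ I)
    (h1 : ∀ w ∈ eqz A W, ∃ (N : ℕ) (x : A), a ^ N • w = algebraMap A W x) (x : V)
    (hx : ∀ i, (ψ x).coeff i ∈ eqz A W) :
    ∃ (N : ℕ) (r : reesAlgebra I), algebraMap (reesAlgebra I) V (algebraMap A _ a) ^ N * x = algebraMap _ V r := by
  choose N y hNy using fun i ↦ h1 _ (hx i)
  let d := (ψ x).natDegree
  let M := ((Finset.range (d + 1)).sup N) + d
  have hM : ∀ i, i ≤ d → N i + i ≤ M := by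
    intro i hi
    have : N i ≤ (Finset.range (d + 1)).sup N := Finset.le_sup (f := N) (Finset.mem_range.2 (by omega))
    change _ ≤ (Finset.range (d + 1)).sup N + d
    omega
  let p : A[X] := ∑ i ∈ Finset.range (d + 1), monomial i (a ^ (M - N i) * y i)
  have hp : ∀ i, p.coeff i = if i ≤ d then a ^ (M - N i) * y i else 0 := by
    intro i
    simp only [p, Polynomial.finsetSum_coeff, coeff_monomial]
    rw [Finset.sum_ite_eq' (Finset.range (d + 1)) i]
    simp only [Finset.mem_range, Order.lt_add_one_iff]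
  have hpm : p ∈ reesAlgebra I := by
    intro i
    rw [hp]
    split_ifs with h
    · have := hM i h
      exact Ideal.mul_mem_right _ _ (Ideal.pow_le_pow_right (by omega) (Ideal.pow_mem_pow ha _))
    · exact Ideal.zero_mem _
  refine ⟨M, ⟨p, hpm⟩, hψi ?_⟩
  rw [map_mul, map_pow, hψc, hψc]
  have e1 : Polynomial.map (algebraMap A W) (algebraMap A (reesAlgebra I) a).1 = C (algebraMap A W a) :=
    Polynomial.map_C _
  rw [e1, ← C_pow]
  ext i
  rw [coeff_C_mul, coeff_map]
  change _ = algebraMap A W (p.coeff i)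
  rw [hp]
  split_ifs with h
  · have h3 := hM i h
    have h4 : a ^ M = a ^ (M - N i) * a ^ N i := by rw [← pow_add]; congr 1; omega
    rw [← map_pow, ← Algebra.smul_def, h4, mul_smul, hNy, map_mul, Algebra.smul_def]
  · rw [Polynomial.coeff_eq_zero_of_natDegree_lt (by omega), mul_zero, map_zero]

/-- The elements with coefficients in the equalizer are in the equalizer up to a uniform power of `I`. -/
theorem exists_pow_mem [IsNoetherianRing A] [Algebra.FiniteType (reesAlgebra I) V] (hψi : Function.Injective ψ)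
    (hψc : ∀ r : reesAlgebra I, ψ (algebraMap _ _ r) = Polynomial.map (algebraMap A W) r.1)
    (h1 : ∀ a ∈ I, ∀ w ∈ eqz A W, ∃ (N : ℕ) (x : A), a ^ N • w = algebraMap A W x) :
    ∃ e : ℕ, ∀ a ∈ I ^ e, ∀ x : V, (∀ i, (ψ x).coeff i ∈ eqz A W) →
      algebraMap (reesAlgebra I) V (algebraMap A _ a) * x ∈ eqz (reesAlgebra I) V := by
  classical
  have hVN : IsNoetherianRing V := Algebra.FiniteType.isNoetherianRing (reesAlgebra I) V
  have hTN : IsNoetherianRing (V ⊗[reesAlgebra I] V) := Algebra.FiniteType.isNoetherianRing V _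
  let G : Set (V ⊗[reesAlgebra I] V) := {y | ∃ x : V, (∀ i, (ψ x).coeff i ∈ eqz A W) ∧ y = x ⊗ₜ 1 - 1 ⊗ₜ x}
  obtain ⟨t, htG, ht⟩ := (Submodule.fg_span_iff_fg_span_finset_subset G).1
    (isNoetherian_def.mp hTN (Submodule.span (V ⊗[reesAlgebra I] V) G))
  let ι : A →+* V ⊗[reesAlgebra I] V := (algebraMap (reesAlgebra I) (V ⊗[reesAlgebra I] V)).comp (algebraMap A _)
  let 𝔞 : Ideal A := (Submodule.span (V ⊗[reesAlgebra I] V) G).annihilator.comap ι
  have hι : ∀ (a : A) (x : V), ι a * (x ⊗ₜ 1 - 1 ⊗ₜ x) =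
      (algebraMap (reesAlgebra I) V (algebraMap A _ a) * x) ⊗ₜ 1 - 1 ⊗ₜ (algebraMap (reesAlgebra I) V (algebraMap A _ a) * x) := by
    intro a x
    rw [mul_sub]
    change algebraMap (reesAlgebra I) (V ⊗[reesAlgebra I] V) (algebraMap A (reesAlgebra I) a) * _ -
      algebraMap (reesAlgebra I) (V ⊗[reesAlgebra I] V) (algebraMap A (reesAlgebra I) a) * _ = _
    rw [← Algebra.smul_def, ← Algebra.smul_def, ← Algebra.smul_def, TensorProduct.smul_tmul', TensorProduct.tmul_smul]
  have hrad : I ≤ 𝔞.radical := by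
    intro a ha
    have h3 : ∀ y : V ⊗[reesAlgebra I] V, ∃ N : ℕ, y ∈ t → ι a ^ N * y = 0 := by
      intro y
      by_cases hy : y ∈ t
      · obtain ⟨x, hx, rfl⟩ := htG hy
        obtain ⟨N, r, hr⟩ := exists_pow_smul I ψ hψi hψc ha (h1 a ha) x hx
        refine ⟨N, fun _ ↦ ?_⟩
        rw [← map_pow, hι, map_pow, map_pow, hr, ← Algebra.TensorProduct.algebraMap_apply, sub_eq_zero]
        exact ((Algebra.TensorProduct.includeRight (R := reesAlgebra I) (A := V) (B := V)).commutes r).symm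
      · exact ⟨0, fun h ↦ absurd h hy⟩
    choose N hN using h3
    refine ⟨t.sup N, ?_⟩
    change ι (a ^ t.sup N) ∈ (Submodule.span (V ⊗[reesAlgebra I] V) G).annihilator
    rw [ht, Submodule.mem_annihilator_span]
    rintro ⟨y, hy⟩
    have h4 : N y ≤ t.sup N := Finset.le_sup hy
    change ι (a ^ t.sup N) * y = 0
    obtain ⟨m, hm⟩ := Nat.exists_eq_add_of_le h4
    rw [hm, map_pow, pow_add, mul_comm (ι a ^ N y), mul_assoc, hN y hy, mul_zero]
  obtain ⟨e, he⟩ := Ideal.exists_pow_le_of_le_radical_of_fg hrad (isNoetherian_def.mp inferInstance I)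
  refine ⟨e, fun a ha x hx ↦ ?_⟩
  have h5 : ι a ∈ (Submodule.span (V ⊗[reesAlgebra I] V) G).annihilator := he ha
  have h6 := Submodule.mem_annihilator.1 h5 (x ⊗ₜ 1 - 1 ⊗ₜ x) (Submodule.subset_span ⟨x, hx, rfl⟩)
  rw [smul_eq_mul, hι, sub_eq_zero] at h6
  exact h6

theorem main [IsNoetherianRing A] [IsNoetherianRing W] [Algebra.FiniteType (reesAlgebra I) V]
    (hψi : Function.Injective ψ)
    (hψc : ∀ r : reesAlgebra I, ψ (algebraMap _ _ r) = Polynomial.map (algebraMap A W) r.1)
    (hψr : ∀ f : W[X], (∀ i, f.coeff i ∈ (I ^ i).map (algebraMap A W)) → ∃ x, ψ x = f)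
    (hfin : (Subalgebra.toSubmodule (eqz (reesAlgebra I) V)).FG)
    (h1 : ∀ a ∈ I, ∀ w ∈ eqz A W, ∃ (N : ℕ) (x : A), a ^ N • w = algebraMap A W x)
    (h2 : ∀ a ∈ I, ∀ x, algebraMap A W x = 0 → ∃ N : ℕ, a ^ N * x = 0) :
    ∃ c : ℕ, (∀ n, c ≤ n → ∀ w ∈ (I ^ n).map (algebraMap A W), w ∈ eqz A W →
      ∃ a ∈ I ^ (n - c), algebraMap A W a = w) ∧ ∀ x ∈ I ^ c, algebraMap A W x = 0 → x = 0 := by
  classical
  obtain ⟨s, hs⟩ := hfin
  obtain ⟨e, he⟩ := exists_pow_mem I ψ hψi hψc h1
  have hBfg := fg_eqz I ψ hψi hψc hψr s hs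
  let B := Subalgebra.toSubmodule (eqz A W)
  have hBfin : Module.Finite A B := Module.Finite.iff_fg.2 hBfg
  obtain ⟨c1, hc1⟩ := K634.ReesAR.exists_mem_add_torsion I B e
  obtain ⟨c2, hc2⟩ := K634.ReesAR.exists_torsion_eq_zero (I.map (algebraMap A W)) W e
  -- the equalizer modulo the base is killed by a power of `I`
  obtain ⟨c3, hc3⟩ : ∃ c3 : ℕ, ∀ a ∈ I ^ c3, ∀ w ∈ eqz A W, ∃ x : A, a • w = algebraMap A W x := by
    obtain ⟨t, ht⟩ := hBfg
    let 𝔟 : Ideal A :=
      { carrier := {a | ∀ w ∈ eqz A W, ∃ x : A, a • w = algebraMap A W x}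
        add_mem' := fun {a b} ha hb w hw ↦ by
          obtain ⟨x, hx⟩ := ha w hw
          obtain ⟨y, hy⟩ := hb w hw
          exact ⟨x + y, by rw [add_smul, hx, hy, map_add]⟩
        zero_mem' := fun w _ ↦ ⟨0, by rw [zero_smul, map_zero]⟩
        smul_mem' := fun r a ha w hw ↦ by
          obtain ⟨x, hx⟩ := ha w hw
          exact ⟨r * x, by rw [smul_assoc, hx, map_mul, Algebra.smul_def]⟩ }
    have hrad : I ≤ 𝔟.radical := by
      intro a ha
      have h3 : ∀ w : W, ∃ N : ℕ, w ∈ t → ∃ x : A, a ^ N • w = algebraMap A W x := by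
        intro w
        by_cases hw : w ∈ t
        · have hwB : w ∈ Submodule.span A (t : Set W) := Submodule.subset_span hw
          rw [ht] at hwB
          obtain ⟨N, x, hx⟩ := h1 a ha w hwB
          exact ⟨N, fun _ ↦ ⟨x, hx⟩⟩
        · exact ⟨0, fun h ↦ absurd h hw⟩
      choose N hN using h3
      refine ⟨t.sup N, fun w hw ↦ ?_⟩
      have hw' : w ∈ Submodule.span A (t : Set W) := by
        rw [ht]
        exact hw
      refine Submodule.span_induction (p := fun w _ ↦ ∃ x : A, a ^ t.sup N • w = algebraMap A W x) ?_ ?_ ?_ ?_ hw'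
      · intro w hw
        obtain ⟨x, hx⟩ := hN w hw
        obtain ⟨m, hm⟩ := Nat.exists_eq_add_of_le (Finset.le_sup (f := N) hw)
        exact ⟨a ^ m * x, by rw [hm, pow_add, mul_comm (a ^ N w), mul_smul, hx, map_mul, Algebra.smul_def]⟩
      · exact ⟨0, by rw [smul_zero, map_zero]⟩
      · rintro w w' _ _ ⟨x, hx⟩ ⟨y, hy⟩
        exact ⟨x + y, by rw [smul_add, hx, hy, map_add]⟩
      · rintro r w _ ⟨x, hx⟩
        exact ⟨r * x, by rw [smul_comm, hx, map_mul, Algebra.smul_def]⟩
    obtain ⟨e, he⟩ := Ideal.exists_pow_le_of_le_radical_of_fg hrad (isNoetherian_def.mp inferInstance I)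
    exact ⟨e, fun a ha ↦ he ha⟩
  -- torsion in the base
  obtain ⟨c4, hc4⟩ : ∃ c4 : ℕ, ∀ x ∈ I ^ c4, algebraMap A W x = 0 → x = 0 := by
    let K : Ideal A := RingHom.ker (algebraMap A W)
    have hrad : I ≤ K.annihilator.radical := by
      intro a ha
      obtain ⟨t, ht⟩ := (isNoetherian_def.mp inferInstance K : K.FG)
      have h3 : ∀ w : A, ∃ N : ℕ, w ∈ t → a ^ N * w = 0 := by
        intro w
        by_cases hw : w ∈ t
        · have hwB : w ∈ Submodule.span A (t : Set A) := Submodule.subset_span hw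
          rw [ht] at hwB
          obtain ⟨N, hx⟩ := h2 a ha w hwB
          exact ⟨N, fun _ ↦ hx⟩
        · exact ⟨0, fun h ↦ absurd h hw⟩
      choose N hN using h3
      refine ⟨t.sup N, ?_⟩
      rw [← ht, Submodule.mem_annihilator_span]
      rintro ⟨y, hy⟩
      obtain ⟨m, hm⟩ := Nat.exists_eq_add_of_le (Finset.le_sup (f := N) hy)
      change a ^ t.sup N * y = 0
      rw [hm, pow_add, mul_comm (a ^ N y), mul_assoc, hN y hy, mul_zero]
    obtain ⟨e', he'⟩ := Ideal.exists_pow_le_of_le_radical_of_fg hrad (isNoetherian_def.mp inferInstance I)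
    obtain ⟨c, hc⟩ := K634.ReesAR.exists_torsion_eq_zero I A e'
    refine ⟨c, fun x hx hxK ↦ hc c le_rfl x ?_ fun a ha ↦ ?_⟩
    · rwa [smul_eq_mul, Ideal.mul_top]
    · exact Submodule.mem_annihilator.1 (he' ha) x hxK
  let n0 := s.sup fun g ↦ (ψ g).natDegree
  refine ⟨n0 + c1 + c2 + c3 + c4 + e, fun n hn w hwn hw ↦ ?_, fun x hx ↦ hc4 x (Ideal.pow_le_pow_right (by omega) hx)⟩
  -- the multiples of `w` by elements of `I ^ e`
  have hstep : ∀ a ∈ I ^ e, a • (⟨w, hw⟩ : B) ∈ (I ^ (n - n0) • ⊤ : Submodule A B) := by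
    intro a ha
    obtain ⟨x, hx⟩ := hψr (monomial n w) fun i ↦ by
      rw [coeff_monomial]
      split_ifs with h
      · subst h
        exact hwn
      · exact Ideal.zero_mem _
    have hxc : ∀ i, (ψ x).coeff i ∈ eqz A W := fun i ↦ by
      rw [hx, coeff_monomial]
      split_ifs with h
      · exact hw
      · exact Subalgebra.zero_mem _
    have h3 := coeff_mem_smul I ψ hψc s hs _ (he a ha x hxc) n
    rw [map_mul, hψc, hx] at h3
    have e1 : Polynomial.map (algebraMap A W) (algebraMap A (reesAlgebra I) a).1 = C (algebraMap A W a) :=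
      Polynomial.map_C _
    rw [e1, coeff_C_mul, coeff_monomial_same, ← Algebra.smul_def] at h3
    have h4 : (I ^ (n - n0) • ⊤ : Submodule A B).map B.subtype = I ^ (n - n0) • B := by
      rw [Submodule.map_smul'', Submodule.map_subtype_top]
    have h5 : a • w ∈ (I ^ (n - n0) • ⊤ : Submodule A B).map B.subtype := by
      rw [h4]
      exact h3
    obtain ⟨y, hy, hya⟩ := h5
    have h6 : y = a • (⟨w, hw⟩ : B) := Subtype.ext hya
    rw [← h6]
    exact hy
  obtain ⟨y, hy, hyw⟩ := hc1 (n - n0) (by omega) ⟨w, hw⟩ hstep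
  -- `w` and `y` agree
  have hmap : ∀ m, ∀ z ∈ (I ^ m • ⊤ : Submodule A B), (z : W) ∈ I.map (algebraMap A W) ^ m := by
    intro m z hz
    refine Submodule.smul_induction_on hz (fun a ha b _ ↦ ?_) fun b b' hb hb' ↦ ?_
    · rw [← Ideal.map_pow]
      change a • (b : W) ∈ _
      rw [Algebra.smul_def]
      exact Ideal.mul_mem_right _ _ (Ideal.mem_map_of_mem _ ha)
    · exact Ideal.add_mem _ hb hb'
  have h7 : w - y = 0 := by
    refine hc2 (n - n0 - c1) (by omega) _ ?_ ?_
    · rw [smul_eq_mul, Ideal.mul_top]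
      refine Ideal.sub_mem _ ?_ (hmap _ _ hy)
      rw [← Ideal.map_pow]
      exact Ideal.map_mono (Ideal.pow_le_pow_right (by omega)) hwn
    · intro a ha
      rw [← Ideal.map_pow] at ha
      refine Submodule.span_induction (p := fun a _ ↦ a • (w - y : W) = 0) ?_ (zero_smul _ _) ?_ ?_ ha
      · rintro _ ⟨a, ha, rfl⟩
        have h8 := congrArg (Subtype.val) (hyw a ha)
        rw [smul_eq_mul, ← Algebra.smul_def]
        exact h8
      · intro a b _ _ ha hb
        rw [add_smul, ha, hb, add_zero]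
      · intro r a _ ha
        rw [smul_assoc, ha, smul_zero]
  have h9 : w = y := sub_eq_zero.1 h7
  -- conclusion
  have h10 : ∀ z ∈ (I ^ (n - n0 - c1) • ⊤ : Submodule A B), ∃ a ∈ I ^ (n - n0 - c1 - c3), algebraMap A W a = z := by
    intro z hz
    have h11 : n - n0 - c1 = (n - n0 - c1 - c3) + c3 := by omega
    rw [h11, pow_add, Submodule.mul_smul] at hz
    refine Submodule.smul_induction_on hz (fun a ha b hb ↦ ?_) ?_
    · obtain ⟨x, hx⟩ : ∃ x : A, (b : W) = algebraMap A W x := by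
        refine Submodule.smul_induction_on hb (fun a ha b _ ↦ ?_) ?_
        · exact hc3 a ha b b.2
        · rintro b b' ⟨x, hx⟩ ⟨x', hx'⟩
          exact ⟨x + x', by rw [map_add, ← hx, ← hx']; rfl⟩
      refine ⟨a * x, Ideal.mul_mem_right _ _ ha, ?_⟩
      rw [map_mul, ← hx, ← Algebra.smul_def]
      rfl
    · rintro b b' ⟨x, hx, hx'⟩ ⟨z, hz, hz'⟩
      exact ⟨x + z, Ideal.add_mem _ hx hz, by rw [map_add, hx', hz']; rfl⟩
  obtain ⟨a, ha, haw⟩ := h10 y hy
  exact ⟨a, Ideal.pow_le_pow_right (by omega) ha, by rw [haw, h9]⟩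

end K634.ReesEq
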