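import Groth.Agent.AlgSp.K610.Site
import Groth.Agent.AlgSp.K613.Chart
import Groth.Agent.AlgSp.K634.ReesEq
import Mathlib.AlgebraicGeometry.Morphisms.Finite

/-!
# Finiteness of the equalizer from the coequalizer of `Y ×_X Y ⇉ Y`

* `CoeqHyp S`: the statement on coequalizers of `Y ×_X Y ⇉ Y` for `Y → X` proper, `X` locally Noetherian.
* `fg_eqz`: if `Y → Spec A` is proper and `Spec B → Y` is an étale surjective chart, then the equalizer
  `{b ∈ B : b ⊗ 1 = 1 ⊗ b}` is a finite `A`-module.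
-/

set_option autoImplicit false

universe u

open CategoryTheory CategoryTheory.Limits AlgebraicGeometry Opposite TensorProduct

namespace K634.CoeqFin

open AlgSp K634.ReesEq

variable {S : Scheme.{u}}

variable (S) in
/-- coequalizers of `Y ×_X Y ⇉ Y` -/
def CoeqHyp : Prop := ∀ {X Y R : Space S} (g : Y ⟶ X), IsLocNoethSp X.obj → IsProperMor g.hom → ∀ (t s : R ⟶ Y),
    IsPullback t.hom s.hom g.hom g.hom →
    ∃ (X' : Space S) (π : Y ⟶ X') (w : t ≫ π = s ≫ π) (c : X' ⟶ X),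
      Nonempty (IsColimit (Cofork.ofπ π w)) ∧ π ≫ c = g ∧ IsFiniteMor c.hom ∧ IsProperMor π.hom ∧
        IsSurjectiveMor π.hom ∧ IsUnivInjectiveMor c.hom ∧ (IsSurjectiveMor g.hom → IsUnivHomeoMor c.hom)

theorem eqz_apply_eq {A B C : Type*} [CommRing A] [CommRing B] [CommRing C] [Algebra A B] (α β : B →+* C)
    (h : α.comp (algebraMap A B) = β.comp (algebraMap A B)) (e : B) (he : e ∈ eqz A B) : α e = β e := by
  let _ : Algebra A C := (α.comp (algebraMap A B)).toAlgebra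
  let F₁ : B →ₐ[A] C := { α with commutes' := fun r ↦ rfl }
  let F₂ : B →ₐ[A] C := { β with commutes' := fun r ↦ (DFunLike.congr_fun h r).symm }
  have h := congrArg (Algebra.TensorProduct.lift F₁ F₂ (fun _ _ ↦ Commute.all _ _)) ((mem_eqz e).1 he)
  rw [Algebra.TensorProduct.lift_tmul, Algebra.TensorProduct.lift_tmul, map_one, map_one, one_mul, mul_one] at h
  exact h

theorem hom_ext_spec {X : Scheme.{u}} {B : CommRingCat.{u}} (f g : X ⟶ Spec B)
    (h : (Scheme.ΓSpecIso B).inv ≫ f.appTop = (Scheme.ΓSpecIso B).inv ≫ g.appTop) : f = g :=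
  ext_of_isAffine (by simpa using h)

/-- Two morphisms to a space equal after the lifts to a chart. -/
theorem hom_ext_chart {Y G R : Sp S} {WB : Over S} {w : (yon S).obj WB ⟶ Y} (hw : RepWith @Etale w)
    (hws : RepWith @Surjective w) {t s : R ⟶ Y} (y : Y ⟶ G)
    (h : ∀ (R' : Over S) (a b : (yon S).obj R' ⟶ (yon S).obj WB) (r : (yon S).obj R' ⟶ R), a ≫ w = r ≫ t → b ≫ w = r ≫ s →
      a ≫ w ≫ y = b ≫ w ≫ y) : t ≫ y = s ≫ y := by
  have := K610.Site.isLocallySurjective_of_etale hw hws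
  refine K610.Base.hom_ext_yon fun R' g ↦ K610.Site.eq_of_cover fun x ↦ ?_
  obtain ⟨Y1, φ1, h1, h2, ⟨x1, rfl⟩, a, ha⟩ := K610.Site.exists_local_lift w (g ≫ t) x
  obtain ⟨Y2, φ2, h3, h4, ⟨x2, rfl⟩, b, hb⟩ := K610.Site.exists_local_lift w ((yon S).map φ1 ≫ g ≫ s) x1
  refine ⟨Y2, φ2 ≫ φ1, ?_, ?_, ⟨x2, rfl⟩, ?_⟩
  · exact inferInstanceAs (Flat (φ2.left ≫ φ1.left))
  · exact inferInstanceAs (LocallyOfFinitePresentation (φ2.left ≫ φ1.left))
  · have h5 := h Y2 ((yon S).map φ2 ≫ a) b ((yon S).map (φ2 ≫ φ1) ≫ g)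
      (by rw [Category.assoc, ha, Functor.map_comp]; simp only [Category.assoc])
      (by rw [hb, Functor.map_comp]; simp only [Category.assoc])
    calc (yon S).map (φ2 ≫ φ1) ≫ g ≫ t ≫ y = ((yon S).map φ2 ≫ a) ≫ w ≫ y := by
          rw [Category.assoc, reassoc_of% ha, Functor.map_comp]; simp only [Category.assoc]
      _ = b ≫ w ≫ y := h5
      _ = _ := by rw [reassoc_of% hb, Functor.map_comp]; simp only [Category.assoc]

theorem fg_eqz (HC : CoeqHyp S) {A B : CommRingCat.{u}} [hAN : IsNoetherianRing A] (sA : Spec A ⟶ S) (φ : A ⟶ B) {Y : Space S}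
    (f : Y ⟶ (ofScheme S).obj (Over.mk sA)) (hf : IsProperMor f.hom)
    (w : (yon S).obj (Over.mk (Spec.map φ ≫ sA)) ⟶ Y.obj) (hw : RepWith @Etale w) (hws : RepWith @Surjective w)
    (hwf : w ≫ f.hom = (yon S).map (Over.homMk (Spec.map φ) rfl)) :
    letI := φ.hom.toAlgebra
    (Subalgebra.toSubmodule (eqz A B)).FG := by
  let _ := φ.hom.toAlgebra
  let ε : A ⟶ CommRingCat.of (eqz A B) := CommRingCat.ofHom (algebraMap A (eqz A B))
  let ι : CommRingCat.of (eqz A B) ⟶ B := CommRingCat.ofHom (eqz A B).val.toRingHom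
  have hει : ε ≫ ι = φ := by
    ext x
    rfl
  let WB : Over S := Over.mk (Spec.map φ ≫ sA)
  let VA : Over S := Over.mk sA
  let q : WB ⟶ VA := Over.homMk (Spec.map φ) rfl
  let T : Over S := Over.mk (Spec.map ε ≫ sA)
  let v : WB ⟶ T := Over.homMk (Spec.map ι) (by
    change Spec.map ι ≫ Spec.map ε ≫ sA = Spec.map φ ≫ sA
    rw [← Category.assoc, ← Spec.map_comp, hει])
  let τ : T ⟶ VA := Over.homMk (Spec.map ε) rfl
  have hvτ : v ≫ τ = q := by
    ext1
    change Spec.map ι ≫ Spec.map ε = Spec.map φ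
    rw [← Spec.map_comp, hει]
  obtain ⟨f₀, hf₀⟩ : ∃ f₀ : Y.obj ⟶ (yon S).obj VA, f₀ = f.hom := ⟨f.hom, rfl⟩
  have hwf' : w ≫ f₀ = (yon S).map q := by
    rw [hf₀]
    exact hwf
  -- the map to the spectrum of the equalizer
  have K1 : ∀ (R' : Over S) (a b : R' ⟶ WB), a ≫ q = b ≫ q → a ≫ v = b ≫ v := by
    intro R' a b hab
    ext1
    change a.left ≫ Spec.map ι = b.left ≫ Spec.map ι
    refine hom_ext_spec _ _ ?_
    rw [Scheme.Hom.comp_appTop, Scheme.Hom.comp_appTop, ← Category.assoc, ← Category.assoc,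
      ← Scheme.ΓSpecIso_inv_naturality, Category.assoc, Category.assoc]
    have h1 : φ ≫ (Scheme.ΓSpecIso B).inv ≫ a.left.appTop = φ ≫ (Scheme.ΓSpecIso B).inv ≫ b.left.appTop := by
      have h2 : a.left ≫ Spec.map φ = b.left ≫ Spec.map φ := congrArg (fun f ↦ f.left) hab
      have h3 := congrArg Scheme.Hom.appTop h2
      rw [Scheme.Hom.comp_appTop, Scheme.Hom.comp_appTop] at h3
      rw [Scheme.ΓSpecIso_inv_naturality_assoc, Scheme.ΓSpecIso_inv_naturality_assoc, h3]
    ext e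
    exact eqz_apply_eq (A := A) ((Scheme.ΓSpecIso B).inv ≫ a.left.appTop).hom ((Scheme.ΓSpecIso B).inv ≫ b.left.appTop).hom
      (by
        ext x
        exact ConcreteCategory.congr_hom h1 x) e.1 e.2
  have hepi := K610.Site.epi_of_etale hw hws
  obtain ⟨y, hy⟩ := K610.Site.exists_desc w ((yon S).map v) (by
    intro R' a b hab
    obtain ⟨a, rfl⟩ := (yon S).map_surjective a
    obtain ⟨b, rfl⟩ := (yon S).map_surjective b
    rw [← Functor.map_comp, ← Functor.map_comp]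
    congr 1
    refine K1 R' a b ((yon S).map_injective ?_)
    rw [Functor.map_comp, Functor.map_comp, ← hwf', ← Category.assoc, hab, Category.assoc])
  let y' : Y ⟶ (ofScheme S).obj T := ⟨y⟩
  let R : Space S := ⟨pullback f.hom f.hom, K613.Chart.isAlgSpace_pullback Y.2 Y.2 (IsAlgSpace.yon_obj VA) f.hom f.hom⟩
  let t : R ⟶ Y := ⟨pullback.fst f.hom f.hom⟩
  let s : R ⟶ Y := ⟨pullback.snd f.hom f.hom⟩
  have hcond : t.hom ≫ f₀ = s.hom ≫ f₀ := by
    rw [hf₀]
    exact pullback.condition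
  have hN : IsLocNoethSp ((ofScheme S).obj VA).obj := by
    refine ⟨VA, 𝟙 _, (MorphismProperty.relative _ _).id_mem _, ?_, ?_⟩
    · exact (MorphismProperty.relative _ _).id_mem _
    · change IsLocallyNoetherian (Spec A)
      infer_instance
  obtain ⟨X', π, hts, c, ⟨hcol⟩, hπc, hfin, -⟩ := HC f hN hf t s (IsPullback.of_hasPullback _ _)
  have hty : t ≫ y' = s ≫ y' := by
    ext1
    refine hom_ext_chart hw hws y fun R' a b r ha hb ↦ ?_
    rw [hy]
    obtain ⟨a, rfl⟩ := (yon S).map_surjective a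
    obtain ⟨b, rfl⟩ := (yon S).map_surjective b
    rw [← Functor.map_comp, ← Functor.map_comp]
    congr 1
    refine K1 R' a b ((yon S).map_injective ?_)
    rw [Functor.map_comp, Functor.map_comp, ← hwf', ← Category.assoc, ha, ← Category.assoc, hb, Category.assoc, Category.assoc,
      hcond]
  obtain ⟨d, hd⟩ := Cofork.IsColimit.desc' hcol y' hty
  change π ≫ d = y' at hd
  have hVAA : IsAffine VA.left := inferInstanceAs (IsAffine (Spec A))
  obtain ⟨W', i, fst, hsq, hW'A, hi⟩ := hfin (Z := VA) (inferInstanceAs (IsAffine (Spec A))) (𝟙 _)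
  obtain ⟨c₀, hc₀⟩ : ∃ c₀ : X'.obj ⟶ (yon S).obj VA, c₀ = c.hom := ⟨c.hom, rfl⟩
  obtain ⟨d₀, hd₀⟩ : ∃ d₀ : X'.obj ⟶ (yon S).obj T, d₀ = d.hom := ⟨d.hom, rfl⟩
  have hsq' : IsPullback fst ((yon S).map i) c₀ (𝟙 _) := by
    rw [hc₀]
    exact hsq
  have hfst : IsIso fst := hsq'.isIso_fst_of_isIso
  obtain ⟨e, he⟩ := (yon S).map_surjective (fst ≫ d₀)
  obtain ⟨ω, hω⟩ := (yon S).map_surjective (w ≫ π.hom ≫ inv fst)
  have hd' : π.hom ≫ d₀ = y := by
    rw [hd₀]
    exact congrArg (·.hom) hd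
  have hωe : ω ≫ e = v := by
    apply (yon S).map_injective
    rw [Functor.map_comp, he, hω, Category.assoc, Category.assoc, IsIso.inv_hom_id_assoc, hd', hy]
  have heτ : e ≫ τ = i := by
    apply (yon S).map_injective
    have h1 : π ≫ d ≫ (ofScheme S).map τ = π ≫ c := by
      rw [hπc, ← Category.assoc, hd]
      ext1
      change y ≫ (yon S).map τ = f.hom
      rw [← cancel_epi w, ← Category.assoc, hy, ← Functor.map_comp, hvτ]
      exact hwf.symm
    have h2 : d ≫ (ofScheme S).map τ = c := Cofork.IsColimit.hom_ext hcol h1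
    have h3 : d₀ ≫ (yon S).map τ = c₀ := by
      rw [hd₀, hc₀]
      exact congrArg (·.hom) h2
    rw [Functor.map_comp, he, Category.assoc, h3]
    exact hsq'.w.trans (Category.comp_id _)
  -- finiteness
  let _ : Algebra A Γ(W'.left, ⊤) := ((Scheme.ΓSpecIso A).inv ≫ i.left.appTop).hom.toAlgebra
  have hfinC : Module.Finite A Γ(W'.left, ⊤) := by
    have h1 : i.left.appTop.hom.Finite := Scheme.Hom.finite_appTop i.left
    have h2 : ((Scheme.ΓSpecIso A).inv ≫ i.left.appTop).hom.Finite := by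
      refine RingHom.Finite.comp h1 (RingHom.Finite.of_surjective _ ?_)
      exact (ConcreteCategory.bijective_of_isIso (Scheme.ΓSpecIso A).inv).2
    exact h2
  let δ : CommRingCat.of (eqz A B) ⟶ Γ(W'.left, ⊤) := (Scheme.ΓSpecIso _).inv ≫ e.left.appTop
  have hδA : ε ≫ δ = (Scheme.ΓSpecIso A).inv ≫ i.left.appTop := by
    have h1 : e.left ≫ Spec.map ε = i.left := congrArg (fun f ↦ f.left) heτ
    have h2 := congrArg Scheme.Hom.appTop h1
    rw [Scheme.Hom.comp_appTop] at h2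
    rw [← h2, ← Scheme.ΓSpecIso_inv_naturality_assoc]
  have hδι : δ ≫ ω.left.appTop ≫ (Scheme.ΓSpecIso B).hom = ι := by
    have h1 : ω.left ≫ e.left = Spec.map ι := congrArg (fun f ↦ f.left) hωe
    have h2 := congrArg Scheme.Hom.appTop h1
    rw [Scheme.Hom.comp_appTop] at h2
    change (Scheme.ΓSpecIso _).inv ≫ e.left.appTop ≫ ω.left.appTop ≫ (Scheme.ΓSpecIso B).hom = ι
    rw [reassoc_of% h2, ← Scheme.ΓSpecIso_inv_naturality_assoc, Iso.inv_hom_id, Category.comp_id]
  let δ' : eqz A B →ₗ[A] Γ(W'.left, ⊤) :=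
    { toFun := δ.hom
      map_add' := map_add _
      map_smul' := fun r x ↦ by
        rw [Algebra.smul_def, map_mul, RingHom.id_apply, Algebra.smul_def]
        congr 1
        exact ConcreteCategory.congr_hom hδA r }
  have hinj : Function.Injective δ' := by
    intro x x' hxx
    have h1 : ι.hom x = ι.hom x' := by
      rw [← hδι]
      change (ω.left.appTop ≫ (Scheme.ΓSpecIso B).hom).hom (δ.hom x) = (ω.left.appTop ≫ (Scheme.ΓSpecIso B).hom).hom (δ.hom x')
      exact congrArg _ hxx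
    exact Subtype.ext h1
  have hE : Module.Finite A (eqz A B) := Module.Finite.of_injective δ' hinj
  exact Module.Finite.iff_fg.1 (inferInstanceAs (Module.Finite A (eqz A B)))

theorem isoSpec_inv_comp {W : Scheme.{u}} [IsAffine W] {A : CommRingCat.{u}} (q : W ⟶ Spec A) :
    W.isoSpec.inv ≫ q = Spec.map ((Scheme.ΓSpecIso A).inv ≫ q.appTop) := by
  have h1 : W.isoSpec.inv.appTop = (Scheme.ΓSpecIso Γ(W, ⊤)).inv := by
    have h2 := congrArg Scheme.Hom.appTop W.isoSpec.hom_inv_id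
    rw [Scheme.Hom.comp_appTop, Scheme.isoSpec_hom, Scheme.toSpecΓ_appTop] at h2
    rw [← cancel_mono (Scheme.ΓSpecIso Γ(W, ⊤)).hom, Iso.inv_hom_id, h2]
    exact Scheme.Hom.id_appTop
  refine hom_ext_spec _ _ ?_
  rw [Scheme.Hom.comp_appTop, ← Scheme.ΓSpecIso_inv_naturality, h1, Category.assoc]

theorem fg_eqz' (HC : CoeqHyp S) {A : CommRingCat.{u}} [hAN : IsNoetherianRing A] (sA : Spec A ⟶ S) {Y : Space S}
    (f : Y ⟶ (ofScheme S).obj (Over.mk sA)) (hf : IsProperMor f.hom) {W : Over S} [hWA : IsAffine W.left]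
    (w : (yon S).obj W ⟶ Y.obj) (hw : RepWith @Etale w) (hws : RepWith @Surjective w) (q : W ⟶ Over.mk sA)
    (hwf : w ≫ f.hom = (yon S).map q) :
    letI := ((Scheme.ΓSpecIso A).inv ≫ q.left.appTop).hom.toAlgebra
    (Subalgebra.toSubmodule (eqz A Γ(W.left, ⊤))).FG := by
  let e : Over.mk (Spec.map ((Scheme.ΓSpecIso A).inv ≫ q.left.appTop) ≫ sA) ⟶ W := Over.homMk W.left.isoSpec.inv (by
    change W.left.isoSpec.inv ≫ W.hom = Spec.map ((Scheme.ΓSpecIso A).inv ≫ q.left.appTop) ≫ sA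
    rw [← Over.w q, ← isoSpec_inv_comp, Category.assoc]
    rfl)
  have he : IsIso e.left := inferInstanceAs (IsIso W.left.isoSpec.inv)
  have heq : e ≫ q = Over.homMk (Spec.map ((Scheme.ΓSpecIso A).inv ≫ q.left.appTop)) rfl := by
    ext1
    exact isoSpec_inv_comp q.left
  refine fg_eqz HC sA ((Scheme.ΓSpecIso A).inv ≫ q.left.appTop) f hf ((yon S).map e ≫ w) ?_ ?_ ?_
  · refine MorphismProperty.comp_mem _ _ _ ((repWith_yon_map_iff _ _).2 ?_) hw
    exact (inferInstance : Etale e.left)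
  · refine MorphismProperty.comp_mem _ _ _ ((repWith_yon_map_iff _ _).2 ?_) hws
    exact (inferInstance : Surjective e.left)
  · have h1 : (yon S).map e ≫ (yon S).map q =
        (yon S).map (Over.homMk (Spec.map ((Scheme.ΓSpecIso A).inv ≫ q.left.appTop)) rfl) := by
      rw [← Functor.map_comp, heq]
    exact (Category.assoc _ _ _).trans ((congrArg (fun x ↦ (yon S).map e ≫ x) hwf).trans h1)

end K634.CoeqFin
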