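import Groth.Agent.AlgSp.K634.CoprodSp
import Groth.Agent.AlgSp.K597.ProperSub

/-!
# Morphisms out of a coproduct of two algebraic spaces

* `isProperMor_of_coprod`: proper if both restrictions are.
-/

set_option autoImplicit false

universe u

open CategoryTheory CategoryTheory.Limits AlgebraicGeometry Opposite

namespace K634.CoprodProper

open AlgSp K634.CoprodSp

variable {S : Scheme.{u}} {X₁ X₂ Y X : Space S} {inl : X₁ ⟶ Y} {inr : X₂ ⟶ Y}

theorem repWith_inl (hY : IsColimit (BinaryCofan.mk inl inr)) :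
    RepWith @IsOpenImmersion inl.hom ∧ RepWith @IsClosedImmersion inl.hom := by
  obtain ⟨hc⟩ := nonempty_isColimit_hom hY
  have h := K594.Atlas.repWith_inl hc
  exact ⟨K609.Points.repWith_mono (fun _ h ↦ h.1) h, K609.Points.repWith_mono (fun _ h ↦ h.2) h⟩

theorem repWith_inr (hY : IsColimit (BinaryCofan.mk inl inr)) :
    RepWith @IsOpenImmersion inr.hom ∧ RepWith @IsClosedImmersion inr.hom := by
  obtain ⟨hc⟩ := nonempty_isColimit_hom hY
  have h := K594.Atlas.repWith_inr hc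
  exact ⟨K609.Points.repWith_mono (fun _ h ↦ h.1) h, K609.Points.repWith_mono (fun _ h ↦ h.2) h⟩

theorem of_two_opens {P : MorphismProperty Scheme.{u}} [IsZariskiLocalAtSource P] {U₁ U₂ U V : Scheme.{u}} (i₁ : U₁ ⟶ U)
    (i₂ : U₂ ⟶ U) [IsOpenImmersion i₁] [IsOpenImmersion i₂] (h : U ⟶ V)
    (hs : ∀ x : U, x ∈ Set.range i₁ ∨ x ∈ Set.range i₂) (h₁ : P (i₁ ≫ h)) (h₂ : P (i₂ ≫ h)) : P h := by
  let O : Bool → U.Opens := fun b ↦ match b with
    | true => i₁.opensRange
    | false => i₂.opensRange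
  refine IsZariskiLocalAtSource.of_iSup_eq_top O ?_ ?_
  · refine TopologicalSpace.Opens.ext (Set.eq_univ_of_forall fun x ↦ ?_)
    rcases hs x with h | h
    · exact TopologicalSpace.Opens.mem_iSup.2 ⟨true, h⟩
    · exact TopologicalSpace.Opens.mem_iSup.2 ⟨false, h⟩
  · rintro (_ | _)
    · have e : i₂.opensRange.ι ≫ h = i₂.isoOpensRange.inv ≫ i₂ ≫ h := by
        rw [← Category.assoc, Scheme.Hom.isoOpensRange_inv_comp]
      change P (i₂.opensRange.ι ≫ h)
      rw [e]
      exact (MorphismProperty.cancel_left_of_respectsIso P _ _).2 h₂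
    · have e : i₁.opensRange.ι ≫ h = i₁.isoOpensRange.inv ≫ i₁ ≫ h := by
        rw [← Category.assoc, Scheme.Hom.isoOpensRange_inv_comp]
      change P (i₁.opensRange.ι ≫ h)
      rw [e]
      exact (MorphismProperty.cancel_left_of_respectsIso P _ _).2 h₁

theorem locP_of_coprod {P : MorphismProperty Scheme.{u}} [IsZariskiLocalAtSource P] (hY : IsColimit (BinaryCofan.mk inl inr))
    (g : Y ⟶ X) (h₁ : LocP P (inl ≫ g).hom) (h₂ : LocP P (inr ≫ g).hom) : LocP P g.hom := by
  intro U V a b h ha hb hab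
  obtain ⟨hc⟩ := nonempty_isColimit_hom hY
  have hl := (repWith_inl hY).1
  have hr := (repWith_inr hY).1
  obtain ⟨U₁, f₁, i₁, sq₁⟩ := hl.1 a
  obtain ⟨U₂, f₂, i₂, sq₂⟩ := hr.1 a
  have ho₁ : IsOpenImmersion f₁.left := hl.2 _ _ _ sq₁
  have ho₂ : IsOpenImmersion f₂.left := hr.2 _ _ _ sq₂
  refine of_two_opens f₁.left f₂.left h.left ?_ ?_ ?_
  · intro x
    rcases exists_point hc (Points.ofPt a x) with ⟨z, hz⟩ | ⟨z, hz⟩
    · obtain ⟨p, -, hp⟩ := K609.Points.exists_of_isPullback sq₁ z (Points.ofScheme U x)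
        (by rw [hz, Points.ofPt_eq_map_ofScheme])
      obtain ⟨t, rfl⟩ := K609.Points.ofScheme_surjective _ p
      refine Or.inl ⟨t, K609.Points.ofScheme_injective U ?_⟩
      rw [← hp, K609.Points.map_yon_map_ofScheme]
    · obtain ⟨p, -, hp⟩ := K609.Points.exists_of_isPullback sq₂ z (Points.ofScheme U x)
        (by rw [hz, Points.ofPt_eq_map_ofScheme])
      obtain ⟨t, rfl⟩ := K609.Points.ofScheme_surjective _ p
      refine Or.inr ⟨t, K609.Points.ofScheme_injective U ?_⟩
      rw [← hp, K609.Points.map_yon_map_ofScheme]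
  · refine h₁ i₁ b (f₁ ≫ h) (MorphismProperty.of_isPullback sq₁.flip ha) hb ?_
    change i₁ ≫ inl.hom ≫ g.hom = _
    rw [← Category.assoc, sq₁.w, Category.assoc, hab, Functor.map_comp, Category.assoc]
  · refine h₂ i₂ b (f₂ ≫ h) (MorphismProperty.of_isPullback sq₂.flip ha) hb ?_
    change i₂ ≫ inr.hom ≫ g.hom = _
    rw [← Category.assoc, sq₂.w, Category.assoc, hab, Functor.map_comp, Category.assoc]

theorem isQuasiCompactMor_of_coprod (hY : IsColimit (BinaryCofan.mk inl inr))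
    (g : Y ⟶ X) (h₁ : IsQuasiCompactMor (inl ≫ g).hom) (h₂ : IsQuasiCompactMor (inr ≫ g).hom) :
    IsQuasiCompactMor g.hom := by
  obtain ⟨hc⟩ := nonempty_isColimit_hom hY
  refine K596.QC.isQuasiCompactMor_of_affine Y.2 X.2 fun Z hZ z P fst snd sq ↦ ?_
  have sq₁ := IsPullback.of_hasPullback inl.hom fst
  have sq₂ := IsPullback.of_hasPullback inr.hom fst
  have k₁ : IsQuasiCompactSp (pullback inl.hom fst) :=
    h₁ (IsAlgSpace.yon_obj Z) (K596.QC.isQuasiCompactSp_yon Z) z _ _ (sq₁.paste_vert sq)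
  have k₂ : IsQuasiCompactSp (pullback inr.hom fst) :=
    h₂ (IsAlgSpace.yon_obj Z) (K596.QC.isQuasiCompactSp_yon Z) z _ _ (sq₂.paste_vert sq)
  have c₁ := K609.QC.compactSpace_points k₁
  have c₂ := K609.QC.compactSpace_points k₂
  refine ⟨?_⟩
  have e : (Set.univ : Set (Points P)) = Set.range (Points.map (pullback.snd inl.hom fst)) ∪
      Set.range (Points.map (pullback.snd inr.hom fst)) := by
    refine (Set.eq_univ_of_forall fun x ↦ ?_).symm
    rcases exists_point hc (Points.map fst x) with ⟨z, hz⟩ | ⟨z, hz⟩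
    · obtain ⟨p, -, hp⟩ := K609.Points.exists_of_isPullback sq₁ z x hz
      exact Or.inl ⟨p, hp⟩
    · obtain ⟨p, -, hp⟩ := K609.Points.exists_of_isPullback sq₂ z x hz
      exact Or.inr ⟨p, hp⟩
  rw [e]
  exact (isCompact_range (Points.continuous_map _)).union (isCompact_range (Points.continuous_map _))

theorem isProperMor_of_coprod (hY : IsColimit (BinaryCofan.mk inl inr))
    (g : Y ⟶ X) (h₁ : IsProperMor (inl ≫ g).hom) (h₂ : IsProperMor (inr ≫ g).hom) : IsProperMor g.hom := by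
  obtain ⟨hc⟩ := nonempty_isColimit_hom hY
  let W : Fin 2 → Space S := fun k ↦ match k with
    | 0 => X₁
    | 1 => X₂
  let m : ∀ k, W k ⟶ Y := fun k ↦ match k with
    | 0 => inl
    | 1 => inr
  have hs : ∀ x : Points Y.obj, ∃ k, x ∈ Set.range (Points.map (m k).hom) := fun x ↦ by
    rcases exists_point hc x with h | h
    · exact ⟨0, h⟩
    · exact ⟨1, h⟩
  have hp : ∀ k, IsProperMor (m k ≫ g).hom := by
    intro k
    match k with
    | 0 => exact h₁
    | 1 => exact h₂
  refine ⟨?_, ⟨?_, ?_⟩, ?_⟩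
  · refine K597.ProperSub.isSeparatedMor_of_family m g ?_ hs fun k ↦ (hp k).1
    intro k
    match k with
    | 0 => exact (repWith_inl hY).2
    | 1 => exact (repWith_inr hY).2
  · exact locP_of_coprod hY g h₁.2.1.1 h₂.2.1.1
  · exact isQuasiCompactMor_of_coprod hY g h₁.2.1.2 h₂.2.1.2
  · exact K597.ProperSub.isUnivClosedMor_of_family (g := fun k ↦ (m k).hom) hs fun k ↦ (hp k).2.2

end K634.CoprodProper
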