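import Groth.Agent.AlgSp.K594.Atlas
import Groth.Agent.AlgSp.K609.Points
import Groth.Agent.AlgSp.K610.Base

/-!
# Binary coproducts of algebraic spaces

* `isColimit_hom`: a coproduct in `Space S` is a coproduct of sheaves.
* `inl_mem`, `inr_mem`: the coprojections are open and closed immersions; `exists_point`: they are jointly surjective.
-/

set_option autoImplicit false

universe u

open CategoryTheory CategoryTheory.Limits AlgebraicGeometry Opposite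

namespace K634.CoprodSp

open AlgSp K594.Atlas

variable {S : Scheme.{u}}

theorem hasBinaryCoproducts : HasBinaryCoproducts (Sp S) := inferInstance

theorem nonempty_isColimit_hom {X₁ X₂ Y : Space S} {inl : X₁ ⟶ Y} {inr : X₂ ⟶ Y}
    (hY : IsColimit (BinaryCofan.mk inl inr)) : Nonempty (IsColimit (BinaryCofan.mk inl.hom inr.hom)) := by
  have h0 : HasBinaryCoproducts (Sp S) := inferInstance
  have hc : IsColimit (BinaryCofan.mk (coprod.inl : X₁.obj ⟶ X₁.obj ⨿ X₂.obj) coprod.inr) := coprodIsCoprod _ _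
  have halg : IsAlgSpace (X₁.obj ⨿ X₂.obj) := isAlgSpace_coprod (F := pairF X₁.obj X₂.obj) (by
    rintro ⟨_ | _⟩
    · exact X₂.2
    · exact X₁.2) (isColimitCofanOf hc)
  let Y' : Space S := ⟨X₁.obj ⨿ X₂.obj, halg⟩
  let inl' : X₁ ⟶ Y' := ⟨coprod.inl⟩
  let inr' : X₂ ⟶ Y' := ⟨coprod.inr⟩
  obtain ⟨d, hd1, hd2⟩ := BinaryCofan.IsColimit.desc' hY inl' inr'
  change inl ≫ d = inl' at hd1
  change inr ≫ d = inr' at hd2
  let e₀ : X₁.obj ⨿ X₂.obj ⟶ Y.obj := coprod.desc inl.hom inr.hom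
  let e : Y' ⟶ Y := ⟨e₀⟩
  have h1 : coprod.inl ≫ e₀ = inl.hom := coprod.inl_desc _ _
  have h2 : coprod.inr ≫ e₀ = inr.hom := coprod.inr_desc _ _
  have h3 : inl' ≫ e = inl := by
    ext1
    exact h1
  have h4 : inr' ≫ e = inr := by
    ext1
    exact h2
  have hde : d ≫ e = 𝟙 Y := by
    apply BinaryCofan.IsColimit.hom_ext hY
    · change inl ≫ d ≫ e = inl ≫ 𝟙 Y
      rw [← Category.assoc, hd1, h3, Category.comp_id]
    · change inr ≫ d ≫ e = inr ≫ 𝟙 Y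
      rw [← Category.assoc, hd2, h4, Category.comp_id]
  have hed : e₀ ≫ d.hom = 𝟙 _ := by
    have k1 : inl.hom ≫ d.hom = coprod.inl := congrArg (·.hom) hd1
    have k2 : inr.hom ≫ d.hom = coprod.inr := congrArg (·.hom) hd2
    apply coprod.hom_ext
    · rw [← Category.assoc, h1, k1, Category.comp_id]
    · rw [← Category.assoc, h2, k2, Category.comp_id]
  have hde' : d.hom ≫ e₀ = 𝟙 _ := congrArg (·.hom) hde
  let i : X₁.obj ⨿ X₂.obj ≅ Y.obj := ⟨e₀, d.hom, hed, hde'⟩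
  exact ⟨IsColimit.ofIsoColimit hc (BinaryCofan.ext i h1 h2)⟩

theorem exists_point_cofan {ι : Type u} {F : ι → Sp S} {c : Cofan F} (hc : IsColimit c) (y : Points c.pt) :
    ∃ i, y ∈ Set.range (Points.map (c.inj i)) := by
  obtain ⟨T, z, t, rfl⟩ := K610.Base.exists_ofPt_eq y
  obtain ⟨κ, V, g, hg, i, x, hx⟩ := K594.Coprod.exists_local hc ((J S).uliftYonedaEquiv z)
  obtain ⟨k, v, rfl⟩ := hg.surj t
  refine ⟨i k, Points.ofPt (K610.Base.ofSec (x k)) v, ?_⟩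
  have h1 : K610.Base.ofSec (x k) ≫ c.inj (i k) = (yon S).map (g k) ≫ z := by
    apply (J S).uliftYonedaEquiv.injective
    rw [(J S).uliftYonedaEquiv_comp, ← (J S).uliftYonedaEquiv_naturality, Equiv.apply_symm_apply]
    exact hx k
  rw [Points.map_ofPt, h1, K609.Points.ofPt_yon_map_comp]

theorem exists_point {F₁ F₂ G : Sp S} {inl : F₁ ⟶ G} {inr : F₂ ⟶ G} (hc : IsColimit (BinaryCofan.mk inl inr)) (y : Points G) :
    y ∈ Set.range (Points.map inl) ∨ y ∈ Set.range (Points.map inr) := by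
  obtain ⟨⟨_ | _⟩, z, hz⟩ := exists_point_cofan (isColimitCofanOf hc) y
  · exact Or.inr ⟨z, hz⟩
  · exact Or.inl ⟨z, hz⟩

theorem exists_local_cofan {ι : Type u} {F : ι → Sp S} {c : Cofan F} (hc : IsColimit c) {T : Over S} (z : (yon S).obj T ⟶ c.pt)
    (x : T.left) : ∃ (T' : Over S) (φ : T' ⟶ T), Flat φ.left ∧ LocallyOfFinitePresentation φ.left ∧ x ∈ Set.range φ.left ∧
      ∃ (i : ι) (l : (yon S).obj T' ⟶ F i), l ≫ c.inj i = (yon S).map φ ≫ z := by
  obtain ⟨κ, V, g, hg, i, y, hy⟩ := K594.Coprod.exists_local hc ((J S).uliftYonedaEquiv z)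
  obtain ⟨k, v, rfl⟩ := hg.surj x
  refine ⟨V k, g k, hg.flat k, hg.lfp k, ⟨v, rfl⟩, i k, K610.Base.ofSec (y k), ?_⟩
  apply (J S).uliftYonedaEquiv.injective
  rw [(J S).uliftYonedaEquiv_comp, ← (J S).uliftYonedaEquiv_naturality, Equiv.apply_symm_apply]
  exact hy k

/-- Local lifting of a morphism to a coproduct. -/
theorem exists_local_lift {F₁ F₂ G : Sp S} {inl : F₁ ⟶ G} {inr : F₂ ⟶ G} (hc : IsColimit (BinaryCofan.mk inl inr))
    {T : Over S} (z : (yon S).obj T ⟶ G) (x : T.left) :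
    ∃ (T' : Over S) (φ : T' ⟶ T), Flat φ.left ∧ LocallyOfFinitePresentation φ.left ∧ x ∈ Set.range φ.left ∧
      ((∃ l : (yon S).obj T' ⟶ F₁, l ≫ inl = (yon S).map φ ≫ z) ∨ ∃ r : (yon S).obj T' ⟶ F₂, r ≫ inr = (yon S).map φ ≫ z) := by
  obtain ⟨T', φ, h1, h2, h3, ⟨_ | _⟩, l, hl⟩ := exists_local_cofan (isColimitCofanOf hc) z x
  · exact ⟨T', φ, h1, h2, h3, Or.inr ⟨l, hl⟩⟩
  · exact ⟨T', φ, h1, h2, h3, Or.inl ⟨l, hl⟩⟩

end K634.CoprodSp
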