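import Groth.Agent.AlgSp.K632.DimOneSemi
import Groth.Agent.AlgSp.K619.ZarDec

/-!
# Sheaves covered by a scheme on points

The versions for arbitrary fppf sheaves `X` with a map from a scheme which is surjective on points of the results of
`K632.DimOneSemi`.
-/

set_option autoImplicit false
universe u
open CategoryTheory CategoryTheory.Limits AlgebraicGeometry Topology TopologicalSpace Opposite
open AlgSp

namespace K634.CovPts

open K650.Sat K632.DimOne

variable {S : Scheme.{u}}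

/-- `X` receives a map from a scheme which is surjective on points. -/
def Cov (X : Sp S) : Prop := ∃ (V : Over S) (p : (yon S).obj V ⟶ X), ∀ x : Points X, ∃ v, Points.ofPt p v = x

theorem Cov.of_surjective {X Y : Sp S} (h : Cov X) (f : X ⟶ Y) (hf : Function.Surjective (Points.map f)) : Cov Y := by
  obtain ⟨V, p, hp⟩ := h
  refine ⟨V, p ≫ f, fun y => ?_⟩
  obtain ⟨x, rfl⟩ := hf y
  obtain ⟨v, rfl⟩ := hp x
  exact ⟨v, by rw [Points.map_ofPt]⟩

theorem Cov.prod {X : Sp S} (h : Cov X) (N : Over S) : Cov (X ⨯ (yon S).obj N) := by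
  obtain ⟨V, p, hp⟩ := h
  obtain ⟨e⟩ : Nonempty ((yon S).obj (V ⨯ N) ≅ (yon S).obj V ⨯ (yon S).obj N) :=
    ⟨PreservesLimitPair.iso (yon S) V N⟩
  refine ⟨V ⨯ N, e.hom ≫ prod.map p (𝟙 _), fun x => ?_⟩
  obtain ⟨v, hv⟩ := hp (Points.map prod.fst x)
  obtain ⟨z, -, hz⟩ := K647.Pts.exists_point (K625.Prod.isPullback_map_left ((yon S).obj N) p)
    (Points.ofScheme V v) x (by rw [← hv, Points.ofPt_eq_map_ofScheme])
  obtain ⟨t, ht⟩ := K610.SchLocus.surjective_ofPt_iso e z
  refine ⟨t, ?_⟩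
  rw [← hz, ← ht, Points.map_ofPt]

/-- A sheaf in which all points have affine neighbourhoods is a scheme. -/
theorem exists_rep {X : Sp S} (hX : Cov X) (h : ∀ x : Points X, InAffine X {x}) :
    ∃ Y : Over S, Nonempty ((yon S).obj Y ≅ X) := by
  obtain ⟨V, p, hp⟩ := hX
  choose T j hT hj hx using fun v : V.left => h (Points.ofPt p v)
  obtain ⟨H, e, -⟩ := K610.ZarGlue.exists_iso_of_openCover (F := X) T j hj (fun x => by
    obtain ⟨v, rfl⟩ := hp x
    refine ⟨v, ?_⟩
    rw [← K610.SchLocus.range_ofPt]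
    exact hx v rfl)
  exact ⟨H, ⟨e⟩⟩

/-- The scheme representing a sheaf in which finite sets of points have affine neighbourhoods. -/
theorem FA.exists_rep {X : Sp S} (hX : Cov X) (h : FA X) :
    ∃ (Y : Over S) (_ : (yon S).obj Y ≅ X), ∀ F : Set Y.left, F.Finite → ∃ U : Y.left.Opens,
      IsAffineOpen U ∧ F ⊆ U := by
  obtain ⟨Y, ⟨e⟩⟩ := K634.CovPts.exists_rep hX fun x => h _ (Set.finite_singleton x)
  refine ⟨Y, e, fun F hF => ?_⟩
  obtain ⟨T, j, hT, hj, hFj⟩ := h (Points.ofPt e.hom '' F) (hF.image _)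
  obtain ⟨φ, hφ, hφ'⟩ := exists_hom e j hj
  refine ⟨φ.left.opensRange, isAffineOpen_opensRange φ.left, fun y hy => ?_⟩
  obtain ⟨t, ht⟩ := hFj ⟨y, hy, rfl⟩
  refine ⟨t, ofPt_injective e ?_⟩
  rw [← ht, ← hφ, K647.Pts.ofPt_map]

/-- Finite disjoint unions of the base. -/
theorem fa_sigma {X : Sp S} (hX : Cov X) {ι : Type*} [Finite ι] (N : Over S) (C : ι → Over S)
    (c : ∀ i, C i ⟶ N) (hc : ∀ i, IsOpenImmersion (c i).left) (hcov : ∀ n : N.left, ∃ i m, (c i).left m = n)
    (hdisj : ∀ i j m m', (c i).left m = (c j).left m' → i = j) (h : ∀ i, FA (X ⨯ (yon S).obj (C i))) :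
    FA (X ⨯ (yon S).obj N) := by
  intro E hE
  have hb : ∀ i, RepWith @IsOpenImmersion (K626.W5.bcMap X (c i)) := fun i => by
    have := hc i
    exact K626.W5.openImm_bcMap X (c i)
  have hinj : ∀ i, Function.Injective (Points.map (K626.W5.bcMap X (c i))) := fun i => by
    have := K610.Factor.mono_of_isOpenImmersion (hb i)
    exact K619.ZarDec.map_injective_of_mono _
  have hsurj : ∀ x : Points (X ⨯ (yon S).obj N), ∃ i y, Points.map (K626.W5.bcMap X (c i)) y = x := fun x => by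
    obtain ⟨n, hn⟩ := K647.Pts.exists_ofPt (Points.map prod.snd x)
    obtain ⟨i, m, rfl⟩ := hcov n
    obtain ⟨z, -, hz⟩ := K647.Pts.exists_point (K625.Prod.isPullback_map_right X ((yon S).map (c i)))
      (Points.ofScheme (C i) m) x (by rw [← hn, K609.Points.map_yon_map_ofScheme])
    exact ⟨i, z, hz⟩
  have hd : ∀ i j y z, Points.map (K626.W5.bcMap X (c i)) y = Points.map (K626.W5.bcMap X (c j)) z → i = j :=
    fun i j y z hyz => by
      obtain ⟨m, hm⟩ := K647.Pts.exists_ofPt (Points.map prod.snd y)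
      obtain ⟨m', hm'⟩ := K647.Pts.exists_ofPt (Points.map prod.snd z)
      refine hdisj i j m m' (K609.Points.ofScheme_injective N ?_)
      rw [← K609.Points.map_yon_map_ofScheme, ← K609.Points.map_yon_map_ofScheme, hm, hm']
      have h1 := congrArg (Points.map prod.snd) hyz
      rw [← Points.map_comp, ← Points.map_comp, prod.map_snd, prod.map_snd, Points.map_comp, Points.map_comp] at h1
      exact h1
  obtain ⟨Y, ⟨e⟩⟩ := K634.CovPts.exists_rep (hX.prod N) fun x => by
    obtain ⟨i, y, rfl⟩ := hsurj x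
    refine (InAffine.of_open (hb i) (h i {y} (Set.finite_singleton y))).mono ?_
    rw [Set.image_singleton]
  have hfin : ∀ i, (Points.map (K626.W5.bcMap X (c i)) ⁻¹' E).Finite := fun i => hE.preimage (hinj i).injOn
  choose T j hT hj hEj using fun i => h i _ (hfin i)
  choose φ hφ hφ' using fun i => exists_hom e (j i ≫ K626.W5.bcMap X (c i))
    (MorphismProperty.comp_mem (RepWith @IsOpenImmersion) _ _ (hj i) (hb i))
  have hU : IsAffineOpen (⨆ i, (φ i).left.opensRange) := by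
    refine IsAffineOpen.iSup_of_disjoint (fun i => isAffineOpen_opensRange _) fun i k hik => ?_
    rw [Function.onFun, ← Opens.coe_disjoint, Set.disjoint_left]
    rintro _ ⟨t, rfl⟩ ⟨t', ht'⟩
    refine hik (hd i k (Points.ofPt (j i) t) (Points.ofPt (j k) t') ?_)
    rw [Points.map_ofPt, Points.map_ofPt, ← hφ, ← hφ, K647.Pts.ofPt_map, K647.Pts.ofPt_map, ht']
  refine ⟨Over.mk ((⨆ i, (φ i).left.opensRange).ι ≫ Y.hom),
    (yon S).map (Over.homMk (⨆ i, (φ i).left.opensRange).ι rfl) ≫ e.hom, hU, ?_, ?_⟩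
  · refine MorphismProperty.comp_mem (RepWith @IsOpenImmersion) _ _ ((repWith_yon_map_iff _ _).2 ?_)
      (K610.SchLocus.repWith_iso e)
    exact (inferInstance : IsOpenImmersion (⨆ i, (φ i).left.opensRange).ι)
  · intro x hx
    obtain ⟨i, y, rfl⟩ := hsurj x
    obtain ⟨t, rfl⟩ := hEj i hx
    have h1 : (φ i).left t ∈ (⨆ i, (φ i).left.opensRange) := Opens.mem_iSup.2 ⟨i, t, rfl⟩
    refine ⟨⟨(φ i).left t, h1⟩, ?_⟩
    rw [Points.map_ofPt, ← hφ, K647.Pts.ofPt_map, K647.Pts.ofPt_map]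
    rfl

/-- Finite fibres. -/
theorem finite_fibre {X Z : Sp S} {g : Z ⟶ X} (hX : Cov X) (hq : RepWith @LocallyQuasiFinite g)
    (hqc : RepWith @QuasiCompact g) {Y : Over S} (e : (yon S).obj Y ≅ Z) {E : Set (Points X)} (hE : E.Finite) :
    {y : Y.left | Points.ofPt (e.hom ≫ g) y ∈ E}.Finite := by
  obtain ⟨V, p, hp⟩ := hX
  obtain ⟨W, i, q, sq⟩ := hq.1 p
  have h1 : LocallyQuasiFinite i.left := hq.2 p q i sq
  have h2 : QuasiCompact i.left := hqc.2 p q i sq
  have h3 : {y : Y.left | Points.ofPt (e.hom ≫ g) y ∈ E} = ⋃ x ∈ E, {y : Y.left | Points.ofPt (e.hom ≫ g) y = x} := by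
    ext y
    simp
  rw [h3]
  refine hE.biUnion fun x _ => ?_
  obtain ⟨v, rfl⟩ := hp x
  have h4 : (i.left ⁻¹' {v}).Finite := i.left.finite_preimage_singleton v
  let a : W.left → Y.left := ((yon S).preimage (q ≫ e.inv)).left
  refine (h4.image a).subset fun y hy => ?_
  have hy' : Points.map g (Points.ofPt e.hom y) = Points.ofPt p v := hy
  obtain ⟨w, hw, hw'⟩ := K647.Pts.exists_point_rep sq _ v hy'
  refine ⟨w, hw', ofPt_injective e ?_⟩
  rw [← hw]
  change Points.ofPt e.hom (((yon S).preimage (q ≫ e.inv)).left w) = _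
  rw [← K647.Pts.ofPt_map, (yon S).map_preimage, Category.assoc, e.inv_hom_id, Category.comp_id]

end K634.CovPts
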