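import Groth.Agent.AlgSp.K634.FiniteMor
import Groth.Agent.AlgSp.K595.DiagBasic
import Groth.Agent.AlgSp.K595.DiagRel
import Groth.Agent.AlgSp.K596.Univ
import Groth.Agent.AlgSp.K597.LocP
import Groth.Agent.AlgSp.K597.EtLoc
import Groth.Agent.AlgSp.K632.Chart
import Groth.Agent.S10587
import Groth.Agent.S10589
import Groth.Agent.S1312
import Mathlib.AlgebraicGeometry.ZariskisMainTheorem

/-!
# Finite and proper morphisms across thickenings
-/

set_option autoImplicit false

universe u

open CategoryTheory CategoryTheory.Limits AlgebraicGeometry Opposite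

namespace K634.DeformFin

open AlgSp K635.Thick K634.FiniteMor

variable {S : Scheme.{u}}

/-- A representable proper locally quasi-finite morphism is finite. -/
theorem isFiniteMor_of_proper {X Y : Sp S} (hY : IsAlgSpace Y) {f : X ⟶ Y} (hr : Representable f)
    (hs : IsSeparatedMor f) (hu : IsUnivClosedMor f) (hq : LocP (@LocallyQuasiFinite ⊓ @LocallyOfFiniteType) f) :
    IsFiniteMor f := by
  have e1 := (K595.DiagBasic.isSeparatedMor_iff_repWith hr).1 hs
  have e2 := (K596.Univ.repWith_universallyClosed_iff hr).2 hu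
  have := K597.stableBC_inf @LocallyQuasiFinite.{u} @LocallyOfFiniteType.{u}
  have e3 := K597.repWith_of_locP K597.etLoc_lqf hY.hasAtlas hr hq
  refine isFiniteMor_iff.2 ⟨hr, fun U V g fst snd sq => ?_⟩
  have i1 : IsSeparated snd.left := e1.2 _ _ _ sq
  have i2 : UniversallyClosed snd.left := e2.2 _ _ _ sq
  have i3 : LocallyOfFiniteType snd.left := (e3.2 _ _ _ sq).2
  have i4 : LocallyQuasiFinite snd.left := (e3.2 _ _ _ sq).1
  have i5 : IsProper snd.left := ⟨⟩
  exact (IsFinite.iff_isProper_and_locallyQuasiFinite _).2 ⟨i5, i4⟩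

/-- A finite morphism is separated, universally closed and locally quasi-finite. -/
theorem of_isFiniteMor {X Y : Sp S} {f : X ⟶ Y} (hf : IsFiniteMor f) :
    IsSeparatedMor f ∧ IsUnivClosedMor f ∧ LocP (@LocallyQuasiFinite ⊓ @LocallyOfFiniteType) f := by
  have h := isFiniteMor_iff.1 hf
  refine ⟨(K595.DiagBasic.isSeparatedMor_iff_repWith h.1).2 ⟨h.1, fun U V g fst snd sq => ?_⟩,
    (K596.Univ.repWith_universallyClosed_iff h.1).1 ⟨h.1, fun U V g fst snd sq => ?_⟩,
    K597.locP_of_repWith K597.etLoc_lqf.precomp ⟨h.1, fun U V g fst snd sq => ?_⟩⟩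
  · have : IsFinite snd.left := h.2 _ _ _ sq
    exact (inferInstance : IsSeparated snd.left)
  · have : IsFinite snd.left := h.2 _ _ _ sq
    exact (inferInstance : UniversallyClosed snd.left)
  · have : IsFinite snd.left := h.2 _ _ _ sq
    exact ⟨((IsFinite.iff_isProper_and_locallyQuasiFinite _).1 this).2, (inferInstance : LocallyOfFiniteType snd.left)⟩

theorem isFiniteMor_of_isPullback {F G F' G' : Sp S} {f : F ⟶ G} {f' : F' ⟶ G'} {a : F ⟶ F'} {b : G ⟶ G'}
    (sq : IsPullback a f f' b) (h : IsFiniteMor f') : IsFiniteMor f :=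
  isFiniteMor_iff.2 (MorphismProperty.of_isPullback (P := RepWith @IsFinite) sq (isFiniteMor_iff.1 h))

/-- Local quasi-finiteness crosses a thickening when the thick morphism is locally of finite type. -/
theorem lqf_of_thick {X X' Y Y' : Sp S} {i : X ⟶ X'} {j : Y ⟶ Y'} {f : X ⟶ Y} {f' : X' ⟶ Y'}
    (hcart : IsPullback i f f' j) (hj : IsThickMor j) (hft : LocP @LocallyOfFiniteType f')
    (h : LocP (@LocallyQuasiFinite ⊓ @LocallyOfFiniteType) f) :
    LocP (@LocallyQuasiFinite ⊓ @LocallyOfFiniteType) f' := by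
  refine K632.Chart.locP_of_thick (Q := @LocallyOfFiniteType) ?_ hcart hj hft h
  intro A A' B B' iA iB g g' ht hc hg' hg
  obtain ⟨hg1, hg2⟩ := hg
  have : LocallyOfFiniteType g' := hg'
  have : LocallyOfFiniteType g := hg2
  exact ⟨(Groth.Agent.S1312.result iA iB g g' ht hc).1 hg1, hg'⟩

/-- Finiteness crosses a thickening when the thick morphism is locally of finite type. -/
theorem finite_of_thick {X X' Y Y' : Space S} (i : X ⟶ X') (j : Y ⟶ Y') (f : X ⟶ Y) (f' : X' ⟶ Y')
    (H : LocP (@LocallyQuasiFinite ⊓ @LocallyOfFiniteType) f'.hom → IsSeparatedMor f'.hom → Representable f'.hom)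
    (hj : IsThickMor j.hom) (w : i ≫ f' = f ≫ j) (hcart : IsPullback i.hom f.hom f'.hom j.hom)
    (hft : LocP @LocallyOfFiniteType f'.hom) (hf : IsFiniteMor f.hom) : IsFiniteMor f'.hom := by
  have hi : IsThickMor i.hom := MorphismProperty.of_isPullback (P := RepWith thick) hcart.flip hj
  obtain ⟨h1, h2, h3⟩ := of_isFiniteMor hf
  have h1' := (Groth.Agent.S10589.result i j f f' hi hj w).1.1 h1
  have h2' := (Groth.Agent.S10587.result i j f f' hi hj w).2.2.1.1 h2
  have h3' := lqf_of_thick hcart hj hft h3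
  exact isFiniteMor_of_proper Y'.property (H h3' h1') h1' h2' h3'

end K634.DeformFin
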