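import Groth.Agent.AlgSp.K634.DeformFin
import Groth.Agent.S10591

/-!
# Deformations: finite and proper morphisms over a thickened base
-/

set_option autoImplicit false

universe u

open CategoryTheory CategoryTheory.Limits AlgebraicGeometry Opposite

namespace K634.DeformFin2

open AlgSp K635.Thick K634.FiniteMor K634.DeformFin

variable {S : Scheme.{u}}

theorem isPullback_of_base {X X' Y Y' B B' : Sp S} {iX : X ⟶ X'} {iY : Y ⟶ Y'} {iB : B ⟶ B'}
    {f : X ⟶ Y} {f' : X' ⟶ Y'} {g : Y ⟶ B} {g' : Y' ⟶ B'}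
    (hcX : IsPullback iX (f ≫ g) (f' ≫ g') iB) (hcY : IsPullback iY g g' iB)
    (w : iX ≫ f' = f ≫ iY) : IsPullback iX f f' iY :=
  (IsPullback.of_right (h₁₁ := f) (h₂₁ := f') (v₁₁ := iX) (v₁₂ := iY) (v₁₃ := iB)
    (h₁₂ := g) (h₂₂ := g') hcX.flip w.symm hcY.flip).flip

theorem finite_of_finThick {X X' Y Y' : Space S} (i : X ⟶ X') (j : Y ⟶ Y') (f : X ⟶ Y) (f' : X' ⟶ Y')
    (H : LocP (@LocallyQuasiFinite ⊓ @LocallyOfFiniteType) f'.hom → IsSeparatedMor f'.hom → Representable f'.hom)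
    (hj : IsThickMor j.hom) (w : i ≫ f' = f ≫ j) (hcart : IsPullback i.hom f.hom f'.hom j.hom)
    (hfo : IsFinThickMor i.hom) (hf : IsFiniteMor f.hom) : IsFiniteMor f'.hom := by
  have hi : IsThickMor i.hom := MorphismProperty.of_isPullback (P := RepWith thick) hcart.flip hj
  have h3 := (K597.locP_inf_iff.1 (of_isFiniteMor hf).2.2).2
  have h4 := (Groth.Agent.S10591.result i j f f' hi hj w hcart hfo 0).2.1.1 h3
  exact finite_of_thick i j f f' H hj w hcart h4 hf

theorem proper_iff_of_thick {X X' Y Y' : Space S} (i : X ⟶ X') (j : Y ⟶ Y') (f : X ⟶ Y) (f' : X' ⟶ Y')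
    (hj : IsThickMor j.hom) (w : i ≫ f' = f ≫ j) (hcart : IsPullback i.hom f.hom f'.hom j.hom)
    (hft : LocP @LocallyOfFiniteType f'.hom) : IsProperMor f.hom ↔ IsProperMor f'.hom := by
  have hi : IsThickMor i.hom := MorphismProperty.of_isPullback (P := RepWith thick) hcart.flip hj
  have h1 := (Groth.Agent.S10589.result i j f f' hi hj w).1
  obtain ⟨-, h2, h3, -⟩ := Groth.Agent.S10587.result i j f f' hi hj w
  have hft' : LocP @LocallyOfFiniteType f.hom :=
    K597.locP_bc K597.etLoc_lft hcart X'.property.hasAtlas Y'.property.hasAtlas Y.property.hasAtlas hft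
  exact and_congr h1 (and_congr (and_congr (iff_of_true hft' hft) h2) h3)

theorem deform_finite_iff {X X' Y Y' B B' : Space S} (iX : X ⟶ X') (iY : Y ⟶ Y') (iB : B ⟶ B')
    (f : X ⟶ Y) (f' : X' ⟶ Y') (g : Y ⟶ B) (g' : Y' ⟶ B')
    (H : LocP (@LocallyQuasiFinite ⊓ @LocallyOfFiniteType) f'.hom → IsSeparatedMor f'.hom → Representable f'.hom)
    (hcX : IsPullback iX.hom (f ≫ g).hom (f' ≫ g').hom iB.hom) (hcY : IsPullback iY.hom g.hom g'.hom iB.hom)
    (w : iX ≫ f' = f ≫ iY)
    (hB : IsFinThickMor iB.hom) :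
    (IsFiniteMor f.hom ↔ IsFiniteMor f'.hom) := by
  have sq := isPullback_of_base hcX hcY (congrArg (fun m => m.hom) w)
  obtain ⟨n, hn⟩ := hB
  have hj : IsThickMor iY.hom := MorphismProperty.of_isPullback (P := RepWith thick) hcY.flip hn.1
  have hfo : IsFinThickMor iX.hom := ⟨n, isNThickMor_of_isPullback B'.property X'.property hcX.flip hn⟩
  exact ⟨finite_of_finThick iX iY f f' H hj w sq hfo, isFiniteMor_of_isPullback sq⟩

theorem deform_proper_finite_iff {X X' Y Y' B B' : Space S} (iX : X ⟶ X') (iY : Y ⟶ Y') (iB : B ⟶ B')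
    (f : X ⟶ Y) (f' : X' ⟶ Y') (g : Y ⟶ B) (g' : Y' ⟶ B')
    (H : LocP (@LocallyQuasiFinite ⊓ @LocallyOfFiniteType) f'.hom → IsSeparatedMor f'.hom → Representable f'.hom)
    (hcX : IsPullback iX.hom (f ≫ g).hom (f' ≫ g').hom iB.hom) (hcY : IsPullback iY.hom g.hom g'.hom iB.hom)
    (w : iX ≫ f' = f ≫ iY)
    (hB : IsThickMor iB.hom) (hfp : LocP @LocallyOfFinitePresentation (f' ≫ g').hom) :
    (IsProperMor f.hom ↔ IsProperMor f'.hom) ∧ (IsFiniteMor f.hom ↔ IsFiniteMor f'.hom) := by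
  have sq := isPullback_of_base hcX hcY (congrArg (fun m => m.hom) w)
  have hj : IsThickMor iY.hom := MorphismProperty.of_isPullback (P := RepWith thick) hcY.flip hB
  have h1 : LocP @LocallyOfFiniteType (f'.hom ≫ g'.hom) := fun U V a b h ha hb w => by
    have : LocallyOfFinitePresentation h.left := hfp a b h ha hb w
    exact (inferInstance : LocallyOfFiniteType h.left)
  have hft : LocP @LocallyOfFiniteType f'.hom :=
    K597.locP_of_comp' K597.etLoc_lft (fun A B C u v (h : LocallyOfFiniteType (u ≫ v)) =>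
      locallyOfFiniteType_of_comp u v) X'.property.hasAtlas Y'.property.hasAtlas B'.property.hasAtlas h1
  exact ⟨proper_iff_of_thick iX iY f f' hj w sq hft, finite_of_thick iX iY f f' H hj w sq hft,
    isFiniteMor_of_isPullback sq⟩

end K634.DeformFin2
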