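import Groth.Agent.AlgSp.K632.DimOneAlg

/-!
# The normalization of a semi-local Noetherian ring of dimension at most one

The version of `K632.DimOneAlg.exists_cover` which records that the normalization is a monomorphism away from the
closed points.
-/

set_option autoImplicit false
universe u
open CategoryTheory CategoryTheory.Limits AlgebraicGeometry

namespace K634.DimCover

open K632.DimOneAlg

theorem component (O : Type u) [CommRing O] [IsNoetherianRing O] [Ring.KrullDimLE 1 O] [Finite (MaximalSpectrum O)]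
    (p : Ideal O) [p.IsPrime] : ∃ (C : Type u) (_ : CommRing C) (_ : IsDedekindDomain C)
      (_ : Finite (MaximalSpectrum C)) (φ : O →+* C), φ.IsIntegral ∧ φ.QuasiFinite ∧ RingHom.ker φ = p ∧
        ∀ c : C, ∃ s t : O, s ∉ p ∧ φ s * c = φ t := by
  have := krullDimLE_quotient p
  let B := O ⧸ p
  let C := integralClosure B (FractionRing B)
  have hinj : Function.Injective (algebraMap B C) := by
    have h1 : Function.Injective (algebraMap C (FractionRing B) ∘ algebraMap B C) := by
      rw [← RingHom.coe_comp, ← IsScalarTower.algebraMap_eq]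
      exact IsFractionRing.injective B (FractionRing B)
    exact h1.of_comp
  have hD : IsDedekindDomain C :=
    Groth.Agent.VarietyB.SemilocalDedekind.isDedekindDomain_of_isIntegralClosure B (FractionRing B) (FractionRing B) C
  have hint : Algebra.IsIntegral B C := inferInstance
  have hfin : Finite (MaximalSpectrum C) := by
    by_cases hf : IsField B
    · have hC : IsField C := isField_of_isIntegral_of_isField' hf
      let _ := hC.toField
      refine Finite.of_injective (β := Unit) (fun _ => ()) fun m m' _ => MaximalSpectrum.ext ?_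
      have h1 := fun I : MaximalSpectrum C => (Ideal.eq_bot_or_top I.asIdeal).resolve_right I.isMaximal.ne_top
      rw [h1 m, h1 m']
    · exact Groth.Agent.VarietyB.SemilocalDedekind.finite_maximalSpectrum B (finite_maximalSpectrum_quotient p) hf C hinj
  refine ⟨C, inferInstance, hD, hfin, (algebraMap B C).comp (Ideal.Quotient.mk p), ?_, ?_, ?_, ?_⟩
  · exact RingHom.IsIntegral.trans _ _ (RingHom.isIntegral_of_surjective _ Ideal.Quotient.mk_surjective)
      (algebraMap_isIntegral_iff.2 hint)
  · refine RingHom.QuasiFinite.comp ?_ (RingHom.QuasiFinite.of_finite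
      (RingHom.Finite.of_surjective _ Ideal.Quotient.mk_surjective))
    rw [RingHom.quasiFinite_algebraMap]
    exact quasiFinite B
  · rw [← RingHom.comap_ker, (RingHom.injective_iff_ker_eq_bot _).1 hinj, ← RingHom.ker_eq_comap_bot, Ideal.mk_ker]
  · intro c
    obtain ⟨⟨x, b⟩, hb⟩ := IsLocalization.surj (nonZeroDivisors B) (c : FractionRing B)
    obtain ⟨t, rfl⟩ := Ideal.Quotient.mk_surjective x
    obtain ⟨s, hs⟩ := Ideal.Quotient.mk_surjective (b : B)
    refine ⟨s, t, ?_, ?_⟩
    · intro h
      rw [Ideal.Quotient.eq_zero_iff_mem.2 h] at hs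
      exact nonZeroDivisors.ne_zero b.2 hs.symm
    · apply Subtype.ext
      change algebraMap B (FractionRing B) (Ideal.Quotient.mk p s) * (c : FractionRing B) =
        algebraMap B (FractionRing B) (Ideal.Quotient.mk p t)
      rw [hs, mul_comm]
      exact hb

/-- The normalization of a semi-local Noetherian ring of dimension at most one. -/
theorem exists_cover (O : Type u) [CommRing O] [IsNoetherianRing O] [Ring.KrullDimLE 1 O]
    [Finite (MaximalSpectrum O)] : ∃ (ι : Type u) (_ : Finite ι) (C : ι → Type u) (_ : ∀ i, CommRing (C i))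
      (_ : ∀ i, IsDedekindDomain (C i)) (_ : ∀ i, Finite (MaximalSpectrum (C i))) (φ : O →+* (∀ i, C i)),
      IsIntegralHom (Spec.map (CommRingCat.ofHom φ)) ∧ Surjective (Spec.map (CommRingCat.ofHom φ)) ∧
        LocallyQuasiFinite (Spec.map (CommRingCat.ofHom φ)) ∧
        ∀ (K : Type u) [Field K] (a a' : (∀ i, C i) →+* K), a.comp φ = a'.comp φ →
          ¬ (RingHom.ker (a.comp φ)).IsMaximal → a = a' := by
  classical
  have hc : ∀ p : {p : Ideal O // p ∈ minimalPrimes O}, ∃ (C : Type u) (_ : CommRing C) (_ : IsDedekindDomain C)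
      (_ : Finite (MaximalSpectrum C)) (φ : O →+* C), φ.IsIntegral ∧ φ.QuasiFinite ∧ RingHom.ker φ = p.1 ∧
        ∀ c : C, ∃ s t : O, s ∉ p.1 ∧ φ s * c = φ t := fun p => by
    have : p.1.IsPrime := p.2.1.1
    exact component O p.1
  choose C h1 h2 h3 φ h4 h5 h6 hfr using hc
  have hfin : Finite {p : Ideal O // p ∈ minimalPrimes O} := (minimalPrimes.finite_of_isNoetherianRing O).to_subtype
  have hint : (RingHom.pi φ).IsIntegral := by
    intro c
    have := Fintype.ofFinite {p : Ideal O // p ∈ minimalPrimes O}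
    choose f hf hf' using fun i => h4 i (c i)
    refine ⟨∏ i, f i, Polynomial.monic_prod_of_monic _ _ fun i _ => hf i, ?_⟩
    funext j
    have h7 : Pi.evalRingHom C j (Polynomial.eval₂ (RingHom.pi φ) c (∏ i, f i)) =
        Polynomial.eval₂ (φ j) (c j) (∏ i, f i) := by
      rw [Polynomial.hom_eval₂]
      rfl
    change Pi.evalRingHom C j (Polynomial.eval₂ (RingHom.pi φ) c (∏ i, f i)) = 0
    rw [h7, Polynomial.eval₂_finsetProd]
    exact Finset.prod_eq_zero (Finset.mem_univ j) (hf' j)
  refine ⟨_, hfin, C, h1, h2, h3, RingHom.pi φ, ?_, ?_, ?_, ?_⟩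
  · exact IsIntegralHom.SpecMap_iff.2 hint
  · refine ⟨fun x => ?_⟩
    obtain ⟨p, hp, hpx⟩ := Ideal.exists_minimalPrimes_le (I := (⊥ : Ideal O)) (J := x.asIdeal) bot_le
    let i : {p : Ideal O // p ∈ minimalPrimes O} := ⟨p, hp⟩
    have hx : RingHom.ker (φ i) ≤ x.asIdeal := by rw [h6 i]; exact hpx
    let _ := (φ i).toAlgebra
    have hint' : Algebra.IsIntegral O (C i) := ⟨h4 i⟩
    obtain ⟨Q, hQ, hQ'⟩ := Ideal.exists_ideal_over_prime_of_isIntegral (S := C i) x.asIdeal ⊥ (by
      change (⊥ : Ideal (C i)).comap (φ i) ≤ _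
      rw [← RingHom.ker_eq_comap_bot]
      exact hx)
    refine ⟨(Spec.map (CommRingCat.ofHom (Pi.evalRingHom C i))) (⟨Q, hQ'.1⟩ : PrimeSpectrum (C i)), ?_⟩
    apply PrimeSpectrum.ext
    exact hQ'.2
  · rw [← MorphismProperty.cancel_left_of_respectsIso @LocallyQuasiFinite (sigmaSpec fun i => CommRingCat.of (C i))]
    have h7 : sigmaSpec (fun i => CommRingCat.of (C i)) ≫ Spec.map (CommRingCat.ofHom (RingHom.pi φ)) =
        Sigma.desc fun i => Spec.map (CommRingCat.ofHom (φ i)) := by
      refine Sigma.hom_ext _ _ fun i => ?_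
      rw [ι_sigmaSpec_assoc, Sigma.ι_desc, ← Spec.map_comp]
      rfl
    rw [h7]
    refine IsZariskiLocalAtSource.sigmaDesc fun i => ?_
    rw [HasRingHomProperty.Spec_iff (P := @LocallyQuasiFinite)]
    exact h5 i
  · intro K _ a a' haa' hp
    have := Fintype.ofFinite {p : Ideal O // p ∈ minimalPrimes O}
    have hidem : ∀ b : (∀ i, C i) →+* K, ∃ i, b (Pi.single i 1) = 1 := by
      intro b
      by_contra hcon
      push Not at hcon
      have h8 : ∀ i, b (Pi.single i 1) = 0 := by
        intro i
        have h9 : b (Pi.single i 1) * b (Pi.single i 1) = b (Pi.single i 1) := by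
          rw [← map_mul, ← Pi.single_mul, one_mul]
        have h10 : b (Pi.single i 1) * (b (Pi.single i 1) - 1) = 0 := by rw [mul_sub, h9, mul_one, sub_self]
        rcases mul_eq_zero.1 h10 with h | h
        · exact h
        · exact absurd (sub_eq_zero.1 h) (hcon i)
      have h11 : (∑ i, Pi.single i (1 : C i)) = (1 : ∀ i, C i) := Finset.univ_sum_single (1 : ∀ i, C i)
      have h12 : b 1 = 0 := by
        rw [← h11, map_sum]
        exact Finset.sum_eq_zero fun i _ => h8 i
      rw [map_one] at h12
      exact one_ne_zero h12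
    have hloc : ∀ (b : (∀ i, C i) →+* K) (i) (_ : b (Pi.single i 1) = 1) (c c' : ∀ i, C i), c i = c' i → b c = b c' := by
      intro b i hi c c' hcc'
      have h8 : c * Pi.single i 1 = c' * Pi.single i 1 := by
        rw [← Pi.single_mul_right, ← Pi.single_mul_right, hcc']
      have h9 := congrArg b h8
      rwa [map_mul, map_mul, hi, mul_one, mul_one] at h9
    have hmin : ∀ (b : (∀ i, C i) →+* K) (i) (_ : b (Pi.single i 1) = 1), ¬ (RingHom.ker (b.comp (RingHom.pi φ))).IsMaximal →
        i.1 = RingHom.ker (b.comp (RingHom.pi φ)) := by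
      intro b i hi hbm
      have hle : i.1 ≤ RingHom.ker (b.comp (RingHom.pi φ)) := by
        intro x hx
        rw [← h6 i] at hx
        rw [RingHom.mem_ker, RingHom.comp_apply, ← map_zero b]
        exact hloc b i hi _ _ hx
      have hpr : (RingHom.ker (b.comp (RingHom.pi φ))).IsPrime := RingHom.ker_isPrime _
      rcases Ring.krullDimLE_one_iff.1 ‹_› _ hpr with h | h
      · exact le_antisymm hle (h.2 ⟨i.2.1.1, bot_le⟩ hle)
      · exact absurd h hbm
    obtain ⟨i, hi⟩ := hidem a
    obtain ⟨j, hj⟩ := hidem a'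
    have hij : i = j := Subtype.ext (by rw [hmin a i hi hp, hmin a' j hj (by rw [← haa']; exact hp), haa'])
    subst hij
    refine RingHom.ext fun c => ?_
    obtain ⟨s, t, hs, hst⟩ := hfr i (c i)
    have h8 : ∀ (b : (∀ i, C i) →+* K) (_ : b (Pi.single i 1) = 1), b (RingHom.pi φ s) * b c = b (RingHom.pi φ t) := by
      intro b hb
      rw [← map_mul]
      exact hloc b i hb _ _ hst
    have h9 : a (RingHom.pi φ s) ≠ 0 := by
      intro h
      apply hs
      rw [hmin a i hi hp]
      exact h
    have h10 : ∀ x : O, a (RingHom.pi φ x) = a' (RingHom.pi φ x) := fun x => DFunLike.congr_fun haa' x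
    have h11 := h8 a hi
    have h12 := h8 a' hj
    rw [← h10, ← h10, ← h11] at h12
    exact (mul_left_cancel₀ h9 h12).symm

end K634.DimCover
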