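import Mathlib.AlgebraicGeometry.Limits
import Mathlib.RingTheory.Localization.Away.Basic
import Mathlib.CategoryTheory.Limits.Constructions.Over.Connected
import Mathlib.CategoryTheory.Filtered.Connected

/-!
# The spectrum of a localization as a limit of basic opens

`diag R M z : (Idx R M)ᵒᵖ ⥤ Over S` sends `a ∈ M` to `Spec R_a`, and `cone R M z` has point `Spec M⁻¹R`;
`nonempty_isLimit`.
-/

set_option autoImplicit false
universe u

open CategoryTheory CategoryTheory.Limits AlgebraicGeometry Opposite

namespace K634.LocLim

variable {S : Scheme.{u}} (R : Type u) [CommRing R] (M : Submonoid R) (z : Spec (CommRingCat.of R) ⟶ S)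

/-- The elements of `M`, ordered by divisibility. -/
structure Idx : Type u where
  /-- the element -/
  val : M

instance : Preorder (Idx R M) where
  le a b := (a.val : R) ∣ (b.val : R)
  le_refl a := dvd_refl _
  le_trans a b c h h' := dvd_trans h h'

instance : Nonempty (Idx R M) := ⟨⟨1⟩⟩

instance : IsDirectedOrder (Idx R M) :=
  ⟨fun a b => ⟨⟨a.val * b.val⟩, Dvd.intro _ rfl, Dvd.intro_left _ rfl⟩⟩

variable {R M}

theorem isUnit_of_le {a b : Idx R M} (h : a ≤ b) :
    IsUnit (algebraMap R (Localization.Away (b.val : R)) (a.val : R)) :=
  isUnit_of_dvd_unit (map_dvd (algebraMap R (Localization.Away (b.val : R))) (show (a.val : R) ∣ (b.val : R) from h))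
    (IsLocalization.Away.algebraMap_isUnit (b.val : R))

/-- The transition maps. -/
noncomputable def tr {a b : Idx R M} (h : a ≤ b) : Localization.Away (a.val : R) →+* Localization.Away (b.val : R) :=
  IsLocalization.Away.lift (a.val : R) (isUnit_of_le h)

theorem tr_comp {a b : Idx R M} (h : a ≤ b) :
    (tr h).comp (algebraMap R (Localization.Away (a.val : R))) = algebraMap R _ :=
  IsLocalization.Away.lift_comp (a.val : R) (isUnit_of_le h)

theorem ext_away {a : Idx R M} {T : Type*} [CommRing T] {f g : Localization.Away (a.val : R) →+* T}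
    (h : f.comp (algebraMap R _) = g.comp (algebraMap R _)) : f = g :=
  IsLocalization.ringHom_ext (Submonoid.powers (a.val : R)) h

variable (R M)

/-- The diagram of rings. -/
noncomputable def F : Idx R M ⥤ CommRingCat.{u} where
  obj a := CommRingCat.of (Localization.Away (a.val : R))
  map h := CommRingCat.ofHom (tr h.le)
  map_id a := by
    ext1
    exact ext_away (by rw [CommRingCat.hom_ofHom, tr_comp]; rfl)
  map_comp {a b c} h h' := by
    ext1
    refine ext_away ?_
    rw [CommRingCat.hom_ofHom, tr_comp, CommRingCat.hom_comp, CommRingCat.hom_ofHom, CommRingCat.hom_ofHom,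
      RingHom.comp_assoc, tr_comp, tr_comp]

variable {R M} in
/-- The map to the localization. -/
noncomputable def toLoc (a : Idx R M) : Localization.Away (a.val : R) →+* Localization M :=
  IsLocalization.Away.lift (a.val : R) (g := algebraMap R (Localization M)) (IsLocalization.map_units _ a.val)

variable {R M} in
theorem toLoc_comp (a : Idx R M) : (toLoc a).comp (algebraMap R (Localization.Away (a.val : R))) = algebraMap R _ :=
  IsLocalization.Away.lift_comp (a.val : R) _

/-- The cocone of rings. -/
noncomputable def cocone : Cocone (F R M) where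
  pt := CommRingCat.of (Localization M)
  ι :=
    { app := fun a => CommRingCat.ofHom (toLoc a)
      naturality := fun a b h => by
        ext1
        refine ext_away ?_
        change ((toLoc b).comp (tr h.le)).comp _ = (toLoc a).comp _
        rw [RingHom.comp_assoc, tr_comp, toLoc_comp, toLoc_comp] }

theorem comp_eq (s : Cocone (F R M)) (a b : Idx R M) :
    (s.ι.app a).hom.comp (algebraMap R (Localization.Away (a.val : R))) =
      (s.ι.app b).hom.comp (algebraMap R (Localization.Away (b.val : R))) := by
  have key : ∀ {a b : Idx R M} (h : a ≤ b), (s.ι.app a).hom.comp (algebraMap R (Localization.Away (a.val : R))) =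
      (s.ι.app b).hom.comp (algebraMap R (Localization.Away (b.val : R))) := by
    intro a b h
    rw [← s.w (homOfLE h), CommRingCat.hom_comp, RingHom.comp_assoc]
    congr 1
    exact tr_comp h
  obtain ⟨c, hac, hbc⟩ := exists_ge_ge a b
  rw [key hac, key hbc]

/-- It is a colimit. -/
noncomputable def isColimit : IsColimit (cocone R M) where
  desc s := CommRingCat.ofHom (IsLocalization.lift (M := M)
    (g := (s.ι.app ⟨1⟩).hom.comp (algebraMap R (Localization.Away (((⟨1⟩ : Idx R M).val : R))))) (fun y => by
      rw [comp_eq R M s ⟨1⟩ ⟨y⟩]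
      exact IsUnit.map (s.ι.app ⟨y⟩).hom
        (IsLocalization.Away.algebraMap_isUnit (S := Localization.Away ((⟨y⟩ : Idx R M).val : R)) (y : R))))
  fac s a := by
    ext1
    refine ext_away ?_
    change ((IsLocalization.lift _).comp (toLoc a)).comp _ = _
    rw [RingHom.comp_assoc, toLoc_comp, IsLocalization.lift_comp]
    exact comp_eq R M s _ _
  uniq s m hm := by
    ext1
    refine IsLocalization.ringHom_ext (S := Localization M) M ?_
    change _ = (IsLocalization.lift _).comp (algebraMap R (Localization M))
    rw [IsLocalization.lift_comp, ← hm ⟨1⟩, CommRingCat.hom_comp, RingHom.comp_assoc]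
    congr 1
    exact (toLoc_comp _).symm

/-- The diagram of basic opens. -/
noncomputable def diag : (Idx R M)ᵒᵖ ⥤ Over S where
  obj a := Over.mk (Spec.map (CommRingCat.ofHom (algebraMap R (Localization.Away (a.unop.val : R)))) ≫ z)
  map {a b} h := Over.homMk (Spec.map ((F R M).map h.unop)) (by
    change Spec.map _ ≫ Spec.map _ ≫ z = Spec.map _ ≫ z
    rw [← Category.assoc, ← Spec.map_comp]
    congr 2
    ext1
    exact tr_comp h.unop.le)
  map_id a := by
    ext1
    change Spec.map ((F R M).map (𝟙 _)) = 𝟙 _
    rw [(F R M).map_id]
    exact Spec.map_id _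
  map_comp f g := by
    ext1
    change Spec.map ((F R M).map (g.unop ≫ f.unop)) = Spec.map _ ≫ Spec.map _
    rw [(F R M).map_comp, Spec.map_comp]
    rfl

/-- The cone with point the spectrum of the localization. -/
noncomputable def cone : Cone (diag R M z) where
  pt := Over.mk (Spec.map (CommRingCat.ofHom (algebraMap R (Localization M))) ≫ z)
  π :=
    { app := fun a => Over.homMk (Spec.map ((cocone R M).ι.app a.unop)) (by
        change Spec.map _ ≫ Spec.map _ ≫ z = Spec.map _ ≫ z
        rw [← Category.assoc, ← Spec.map_comp]
        congr 2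
        ext1
        exact toLoc_comp a.unop)
      naturality := fun a b h => by
        ext1
        change 𝟙 _ ≫ Spec.map ((cocone R M).ι.app b.unop) = Spec.map ((cocone R M).ι.app a.unop) ≫
          Spec.map ((F R M).map h.unop)
        rw [Category.id_comp, ← Spec.map_comp]
        exact congrArg Spec.map ((cocone R M).w h.unop).symm }

theorem nonempty_isLimit : Nonempty (IsLimit ((Over.forget S).mapCone (cone R M z))) :=
  ⟨isLimitOfPreserves Scheme.Spec (isColimit R M).op⟩

theorem isAffine (a : (Idx R M)ᵒᵖ) : IsAffine ((diag R M z).obj a).left :=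
  inferInstanceAs (IsAffine (Spec _))

end K634.LocLim
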