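import Mathlib.FieldTheory.Normal.Closure
import Mathlib.FieldTheory.Minpoly.IsConjRoot
import Mathlib.RingTheory.QuasiFinite.Basic
import Mathlib.RingTheory.Valuation.LocalSubring
import Mathlib.RingTheory.DiscreteValuationRing.TFAE
import Mathlib.RingTheory.Ideal.GoingDown
import Mathlib.RingTheory.RegularLocalRing.Defs
import Groth.Agent.NonAbH1.K553.DedExt
import Groth.Agent.S4946

/-!
# Quasi-sections over a discrete valuation ring

* `exists_comap_eq` : the automorphisms of a finite normal extension act transitively on the maximal ideals of the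
  integral closure lying over a given one.
* `exists_quasiSection` : a finite type algebra mapping to a faithfully flat algebra over a DVR maps to all the
  localizations of the integral closure in a large finite extension.
-/

set_option autoImplicit false
universe u
open CategoryTheory CategoryTheory.Limits AlgebraicGeometry Opposite Polynomial

namespace K634.QSec

section Normal

variable {K L : Type u} [Field K] [Field L] [Algebra K L] [FiniteDimensional K L] [Normal K L]

/-- An element fixed by all automorphisms has a power in the base field. -/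
theorem exists_pow_mem (y : L) (hy : ∀ σ : L ≃ₐ[K] L, σ y = y) : ∃ (n : ℕ) (a : K), algebraMap K L a = y ^ n ∧ n ≠ 0 := by
  have hint : IsIntegral K y := Algebra.IsIntegral.isIntegral y
  have hs : ((minpoly K y).map (algebraMap K L)).Splits := Normal.splits inferInstance y
  have hmon : ((minpoly K y).map (algebraMap K L)).Monic := (minpoly.monic hint).map _
  have hroots : ∀ z ∈ ((minpoly K y).map (algebraMap K L)).roots, z = y := by
    intro z hz
    have h1 : aeval z (minpoly K y) = 0 := by
      have := (Polynomial.mem_roots'.1 hz).2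
      rwa [Polynomial.IsRoot.def, Polynomial.eval_map_algebraMap] at this
    have h2 : IsConjRoot K y z := (isConjRoot_iff_aeval_eq_zero hint).2 h1
    obtain ⟨σ, hσ⟩ := isConjRoot_iff_exists_algEquiv.1 h2
    exact σ.injective (hσ.trans (hy σ).symm)
  have h5 := Multiset.eq_replicate_card.2 hroots
  have h6 := hs.eq_prod_roots_of_monic hmon
  have h7 : ((minpoly K y).map (algebraMap K L)).eval 0 =
      (-y) ^ ((minpoly K y).map (algebraMap K L)).roots.card := by
    conv_lhs => rw [h6, h5]
    simp
  have h8 : ((minpoly K y).map (algebraMap K L)).eval 0 = algebraMap K L ((minpoly K y).coeff 0) := by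
    rw [← Polynomial.coeff_zero_eq_eval_zero, Polynomial.coeff_map]
  have h9 : ((minpoly K y).map (algebraMap K L)).roots.card ≠ 0 := by
    rw [← hs.natDegree_eq_card_roots, Polynomial.natDegree_map]
    exact (minpoly.natDegree_pos hint).ne'
  refine ⟨_, (-1) ^ ((minpoly K y).map (algebraMap K L)).roots.card * (minpoly K y).coeff 0, ?_, h9⟩
  rw [map_mul, ← h8, h7, map_pow, map_neg, map_one, ← mul_pow]
  simp

end Normal

section Trans

variable {A K L : Type u} [CommRing A] [Field K] [Algebra A K] [Field L] [Algebra K L] [Algebra A L]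
  [IsScalarTower A K L]

/-- The restriction of an automorphism to the integral closure. -/
noncomputable def restr (σ : L ≃ₐ[K] L) : integralClosure A L →+* integralClosure A L :=
  (((σ : L →ₐ[K] L).restrictScalars A).comp (integralClosure A L).val).toRingHom.codRestrict
    (integralClosure A L) (fun x => x.2.map ((σ : L →ₐ[K] L).restrictScalars A))

theorem coe_restr (σ : L ≃ₐ[K] L) (x : integralClosure A L) : (restr σ x : L) = σ x := rfl

variable [IsIntegrallyClosed A] [IsFractionRing A K] [FiniteDimensional K L] [Normal K L]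

/-- **Transitivity.** -/
theorem exists_comap_eq (q q' : Ideal (integralClosure A L)) [q.IsMaximal] [q'.IsPrime]
    (h : q.comap (algebraMap A _) = q'.comap (algebraMap A _)) :
    ∃ σ : L ≃ₐ[K] L, q'.comap (restr σ) = q := by
  classical
  by_contra hcon
  push Not at hcon
  have h1 : ¬ (q : Set (integralClosure A L)) ⊆ ⋃ σ ∈ ((Finset.univ : Finset (L ≃ₐ[K] L)) : Set (L ≃ₐ[K] L)),
      (q'.comap (restr σ) : Set (integralClosure A L)) := by
    rw [Ideal.subset_union_prime 1 1 (fun σ _ _ _ => inferInstance)]
    rintro ⟨σ, -, hσ⟩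
    exact hcon σ ((Ideal.IsMaximal.eq_of_le inferInstance (Ideal.IsPrime.ne_top inferInstance) hσ).symm)
  obtain ⟨x, hx, hx'⟩ := Set.not_subset.1 h1
  have hx'' : ∀ σ : L ≃ₐ[K] L, restr σ x ∉ q' := by
    intro σ hσ
    exact hx' (Set.mem_biUnion (Finset.mem_coe.2 (Finset.mem_univ σ)) hσ)
  let y : integralClosure A L := ∏ σ : L ≃ₐ[K] L, restr σ x
  have hyq : y ∈ q := by
    refine Ideal.mem_of_dvd _ (Finset.dvd_prod_of_mem _ (Finset.mem_univ (AlgEquiv.refl : L ≃ₐ[K] L))) ?_
    exact hx
  have hyσ : ∀ τ : L ≃ₐ[K] L, τ (y : L) = y := by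
    intro τ
    have h2 : (y : L) = ∏ σ : L ≃ₐ[K] L, σ (x : L) := by
      change (integralClosure A L).val y = _
      rw [map_prod]
      rfl
    rw [h2, map_prod]
    exact Fintype.prod_equiv (Equiv.mulLeft τ) _ _ (fun σ => rfl)
  obtain ⟨n, a, ha, hn⟩ := exists_pow_mem (K := K) (y : L) hyσ
  have haint : IsIntegral A a := by
    rw [← isIntegral_algebraMap_iff (algebraMap K L).injective, ha]
    exact y.2.pow n
  obtain ⟨b, hb⟩ := IsIntegrallyClosed.isIntegral_iff.1 haint
  have hyb : algebraMap A (integralClosure A L) b = y ^ n := by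
    apply Subtype.ext
    change algebraMap A L b = (y : L) ^ n
    rw [← ha, ← hb, ← IsScalarTower.algebraMap_apply]
  have h3 : b ∈ q.comap (algebraMap A (integralClosure A L)) := by
    rw [Ideal.mem_comap, hyb]
    exact Ideal.pow_mem_of_mem _ hyq _ (Nat.pos_of_ne_zero hn)
  rw [h, Ideal.mem_comap, hyb] at h3
  have h4 : y ∈ q' := Ideal.IsPrime.mem_of_pow_mem inferInstance _ h3
  obtain ⟨σ, -, hσ⟩ := (Ideal.IsPrime.prod_mem_iff).1 h4
  exact hx'' σ hσ

end Trans


section Dom

/-- A domain quasi-finite over a DVR with a prime over the maximal ideal maps to the localizations of the integral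
closure in a large finite extension. -/
theorem exists_algHom {A D : Type u} [CommRing A] [IsDomain A] [IsDiscreteValuationRing A] [CommRing D] [IsDomain D]
    [Algebra A D] [Algebra.QuasiFinite A D] (hinj : Function.Injective (algebraMap A D)) (P : Ideal D) [P.IsPrime]
    (hP : P.comap (algebraMap A D) = IsLocalRing.maximalIdeal A) :
    ∃ (K₁ : Type u) (_ : Field K₁) (_ : Algebra A K₁) (_ : Algebra (FractionRing A) K₁)
      (_ : IsScalarTower A (FractionRing A) K₁) (_ : FiniteDimensional (FractionRing A) K₁),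
      ∀ (q : Ideal (integralClosure A K₁)) [q.IsMaximal], Nonempty (D →ₐ[A] Localization.AtPrime q) := by
  let K := FractionRing A
  let K₀ := FractionRing D
  have hinj0 : Function.Injective (algebraMap A K₀) := by
    rw [IsScalarTower.algebraMap_eq A D K₀]
    exact (IsFractionRing.injective D K₀).comp hinj
  let _ : Algebra K K₀ := (IsFractionRing.lift (K := K) hinj0).toAlgebra
  have hsc : IsScalarTower A K K₀ := IsScalarTower.of_algebraMap_eq fun x => by
    change _ = IsFractionRing.lift (K := K) hinj0 (algebraMap A K x)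
    rw [IsFractionRing.lift_algebraMap]
  have hq1 : Algebra.QuasiFinite A K₀ := Algebra.QuasiFinite.of_isLocalization (nonZeroDivisors D)
  have hq2 : Algebra.QuasiFinite K K₀ := Algebra.QuasiFinite.of_restrictScalars A K K₀
  have hfin : Module.Finite K K₀ := Module.Finite.of_quasiFinite
  let Ω := AlgebraicClosure K₀
  let L : IntermediateField K Ω := IntermediateField.normalClosure K K₀ Ω
  have hLn : Normal K L := inferInstance
  have hLf : FiniteDimensional K L := inferInstance
  let e : K₀ →ₐ[K] Ω := IsScalarTower.toAlgHom K K₀ Ω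
  have he : ∀ x, e x ∈ L := fun x => (e.fieldRange_le_normalClosure) ⟨x, rfl⟩
  let ι : K₀ →ₐ[K] L := e.codRestrict L.toSubalgebra he
  let κ : D →+* L := ι.toRingHom.comp (algebraMap D K₀)
  have hκA : ∀ a : A, κ (algebraMap A D a) = algebraMap K L (algebraMap A K a) := by
    intro a
    change ι (algebraMap D K₀ (algebraMap A D a)) = _
    rw [← IsScalarTower.algebraMap_apply A D K₀, IsScalarTower.algebraMap_apply A K K₀, ι.commutes]
  have hκinj : Function.Injective κ := ι.toRingHom.injective.comp (IsFractionRing.injective D K₀)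
  let _ : Algebra A L := ((algebraMap K L).comp (algebraMap A K)).toAlgebra
  have hscL : IsScalarTower A K L := IsScalarTower.of_algebraMap_eq fun _ => rfl
  have hκA' : ∀ a : A, κ (algebraMap A D a) = algebraMap A L a := hκA
  refine ⟨L, inferInstance, inferInstance, inferInstance, hscL, hLf, ?_⟩
  let A₁ := integralClosure A L
  have hDed : IsDedekindDomain A₁ := K553.DedExt.isDedekindDomain A K L
  have hfrac : IsFractionRing A₁ L := K553.DedExt.isFractionRing A K L
  have hinjL : Function.Injective (algebraMap A L) := K553.DedExt.injective_algebraMap A K L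
  -- the valuation ring
  have hunit : ∀ s : P.primeCompl, IsUnit (κ s) := fun s => by
    rw [isUnit_iff_ne_zero]
    intro h0
    exact s.2 (by rw [(map_eq_zero_iff κ hκinj).1 h0]; exact P.zero_mem)
  let f : Localization.AtPrime P →+* L := IsLocalization.lift (M := P.primeCompl) hunit
  obtain ⟨V, hV, hloc⟩ := IsLocalRing.exists_factor_valuationRing f
  have hfκ : ∀ d, f (algebraMap D _ d) = κ d := fun d => IsLocalization.lift_eq hunit d
  have hκV : ∀ d, κ d ∈ V := fun d => by rw [← hfκ]; exact hV _
  have hAV : ∀ a : A, algebraMap A L a ∈ V := fun a => by rw [← hκA']; exact hκV _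
  let gA : A →+* V := (algebraMap A L).codRestrict V.toSubring hAV
  have hA₁V : ∀ x : A₁, (x : L) ∈ V := by
    intro x
    let _ : Algebra A V := gA.toAlgebra
    have hs1 : IsScalarTower A V L := IsScalarTower.of_algebraMap_eq fun _ => rfl
    have hx : IsIntegral V (x : L) := x.2.tower_top
    obtain ⟨y, hy⟩ := IsIntegrallyClosed.isIntegral_iff.1 hx
    rw [← hy]
    exact y.2
  let g : A₁ →+* V := (algebraMap A₁ L).codRestrict V.toSubring hA₁V
  let q₀ : Ideal A₁ := (IsLocalRing.maximalIdeal V).comap g
  have hq₀p : q₀.IsPrime := inferInstance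
  have hq₀A : q₀.comap (algebraMap A A₁) = IsLocalRing.maximalIdeal A := by
    ext a
    rw [← hP, Ideal.mem_comap, Ideal.mem_comap, Ideal.mem_comap, IsLocalRing.mem_maximalIdeal, mem_nonunits_iff]
    have e1 : g (algebraMap A A₁ a) = f.codRestrict V.toSubring hV (algebraMap D _ (algebraMap A D a)) := by
      apply Subtype.ext
      change algebraMap A L a = f (algebraMap D _ (algebraMap A D a))
      rw [hfκ, hκA']
    have e2 : IsUnit (g (algebraMap A A₁ a)) ↔ IsUnit (algebraMap D (Localization.AtPrime P) (algebraMap A D a)) := by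
      rw [e1]
      exact isUnit_map_iff (f.codRestrict V.toSubring hV) _
    rw [e2, IsLocalization.AtPrime.isUnit_to_map_iff (Localization.AtPrime P) P]
    change ¬ (algebraMap A D a ∉ P) ↔ _
    rw [not_not]
  have hq₀m : q₀.IsMaximal := Ideal.isMaximal_of_isIntegral_of_isMaximal_comap q₀ (by
    rw [hq₀A]; infer_instance)
  have hq₀b : q₀ ≠ ⊥ := by
    intro h0
    rw [h0] at hq₀A
    obtain ⟨π, hπ⟩ := IsDiscreteValuationRing.exists_irreducible A
    have h1 : π ∈ IsLocalRing.maximalIdeal A := (IsLocalRing.mem_maximalIdeal _).2 hπ.not_isUnit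
    rw [← hq₀A, Ideal.mem_comap, Ideal.mem_bot] at h1
    have h2 : algebraMap A L π = 0 := congrArg (algebraMap A₁ L) h1 |>.trans (map_zero _)
    exact hπ.ne_zero (hinjL (by rw [h2, map_zero]))
  have hdvr : IsDiscreteValuationRing (Localization.AtPrime q₀) :=
    IsLocalization.AtPrime.isDiscreteValuationRing_of_dedekind_domain A₁ hq₀b _
  -- elements of the valuation ring are fractions
  have hfr : ∀ x : L, x ∈ V → ∃ a s : A₁, s ∉ q₀ ∧ x * s = a := by
    intro x hx
    obtain ⟨b, c, hc, rfl⟩ := IsFractionRing.div_surjective (A := A₁) x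
    have hc0 : algebraMap A₁ L c ≠ 0 := by
      rw [Ne, map_eq_zero_iff _ (IsFractionRing.injective A₁ L)]
      exact nonZeroDivisors.ne_zero hc
    have hinj₀ : Function.Injective (algebraMap A₁ (Localization.AtPrime q₀)) :=
      IsLocalization.injective _ q₀.primeCompl_le_nonZeroDivisors
    have key : ∀ b c : A₁, algebraMap A₁ (Localization.AtPrime q₀) c ∣ algebraMap A₁ (Localization.AtPrime q₀) b →
        ∃ a s : A₁, s ∉ q₀ ∧ b * s = c * a := by
      rintro b c ⟨z, hz⟩
      obtain ⟨a, s, rfl⟩ := IsLocalization.exists_mk'_eq q₀.primeCompl z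
      refine ⟨a, s, s.2, hinj₀ ?_⟩
      rw [map_mul, map_mul, hz, mul_assoc, IsLocalization.mk'_spec]
    rcases ValuationRing.dvd_total (algebraMap A₁ (Localization.AtPrime q₀) c)
      (algebraMap A₁ (Localization.AtPrime q₀) b) with h1 | h1
    · obtain ⟨a, s, hs, h2⟩ := key b c h1
      refine ⟨a, s, hs, ?_⟩
      have h3 : algebraMap A₁ L b * s = algebraMap A₁ L c * a := congrArg (algebraMap A₁ L) h2
      rw [div_mul_eq_mul_div, h3, mul_comm, mul_div_assoc, div_self hc0, mul_one]
    · obtain ⟨a, s, hs, h2⟩ := key c b h1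
      have h3 : algebraMap A₁ L c * s = algebraMap A₁ L b * a := congrArg (algebraMap A₁ L) h2
      have h4 : algebraMap A₁ L b / algebraMap A₁ L c * a = s := by
        rw [div_mul_eq_mul_div, ← h3, mul_comm, mul_div_assoc, div_self hc0, mul_one]
      by_cases ha : a ∈ q₀
      · exfalso
        apply hs
        have h5 : (⟨_, hx⟩ : V) * g a = g s := Subtype.ext h4
        change g s ∈ IsLocalRing.maximalIdeal V
        rw [← h5]
        exact Ideal.mul_mem_left _ _ ha
      · exact ⟨s, a, ha, h4⟩
  intro q hq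
  have hqA : q.comap (algebraMap A A₁) = IsLocalRing.maximalIdeal A := by
    have : (q.comap (algebraMap A A₁)).IsMaximal := Ideal.isMaximal_comap_of_isIntegral_of_isMaximal q
    exact IsLocalRing.eq_maximalIdeal this
  obtain ⟨σ, hσ⟩ := exists_comap_eq (K := K) (L := L) q₀ q (by rw [hq₀A, hqA])
  have hunitq : ∀ s : q.primeCompl, IsUnit (algebraMap A₁ L s) := fun s => by
    rw [isUnit_iff_ne_zero, Ne, map_eq_zero_iff _ (IsFractionRing.injective A₁ L)]
    intro h0
    exact s.2 (by rw [h0]; exact q.zero_mem)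
  let j : Localization.AtPrime q →+* L := IsLocalization.lift (M := q.primeCompl) hunitq
  have hj : ∀ x : A₁, j (algebraMap A₁ _ x) = x := fun x => IsLocalization.lift_eq hunitq x
  have hjinj : Function.Injective j := by
    rw [IsLocalization.lift_injective_iff]
    intro x y
    rw [(IsLocalization.injective (Localization.AtPrime q) q.primeCompl_le_nonZeroDivisors).eq_iff,
      (IsFractionRing.injective A₁ L).eq_iff]
  have hr : ∀ d : D, ∃ z, j z = σ (κ d) := by
    intro d
    obtain ⟨a, s, hs, has⟩ := hfr (κ d) (hκV d)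
    have hs' : restr σ s ∉ q := by
      intro h
      exact hs (by rw [← hσ]; exact h)
    refine ⟨IsLocalization.mk' _ (restr σ a) (⟨restr σ s, hs'⟩ : q.primeCompl), ?_⟩
    change IsLocalization.lift hunitq _ = _
    rw [IsLocalization.lift_mk'_spec]
    change ((restr σ a : A₁) : L) = ((restr σ s : A₁) : L) * σ (κ d)
    rw [coe_restr, coe_restr, ← has, map_mul, mul_comm]
  choose φ hφ using hr
  refine ⟨{ toFun := φ, map_one' := ?_, map_mul' := ?_, map_zero' := ?_, map_add' := ?_, commutes' := ?_ }⟩
  · exact hjinj (by rw [hφ, map_one, map_one, map_one])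
  · exact fun x y => hjinj (by rw [hφ, map_mul, map_mul, map_mul, hφ, hφ])
  · exact hjinj (by rw [hφ, map_zero, map_zero, map_zero])
  · exact fun x y => hjinj (by rw [hφ, map_add, map_add, map_add, hφ, hφ])
  · intro a
    apply hjinj
    rw [hφ, IsScalarTower.algebraMap_apply A A₁ (Localization.AtPrime q), hj, hκA, σ.commutes]
    rfl

end Dom

section Sch

variable {A : Type u} [CommRing A] [IsDomain A] [IsDiscreteValuationRing A]

theorem reg_stalk (y : Spec (CommRingCat.of A)) : IsRegularLocalRing ((Spec (CommRingCat.of A)).presheaf.stalk y) ∧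
    ringKrullDim ((Spec (CommRingCat.of A)).presheaf.stalk y) ≤ 1 := by
  let e := (Spec.stalkIso (CommRingCat.of A) y).commRingCatIsoToRingEquiv
  have h1 : IsRegularLocalRing (Localization.AtPrime y.asIdeal) := (isRegularRing_iff.1 inferInstance) _
  have h2 : ringKrullDim A = 1 := IsDiscreteValuationRing.ringKrullDim_eq_one A
  refine ⟨IsRegularLocalRing.of_ringEquiv e.symm, ?_⟩
  rw [ringKrullDim_eq_of_ringEquiv e, ← h2]
  rw [IsLocalization.AtPrime.ringKrullDim_eq_height y.asIdeal (Localization.AtPrime y.asIdeal)]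
  exact Ideal.height_le_ringKrullDim_of_ne_top (Ideal.IsPrime.ne_top inferInstance)

/-- A quasi-finite domain through two primes. -/
theorem exists_dom {C : Type u} [CommRing C] [Algebra A C] [Algebra.FiniteType A C] (p₀ p : Ideal C) [p₀.IsPrime]
    [p.IsPrime] (hle : p₀ ≤ p) (h₀ : p₀.comap (algebraMap A C) = ⊥)
    (hp : p.comap (algebraMap A C) = IsLocalRing.maximalIdeal A) :
    ∃ (D : Type u) (_ : CommRing D) (_ : IsDomain D) (_ : Algebra A D) (_ : Algebra.QuasiFinite A D) (P : Ideal D)
      (_ : P.IsPrime), Function.Injective (algebraMap A D) ∧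
        P.comap (algebraMap A D) = IsLocalRing.maximalIdeal A ∧ Nonempty (C →ₐ[A] D) := by
  let C' := C ⧸ p₀
  have hC' : Function.Injective (algebraMap A C') := by
    rw [injective_iff_map_eq_zero]
    intro a ha
    have h1 : Ideal.Quotient.mk p₀ (algebraMap A C a) = 0 := ha
    rw [Ideal.Quotient.eq_zero_iff_mem] at h1
    have h2 : a ∈ p₀.comap (algebraMap A C) := h1
    rwa [h₀, Ideal.mem_bot] at h2
  -- a closed point of the special fibre
  have hpne : p.map (Ideal.Quotient.mk p₀) ≠ ⊤ := by
    intro h
    have h1 : (p.map (Ideal.Quotient.mk p₀)).comap (Ideal.Quotient.mk p₀) = ⊤ := by rw [h, Ideal.comap_top]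
    rw [Ideal.comap_map_of_surjective _ Ideal.Quotient.mk_surjective, ← RingHom.ker_eq_comap_bot, Ideal.mk_ker,
      sup_eq_left.2 hle] at h1
    exact Ideal.IsPrime.ne_top inferInstance h1
  obtain ⟨M, hM, hpM⟩ := Ideal.exists_le_maximal _ hpne
  have hMA : M.comap (algebraMap A C') = IsLocalRing.maximalIdeal A := by
    refine (IsLocalRing.isMaximal_iff A).1 ?_
    have h3 : IsLocalRing.maximalIdeal A ≤ M.comap (algebraMap A C') := by
      intro a ha
      rw [← hp] at ha
      exact hpM (Ideal.mem_map_of_mem _ ha)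
    have h4 : M.comap (algebraMap A C') ≠ ⊤ := Ideal.IsPrime.ne_top inferInstance
    rw [← (IsLocalRing.maximalIdeal.isMaximal A).eq_of_le h4 h3]
    infer_instance
  let f : Spec (CommRingCat.of C') ⟶ Spec (CommRingCat.of A) := Spec.map (CommRingCat.ofHom (algebraMap A C'))
  have hf : LocallyOfFiniteType f := by
    rw [HasRingHomProperty.Spec_iff (P := @LocallyOfFiniteType)]
    exact RingHom.finiteType_algebraMap.2 inferInstance
  let x : Spec (CommRingCat.of C') := ⟨M, inferInstance⟩
  let y : Spec (CommRingCat.of A) := ⟨IsLocalRing.maximalIdeal A, inferInstance⟩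
  have hxy : f.base x = y := PrimeSpectrum.ext hMA
  have hxc : IsClosed ({x} : Set (Spec (CommRingCat.of C'))) := (PrimeSpectrum.isClosed_singleton_iff_isMaximal x).2 hM
  have hirr : irreducibleComponents (Spec (CommRingCat.of C') : Type u) = {Set.univ} :=
    irreducibleComponents_eq_singleton
  obtain ⟨T, i, hi, hTi, hTr, ⟨t, ht⟩, -, hft, hqf, hqc, hdom⟩ :=
    (Groth.Agent.S4946.result reg_stalk f y).1 (by
      intro Z hZ _
      rw [hirr] at hZ
      obtain rfl : Z = Set.univ := hZ
      rw [Set.image_univ]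
      change DenseRange (PrimeSpectrum.comap (algebraMap A C'))
      rw [PrimeSpectrum.denseRange_comap_iff_ker_le_nilRadical, (RingHom.injective_iff_ker_eq_bot _).1 hC']
      exact bot_le) x hxy (by
      intro x' _ hx'
      have h5 := hx'.mem_closed hxc rfl
      exact h5) Set.univ (by rw [hirr]; rfl) trivial
  have hTint : IsIntegral T := isIntegral_of_irreducibleSpace_of_isReduced T
  obtain ⟨W, hW, htW, -⟩ := exists_isAffineOpen_mem_and_subset (U := (⊤ : T.Opens)) (x := t) trivial
  obtain ⟨t', ht'⟩ : ∃ t' : Spec Γ(T, W), hW.fromSpec t' = t := by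
    have h6 : t ∈ Set.range hW.fromSpec := by rw [hW.range_fromSpec]; exact htW
    exact h6
  let χ : CommRingCat.of C' ⟶ Γ(T, W) := Spec.preimage (hW.fromSpec ≫ i)
  have hχ : Spec.map χ = hW.fromSpec ≫ i := Spec.map_preimage _
  have hWne : Nonempty W := ⟨⟨t, htW⟩⟩
  have hDom : IsDomain Γ(T, W) := inferInstance
  let φ : CommRingCat.of A ⟶ Γ(T, W) := CommRingCat.ofHom (algebraMap A C') ≫ χ
  have hφ : Spec.map φ = hW.fromSpec ≫ i ≫ f := by
    rw [Spec.map_comp, hχ, Category.assoc]
  have hfd : IsDominant hW.fromSpec := by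
    refine ⟨?_⟩
    rw [DenseRange, hW.range_fromSpec]
    exact W.2.dense ⟨t, htW⟩
  have hφd : IsDominant (Spec.map φ) := by
    rw [hφ]
    infer_instance
  have hφq : φ.hom.QuasiFinite := by
    rw [← HasRingHomProperty.Spec_iff (P := @LocallyQuasiFinite), hφ]
    infer_instance
  have hφi : Function.Injective φ.hom := by
    have h7 : DenseRange (PrimeSpectrum.comap φ.hom) := hφd.denseRange
    rw [PrimeSpectrum.denseRange_comap_iff_ker_le_nilRadical] at h7
    rw [RingHom.injective_iff_ker_eq_bot, eq_bot_iff]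
    intro a ha
    have h8 := h7 ha
    rwa [nilradical_eq_zero] at h8
  let _ : Algebra A Γ(T, W) := φ.hom.toAlgebra
  refine ⟨Γ(T, W), inferInstance, hDom, inferInstance, hφq, t'.asIdeal, inferInstance, hφi, ?_,
    ⟨{ toRingHom := χ.hom.comp (Ideal.Quotient.mk p₀), commutes' := fun a => rfl }⟩⟩
  have h8 : Spec.map φ t' = y := by
    rw [hφ]
    change f (i (hW.fromSpec t')) = y
    rw [ht']
    exact (congrArg f.base ht).trans hxy
  exact congrArg PrimeSpectrum.asIdeal h8

/-- **Quasi-sections over a discrete valuation ring.** -/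
theorem exists_quasiSection {B : Type u} [CommRing B] [Algebra A B] [Module.Flat A B]
    (hB : Function.Surjective (PrimeSpectrum.comap (algebraMap A B))) {C : Type u} [CommRing C] [Algebra A C]
    [Algebra.FiniteType A C] (φ : C →ₐ[A] B) :
    ∃ (K₁ : Type u) (_ : Field K₁) (_ : Algebra A K₁) (_ : Algebra (FractionRing A) K₁)
      (_ : IsScalarTower A (FractionRing A) K₁) (_ : FiniteDimensional (FractionRing A) K₁),
      ∀ (q : Ideal (integralClosure A K₁)) [q.IsMaximal], Nonempty (C →ₐ[A] Localization.AtPrime q) := by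
  obtain ⟨⟨m, hm⟩, hmA⟩ := hB ⟨IsLocalRing.maximalIdeal A, inferInstance⟩
  have hmA' : m.comap (algebraMap A B) = IsLocalRing.maximalIdeal A := congrArg PrimeSpectrum.asIdeal hmA
  have : m.LiesOver (IsLocalRing.maximalIdeal A) := ⟨hmA'.symm⟩
  obtain ⟨P, hPm, hP, hP0⟩ := Ideal.exists_ideal_le_liesOver_of_le (p := (⊥ : Ideal A)) (q := IsLocalRing.maximalIdeal A)
    m bot_le
  have hP0' : P.comap (algebraMap A B) = ⊥ := hP0.over.symm
  have hc : ∀ I : Ideal B, (I.comap φ.toRingHom).comap (algebraMap A C) = I.comap (algebraMap A B) := fun I => by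
    rw [Ideal.comap_comap]
    congr 1
    exact φ.comp_algebraMap
  obtain ⟨D, _, _, _, _, Q, _, h1, h2, ⟨ψ⟩⟩ := exists_dom (A := A) (P.comap φ.toRingHom) (m.comap φ.toRingHom)
    (Ideal.comap_mono hPm) (by rw [hc, hP0']) (by rw [hc, hmA'])
  obtain ⟨K₁, i1, i2, i3, i4, i5, h⟩ := exists_algHom h1 Q h2
  refine ⟨K₁, i1, i2, i3, i4, i5, fun q _ => ?_⟩
  obtain ⟨θ⟩ := h q
  exact ⟨θ.comp ψ⟩

end Sch

end K634.QSec
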