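import Groth.Agent.AlgSp.K651.FpqcSh
import Groth.Agent.AlgSp.K606.RepWithBasic

/-!
# Relative Zariski gluing

`exists_rep_zar` : for `f : G ⟶ h_Z` and `τ : M ⟶ Z`, if `G ×_Z U` is a scheme for the members `U` of an open
covering of `M`, then `G ×_Z M` is a scheme.
-/

set_option autoImplicit false
set_option backward.isDefEq.respectTransparency false
universe u
open CategoryTheory CategoryTheory.Limits AlgebraicGeometry Opposite
open AlgSp K628.Fqc K651.FpqcSh K613.Basic K610.Base K610.ZarGlue

namespace K634.ZarRel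

variable {S : Scheme.{u}}

/-- Relative Zariski gluing. -/
theorem exists_rep_zar {G : Sp S} {Z M : Over S} {f : G ⟶ (yon S).obj Z} (τ : M ⟶ Z) (Q : MorphismProperty Scheme.{u})
    [IsZariskiLocalAtTarget Q]
    (H : ∀ m : M.left, ∃ (U : Over S) (j : U ⟶ M) (Y : Over S) (y : (yon S).obj Y ⟶ G) (r : Y ⟶ U),
      IsOpenImmersion j.left ∧ m ∈ Set.range j.left ∧
        IsPullback y ((yon S).map r) f ((yon S).map (j ≫ τ)) ∧ Q r.left) :
    ∃ (Y : Over S) (y : (yon S).obj Y ⟶ G) (r : Y ⟶ M), IsPullback y ((yon S).map r) f ((yon S).map τ) ∧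
      Q r.left := by
  choose U j Y y r hj hm sq hQ using H
  have sqP : IsPullback (pullback.fst f ((yon S).map τ)) (pullback.snd f ((yon S).map τ)) f ((yon S).map τ) :=
    IsPullback.of_hasPullback _ _
  have hw : ∀ m, y m ≫ f = (yon S).map (r m ≫ j m) ≫ (yon S).map τ := fun m => by
    rw [(sq m).w, ← Functor.map_comp, ← Functor.map_comp, Category.assoc]
  have sqm : ∀ m, IsPullback (sqP.lift _ _ (hw m)) ((yon S).map (r m)) (pullback.snd f ((yon S).map τ))
      ((yon S).map (j m)) := fun m => by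
    refine IsPullback.of_right ?_ (by rw [sqP.lift_snd, Functor.map_comp]) sqP
    rw [sqP.lift_fst, ← Functor.map_comp]
    exact sq m
  have hrep : ∀ m, RepWith @IsOpenImmersion (sqP.lift _ _ (hw m)) := fun m =>
    K606.RepWithBasic.of_isPullback (sqm m).flip ((repWith_yon_map_iff _ _).2 (hj m))
  obtain ⟨H, e, j', hj', hje, -⟩ := exists_iso_of_openCover (F := pullback f ((yon S).map τ)) Y _ hrep (by
    intro ξ
    obtain ⟨R, g, t, rfl⟩ := exists_ofPt_eq ξ
    obtain ⟨d, hd⟩ := (yon S).map_surjective (g ≫ pullback.snd f ((yon S).map τ))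
    let m := d.left t
    obtain ⟨u, hu⟩ := hm m
    obtain ⟨t', ht1, -⟩ := Scheme.exists_preimage_of_isPullback
      ((IsPullback.of_hasPullback d (j m)).map (Over.forget S)) t u hu.symm
    have hw' : ((yon S).map (pullback.fst d (j m)) ≫ g) ≫ pullback.snd f ((yon S).map τ) =
        (yon S).map (pullback.snd d (j m)) ≫ (yon S).map (j m) := by
      rw [Category.assoc, ← hd, ← Functor.map_comp, ← Functor.map_comp, pullback.condition]
    refine ⟨m, Points.ofPt ((sqm m).lift _ _ hw') t', ?_⟩
    rw [← ofPt_comp, (sqm m).lift_fst, ofPt_map_comp]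
    congr 1)
  obtain ⟨r', hr'⟩ := (yon S).map_surjective (e.hom ≫ pullback.snd f ((yon S).map τ))
  have sqH : IsPullback (e.hom ≫ pullback.fst f ((yon S).map τ)) ((yon S).map r') f ((yon S).map τ) :=
    IsPullback.of_iso sqP e.symm (Iso.refl _) (Iso.refl _) (Iso.refl _) (by simp) (by simp [hr']) (by simp) (by simp)
  refine ⟨H, _, r', sqH, ?_⟩
  let 𝒰 : M.left.OpenCover := Scheme.Cover.mkOfCovers M.left (fun m => (U m).left) (fun m => (j m).left)
    (fun m => ⟨m, hm m⟩) hj
  refine IsZariskiLocalAtTarget.of_openCover (P := Q) 𝒰 fun m => ?_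
  have sq1 : IsPullback (j' m) (r m) r' (j m) := by
    have h1 : IsPullback ((yon S).map (j' m)) ((yon S).map (r m)) ((yon S).map r') ((yon S).map (j m)) := by
      rw [hr']
      refine IsPullback.of_iso (sqm m) (Iso.refl _) e.symm (Iso.refl _) (Iso.refl _) ?_ (by simp) (by simp) (by simp)
      rw [← hje m]
      simp
    exact IsPullback.of_map (yon S) ((yon S).map_injective (by
      rw [Functor.map_comp, Functor.map_comp]; exact h1.w)) h1
  have sq2 := sq1.map (Over.forget S)
  have e1 : pullback.snd r'.left (j m).left = (sq2.isoPullback).inv ≫ (r m).left :=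
    (sq2.isoPullback_inv_snd).symm
  change Q (pullback.snd r'.left (j m).left)
  rw [e1]
  exact (MorphismProperty.cancel_left_of_respectsIso Q _ _).2 (hQ m)

end K634.ZarRel
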