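import Groth.Agent.AlgSp.K634.FpqcAff
import Groth.Agent.AlgSp.K634.QSec
import Groth.Agent.AlgSp.K634.LocLim
import Groth.Agent.AlgSp.K634.ZarRel

/-!
# Representability over a finite extension of a discrete valuation ring

An fpqc sheaf over a DVR which becomes a scheme of finite presentation after a faithfully flat quasi-compact base
change is a scheme over the normalization in a finite extension of the fraction field.
-/

set_option autoImplicit false
set_option backward.isDefEq.respectTransparency false
universe u
open CategoryTheory CategoryTheory.Limits AlgebraicGeometry Opposite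
open AlgSp K628.Fqc K651.FpqcSh K613.Basic K625.Prod K634.FpqcAff

namespace K634.DvrRep

variable {A : Type u} [CommRing A] [IsDomain A] [IsDiscreteValuationRing A]

theorem exists_rep {G : Sp (Spec (CommRingCat.of A))} (hG : IsFpqcSh G) {T X' : Over (Spec (CommRingCat.of A))}
    [Flat T.hom] [Surjective T.hom] [QuasiCompact T.hom] {q : X' ⟶ T} {p : (yon _).obj X' ⟶ G}
    [LocallyOfFinitePresentation q.left] [QuasiCompact q.left] [QuasiSeparated q.left]
    (sq : IsPullback p ((yon _).map q) ((isTerminalBase _).from G) ((yon _).map (toBase T))) :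
    ∃ (K₁ : Type u) (_ : Field K₁) (_ : Algebra A K₁) (_ : Algebra (FractionRing A) K₁)
      (_ : IsScalarTower A (FractionRing A) K₁) (_ : FiniteDimensional (FractionRing A) K₁)
      (X₁ : Over (Spec (CommRingCat.of A))) (x : (yon _).obj X₁ ⟶ G) (q₁ : X₁ ⟶ spec A (integralClosure A K₁)),
      IsPullback x ((yon _).map q₁) ((isTerminalBase _).from G) ((yon _).map (toBase (spec A (integralClosure A K₁)))) ∧
        LocallyOfFiniteType q₁.left ∧ QuasiCompact q₁.left := by
  obtain ⟨B, _, _, t, hflat, hsurj, hc₀, haff, sq₀⟩ := exists_square sq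
  have hl := (IsPullback.of_hasPullback q t).map (Over.forget _)
  have g1 : LocallyOfFinitePresentation (pullback.snd q t).left :=
    MorphismProperty.of_isPullback (P := @LocallyOfFinitePresentation) hl ‹LocallyOfFinitePresentation q.left›
  have g2 : QuasiCompact (pullback.snd q t).left :=
    MorphismProperty.of_isPullback (P := @QuasiCompact) hl ‹QuasiCompact q.left›
  have g3 : QuasiSeparated (pullback.snd q t).left :=
    MorphismProperty.of_isPullback (P := @QuasiSeparated) hl ‹QuasiSeparated q.left›
  -- a model of finite presentation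
  obtain ⟨hlim⟩ := K344.FpLimit.nonempty_isLimit A B
  have hidx : Nonempty (K143.FpColim.Idx A B) := inferInstance
  let i₀ : (K143.FpColim.Idx A B)ᵒᵖ := op hidx.some
  obtain ⟨j, φ, Y, y, r, sqY, k1, k2, k3⟩ := K634.FpqcLim.exists_rep (K344.FpLimit.diag A B) (K344.FpLimit.cone A B)
    hG hc₀ haff sq₀ hlim (fun i => inferInstanceAs (IsAffine (Spec _))) i₀ (toBase _)
    (p := (yon _).map (pullback.fst q t) ≫ p) (q := pullback.snd q t) (by
      have e : (K344.FpLimit.cone A B).π.app i₀ ≫ toBase _ = toBase (spec A B) := toBase_ext _ _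
      rw [e]
      exact sq₀)
  let C := j.unop.Alg
  have sqC : IsPullback y ((yon _).map r) ((isTerminalBase _).from G) ((yon _).map (toBase (spec A C))) := by
    have e : (K344.FpLimit.diag A B).map φ ≫ toBase _ = toBase (spec A C) := toBase_ext _ _
    rw [← e]
    exact sqY
  -- the quasi-section
  obtain ⟨K₁, i1, i2, i3, i4, i5, hK⟩ := K634.QSec.exists_quasiSection hsurj j.unop.σ
  refine ⟨K₁, i1, i2, i3, i4, i5, ?_⟩
  let A₁ := integralClosure A K₁
  let z : Spec (CommRingCat.of A₁) ⟶ Spec (CommRingCat.of A) := Spec.map (CommRingCat.ofHom (algebraMap A A₁))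
  -- representability near a closed point
  have key : ∀ (m : Ideal A₁) [m.IsMaximal], ∃ (a : A₁) (_ : a ∉ m) (Y : Over (Spec (CommRingCat.of A)))
      (y : (yon _).obj Y ⟶ G)
      (r : Y ⟶ Over.mk (Spec.map (CommRingCat.ofHom (algebraMap A₁ (Localization.Away a))) ≫ z)),
      IsPullback y ((yon _).map r) ((isTerminalBase _).from G) ((yon _).map (toBase _)) ∧
        LocallyOfFinitePresentation r.left ∧ QuasiCompact r.left := by
    intro m _
    obtain ⟨θ⟩ := hK m
    obtain ⟨hlim'⟩ := K634.LocLim.nonempty_isLimit A₁ m.primeCompl z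
    let P : Over (Spec (CommRingCat.of A)) := (K634.LocLim.cone A₁ m.primeCompl z).pt
    let θ' : P ⟶ spec A C := Over.homMk (Spec.map (CommRingCat.ofHom θ.toRingHom)) (by
      change Spec.map _ ≫ Spec.map _ = Spec.map _ ≫ Spec.map _
      rw [← Spec.map_comp, ← Spec.map_comp]
      congr 1
      ext1
      exact θ.comp_algebraMap)
    have hl' := (IsPullback.of_hasPullback r θ').map (Over.forget _)
    have m1 : LocallyOfFinitePresentation (pullback.snd r θ').left :=
      MorphismProperty.of_isPullback (P := @LocallyOfFinitePresentation) hl' k1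
    have m2 : QuasiCompact (pullback.snd r θ').left :=
      MorphismProperty.of_isPullback (P := @QuasiCompact) hl' k2
    have m3 : QuasiSeparated (pullback.snd r θ').left :=
      MorphismProperty.of_isPullback (P := @QuasiSeparated) hl' k3
    let i₁ : (K634.LocLim.Idx A₁ m.primeCompl)ᵒᵖ := op ⟨1⟩
    obtain ⟨j', φ', Y', y', r', sqY', n1, n2, -⟩ := K634.FpqcLim.exists_rep (K634.LocLim.diag A₁ m.primeCompl z)
      (K634.LocLim.cone A₁ m.primeCompl z) hG hc₀ haff sq₀ hlim' (K634.LocLim.isAffine A₁ m.primeCompl z) i₁ (toBase _)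
      (p := (yon _).map (pullback.fst r θ') ≫ y) (q := pullback.snd r θ') (by
        have e : (K634.LocLim.cone A₁ m.primeCompl z).π.app i₁ ≫ toBase _ = θ' ≫ toBase (spec A C) := toBase_ext _ _
        rw [e, Functor.map_comp]
        exact (((IsPullback.of_hasPullback r θ').map (yon _)).flip.paste_vert sqC.flip).flip)
    refine ⟨j'.unop.val, j'.unop.val.2, Y', y', r', ?_, n1, n2⟩
    have e : (K634.LocLim.diag A₁ m.primeCompl z).map φ' ≫ toBase _ = toBase _ := toBase_ext _ _
    rw [e] at sqY'
    exact sqY'
  -- gluing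
  obtain ⟨X₁, x, q₁, h1, h2⟩ := K634.ZarRel.exists_rep_zar (G := G) (f := (isTerminalBase _).from G)
    (toBase (spec A A₁)) ((@LocallyOfFinitePresentation : MorphismProperty Scheme.{u}) ⊓ (@QuasiCompact : MorphismProperty Scheme.{u}))
    (fun a => by
      obtain ⟨m, hm, ham⟩ := Ideal.exists_le_maximal a.asIdeal (Ideal.IsPrime.ne_top inferInstance)
      obtain ⟨b, hb, Y, y, r, h1, h2, h3⟩ := key m
      refine ⟨_, Over.homMk (Spec.map (CommRingCat.ofHom (algebraMap A₁ (Localization.Away b)))) rfl, Y, y, r, ?_, ?_,
        ?_, ⟨h2, h3⟩⟩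
      · exact inferInstanceAs (IsOpenImmersion (Spec.map (CommRingCat.ofHom (algebraMap A₁ (Localization.Away b)))))
      · have h4 := PrimeSpectrum.localization_away_comap_range (Localization.Away b) b
        change a ∈ Set.range (PrimeSpectrum.comap (algebraMap A₁ (Localization.Away b)))
        rw [h4]
        exact fun hb' => hb (ham hb')
      · have e : ∀ (W : Over (Spec (CommRingCat.of A))) (w : W ⟶ spec A A₁), w ≫ toBase (spec A A₁) = toBase W :=
          fun _ _ => toBase_ext _ _
        rw [e]
        exact h1)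
  have h3 : LocallyOfFinitePresentation q₁.left := h2.1
  exact ⟨X₁, x, q₁, h1, inferInstance, h2.2⟩

end K634.DvrRep
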