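import Groth.Agent.AlgSp.K594.Atlas
import Groth.Agent.AlgSp.K598.Red
import Groth.Agent.AlgSp.K609.Points
import Groth.Agent.AlgSp.K610.Factor
import Groth.Agent.AlgSp.K610.Sub
import Groth.Agent.AlgSp.K613.Chart
import Groth.Agent.AlgSp.K610.OpenImm
import Groth.Agent.AlgSp.K621.Charts
import Groth.Agent.AlgSp.K635.Glue
import Groth.Agent.AlgSp.K640.FpqcRef

/-!
# Elementary distinguished squares enlarging a given open subspace
-/

set_option autoImplicit false

universe u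

open CategoryTheory CategoryTheory.Limits AlgebraicGeometry Opposite

namespace K634.ElemDense

open AlgSp K635.Glue

variable {S : Scheme.{u}}

/-- The projection to the reduced complement is an isomorphism. -/
theorem isIso_fst {X W Xp T T' P U : Sp S} {jW : W ⟶ X}
    {jp : Xp ⟶ X} (hjp : RepWith @IsOpenImmersion jp) {D : Set (Points Xp)} {i : T ⟶ Xp} (hi : IsRedInduced D i)
    {V : Over S} {f : (yon S).obj V ⟶ Xp}
    (hiso : ∀ (Q : Sp S) (fst : Q ⟶ T) (snd : Q ⟶ (yon S).obj V), IsPullback fst snd i f → IsIso fst)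
    {jU : U ⟶ W} {i' : T' ⟶ W} (hi' : IsRedInduced (Set.range (Points.map jU))ᶜ i') {V' V₁ : Over S} {a : V' ⟶ V}
    (ha : Mono a)
    {Vs : Over S} (ι₀ : V' ⟶ Vs) (ι₁ : V₁ ⟶ Vs) (hι₀ : IsOpenImmersion ι₀.left)
    (hcov : ∀ v : Vs.left, v ∈ Set.range ι₀.left ∨ v ∈ Set.range ι₁.left)
    {φ : (yon S).obj Vs ⟶ W} (hφ : RepWith @Etale φ) (h0 : (yon S).map ι₀ ≫ φ ≫ jW = (yon S).map a ≫ f ≫ jp)
    (h1 : ∀ v : V₁.left, Points.ofPt ((yon S).map ι₁ ≫ φ) v ∈ Set.range (Points.map jU))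
    (hD : ∀ (w : Points W) (x : Points Xp), w ∉ Set.range (Points.map jU) → Points.map jW w = Points.map jp x → x ∈ D)
    (hcovW : ∀ w : Points W, w ∉ Set.range (Points.map jU) → w ∈ Set.range (Points.ofPt φ))
    {p₁ : P ⟶ T'} {p₂ : P ⟶ (yon S).obj Vs} (sq : IsPullback p₁ p₂ i' φ) : IsIso p₁ := by
  have hmi := K610.Factor.mono_of_isClosedImmersion hi.1
  have hmjp := K610.Factor.mono_of_isOpenImmersion hjp
  have hmi' := K610.Factor.mono_of_isClosedImmersion hi'.1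
  -- points of the closed subspace come from `V'`
  have hrangeT : ∀ t : Points T', Points.map i' t ∉ Set.range (Points.map jU) := fun t ↦ by
    have : Points.map i' t ∈ Set.range (Points.map i') := ⟨t, rfl⟩
    rwa [hi'.2.1] at this
  -- a map from a scheme to the fibre product goes to `V'`
  have hfac : ∀ (R : Over S) (t : (yon S).obj R ⟶ T') (b : R ⟶ Vs), (yon S).map b ≫ φ = t ≫ i' →
      ∃ b₀ : R ⟶ V', b₀ ≫ ι₀ = b := by
    intro R t b hb
    have hr : Set.range b.left ⊆ Set.range ι₀.left := by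
      rintro _ ⟨r, rfl⟩
      rcases hcov (b.left r) with h | ⟨v, hv⟩
      · exact h
      · exfalso
        have e1 : Points.ofPt ((yon S).map b ≫ φ) r = Points.ofPt ((yon S).map ι₁ ≫ φ) v := by
          rw [K609.Points.ofPt_yon_map_comp, K609.Points.ofPt_yon_map_comp, hv]
        have e2 := h1 v
        rw [← e1, hb] at e2
        exact hrangeT (Points.ofPt t r) e2
    refine ⟨Over.homMk (IsOpenImmersion.lift ι₀.left b.left hr) ?_, ?_⟩
    · rw [← Over.w ι₀, IsOpenImmersion.lift_fac_assoc, Over.w]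
    · ext1
      exact IsOpenImmersion.lift_fac _ _ _
  -- the closed subspace maps to `T`
  have hT : ∃ τ : T' ⟶ T, τ ≫ i ≫ jp = i' ≫ jW := by
    have hpt : ∀ t : Points T', ∃ x : Points Xp, Points.map jp x = Points.map (i' ≫ jW) t := by
      intro t
      obtain ⟨v, hv⟩ := hcovW _ (hrangeT t)
      rcases hcov v with ⟨v₀, hv₀⟩ | ⟨v₁, hv₁⟩
      · refine ⟨Points.ofPt ((yon S).map a ≫ f) v₀, ?_⟩
        rw [Points.map_comp i' jW, ← hv, ← hv₀, ← K609.Points.ofPt_yon_map_comp, Points.map_ofPt, Points.map_ofPt,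
          Category.assoc, Category.assoc, h0]
      · exfalso
        have e2 := h1 v₁
        rw [K609.Points.ofPt_yon_map_comp, hv₁, hv] at e2
        exact hrangeT t e2
    obtain ⟨e, he⟩ := (K610.Factor.factors_open_iff hjp (i' ≫ jW)).2 (by
      rintro _ ⟨t, rfl⟩
      obtain ⟨x, hx⟩ := hpt t
      exact ⟨x, hx⟩)
    obtain ⟨τ, hτ⟩ := (K610.Factor.factors_closed_iff hi.1 hi'.2.2 e).2 (by
      rw [hi.2.1]
      rintro _ ⟨t, rfl⟩
      refine hD (Points.map i' t) _ (hrangeT t) ?_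
      rw [← Points.map_comp, ← Points.map_comp, he])
    exact ⟨τ, by rw [← Category.assoc, hτ, he]⟩
  obtain ⟨τ, hτ⟩ := hT
  -- the fibre product over `T`
  obtain ⟨Q, q₁, q₂, sqQ⟩ : ∃ (Q : Sp S) (q₁ : Q ⟶ T) (q₂ : Q ⟶ (yon S).obj V), IsPullback q₁ q₂ i f :=
    ⟨_, _, _, IsPullback.of_hasPullback _ _⟩
  have hq₁ : IsIso q₁ := hiso Q q₁ q₂ sqQ
  -- uniqueness
  have huniq : ∀ (R : Over S) (t : (yon S).obj R ⟶ T') (b : R ⟶ V'), (yon S).map (b ≫ ι₀) ≫ φ = t ≫ i' →
      (yon S).map (b ≫ a) = t ≫ τ ≫ inv q₁ ≫ q₂ := by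
    intro R t b hb
    have e1 : (t ≫ τ) ≫ i = (yon S).map (b ≫ a) ≫ f := by
      rw [← cancel_mono jp, Category.assoc, Category.assoc, hτ, Functor.map_comp, Category.assoc, Category.assoc,
        ← h0, ← Category.assoc, ← hb]
      simp only [Functor.map_comp, Category.assoc]
    have e2 : sqQ.lift (t ≫ τ) _ e1 = t ≫ τ ≫ inv q₁ := by
      rw [← cancel_mono q₁, sqQ.lift_fst, Category.assoc, Category.assoc, IsIso.inv_hom_id, Category.comp_id]
    rw [← sqQ.lift_snd (t ≫ τ) _ e1, e2, Category.assoc, Category.assoc]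
  have hmono : Mono p₁ := by
    refine K610.Base.mono_of_yon fun R x y hxy ↦ ?_
    refine sq.hom_ext hxy ?_
    obtain ⟨b, hb⟩ := (yon S).map_surjective (x ≫ p₂)
    obtain ⟨c, hc⟩ := (yon S).map_surjective (y ≫ p₂)
    have hb' : (yon S).map b ≫ φ = (x ≫ p₁) ≫ i' := by rw [hb, Category.assoc, Category.assoc, sq.w]
    have hc' : (yon S).map c ≫ φ = (x ≫ p₁) ≫ i' := by rw [hc, hxy, Category.assoc, Category.assoc, sq.w]
    obtain ⟨b₀, rfl⟩ := hfac R _ b hb'
    obtain ⟨c₀, rfl⟩ := hfac R _ c hc'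
    have e1 := huniq R _ b₀ hb'
    have e2 := huniq R _ c₀ hc'
    have e3 : b₀ = c₀ := by
      rw [← cancel_mono a]
      exact (yon S).map_injective (e1.trans e2.symm)
    rw [← hb, ← hc, e3]
  have hpe : RepWith @Etale p₁ := MorphismProperty.of_isPullback sq.flip hφ
  have hps : RepWith @Surjective p₁ := by
    rw [K609.Points.repWith_surjective_iff hpe.1]
    intro t
    obtain ⟨v, hv⟩ := hcovW _ (hrangeT t)
    obtain ⟨z, hz, -⟩ := K609.Points.exists_of_isPullback sq t (Points.ofScheme Vs v) (by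
      rw [← hv, Points.ofPt_eq_map_ofScheme])
    exact ⟨z, hz⟩
  have hepi : Epi p₁ := K610.Site.epi_of_etale hpe hps
  exact isIso_of_mono_of_epi p₁

theorem range_ofPt {X : Sp S} {H : Over S} (f : (yon S).obj H ⟶ X) :
    Set.range (Points.ofPt f) = Set.range (Points.map f) := by
  ext x
  constructor
  · rintro ⟨t, rfl⟩
    exact ⟨Points.ofScheme H t, (Points.ofPt_eq_map_ofScheme f t).symm⟩
  · rintro ⟨y, rfl⟩
    obtain ⟨t, rfl⟩ := K609.Points.ofScheme_surjective H y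
    exact ⟨t, Points.ofPt_eq_map_ofScheme f t⟩

/-- The range on points of an etale map from a scheme is open. -/
theorem isOpen_range {X : Sp S} {V : Over S} {f : (yon S).obj V ⟶ X} (hf : RepWith @Etale f) :
    IsOpen (Set.range (Points.ofPt f)) := (K609.Points.isOpenMap_ofPt hf).isOpen_range

theorem exists_sq [QuasiSeparatedSpace S] {X U : AlgSp.Space S}
    (H : ∃ (n : ℕ) (Uo : ℕ → AlgSp.Space S) (j : ∀ p, Uo p ⟶ X) (k : ∀ p, Uo (p + 1) ⟶ Uo p)
      (T : ℕ → AlgSp.Space S) (i : ∀ p, T p ⟶ Uo p),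
      (∀ p, AlgSp.RepWith @IsOpenImmersion (j p).hom) ∧ (∀ p, k p ≫ j p = j (p + 1)) ∧ IsIso (j 1) ∧
      IsEmpty (AlgSp.Points (Uo (n + 1)).obj) ∧
      (∀ p, AlgSp.IsRedInduced (Set.range (AlgSp.Points.map (k p).hom))ᶜ (i p).hom) ∧
      (∀ p, 1 ≤ p → ∃ (V : Over S) (f : (AlgSp.yon S).obj V ⟶ (Uo p).obj), V.left.IsSeparated ∧ CompactSpace ↥V.left ∧
        AlgSp.RepWith @Etale f ∧ AlgSp.RepWith @Surjective f ∧
        ∀ (P : AlgSp.Sp S) (fst : P ⟶ (T p).obj) (snd : P ⟶ (AlgSp.yon S).obj V),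
          IsPullback fst snd (i p).hom f → IsIso fst))
    (hqc : AlgSp.IsQuasiCompactSp X.obj) (hN : AlgSp.IsLocNoethSp X.obj)
    (j : U ⟶ X) (hj : AlgSp.RepWith @IsOpenImmersion j.hom)
    (hne : Set.range (AlgSp.Points.map j.hom) ≠ Set.univ) :
    ∃ (V : Over S) (_ : IsAffine V.left) (W : AlgSp.Space S) (jW : W ⟶ X) (jU : U ⟶ W) (φ : (AlgSp.ofScheme S).obj V ⟶ W)
      (P : AlgSp.Space S) (p : P ⟶ U) (q : P ⟶ (AlgSp.ofScheme S).obj V),
      AlgSp.RepWith @Etale (φ ≫ jW).hom ∧ AlgSp.RepWith @IsOpenImmersion jW.hom ∧ jU ≫ jW = j ∧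
        Set.range (AlgSp.Points.map jW.hom) =
          Set.range (AlgSp.Points.map j.hom) ∪ Set.range (AlgSp.Points.map (φ ≫ jW).hom) ∧
        Set.range (AlgSp.Points.map jW.hom) ≠ Set.range (AlgSp.Points.map j.hom) ∧
        AlgSp.IsElemDistSq jU.hom φ.hom ∧ IsPullback p.hom q.hom jU.hom φ.hom ∧ AlgSp.IsDominantMor p.hom := by
  obtain ⟨n, Uo, jj, k, T, i, hjj, hkj, h1, hem, hred, hV⟩ := H
  let N : ℕ → Prop := fun p ↦ ∃ x, x ∉ Set.range (Points.map j.hom) ∧ x ∈ Set.range (Points.map (jj p).hom)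
  have hN1 : N 1 := by
    obtain ⟨x, hx⟩ := (Set.ne_univ_iff_exists_notMem _).1 hne
    refine ⟨x, hx, Points.map (inv (jj 1)).hom x, ?_⟩
    rw [← Points.map_comp]
    have : (inv (jj 1)).hom ≫ (jj 1).hom = 𝟙 _ := congrArg (·.hom) (IsIso.inv_hom_id (jj 1))
    rw [this, Points.map_id]
  have hNn : ¬ N (n + 1) := by
    rintro ⟨x, -, y, -⟩
    exact hem.elim y
  classical
  obtain ⟨p, hp1, ⟨x, hxC, x', hx'⟩, hNp'⟩ : ∃ p, 1 ≤ p ∧ N p ∧ ¬ N (p + 1) := by
    have hex : ∃ m, ¬ N (m + 1) := ⟨n, hNn⟩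
    have h2 := Nat.find_spec hex
    have h3 : Nat.find hex ≠ 0 := fun h ↦ h2 (by rw [h]; exact hN1)
    obtain ⟨m, hm⟩ := Nat.exists_eq_succ_of_ne_zero h3
    refine ⟨Nat.find hex, Nat.one_le_iff_ne_zero.2 h3, ?_, h2⟩
    have := Nat.find_min hex (m := m) (by rw [hm]; exact Nat.lt_succ_self m)
    rw [hm]
    exact not_not.1 this
  obtain ⟨V, f, -, -, hfe, hfs, hiso⟩ := hV p hp1
  obtain ⟨v, hv⟩ := K609.Points.surjective_ofPt_of_repWith_surjective hfs x'
  obtain ⟨A, hA, hvA, -⟩ := K635.Glue.exists_affine_nhd v ⊤ trivial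
  -- the affine cover of `U`
  obtain ⟨X0, p0, hp0e, hp0s, hX0c⟩ := hqc
  have hX0N : IsLocallyNoetherian X0.left := K621.Charts.isLocallyNoetherian_chart hN hp0e
  have hX0c : CompactSpace X0.left := hX0c
  have hX0n : IsNoetherian X0.left := {}
  have hjo : IsOpen (Set.range (Points.map j.hom)) :=
    (K609.Points.isOpenMap_map (K609.Points.repWith_universallyOpen_of_etale
      (K610.OpenImm.repWith_etale_of_open hj))).isOpen_range
  let O : X0.left.Opens := ⟨Points.ofPt p0 ⁻¹' Set.range (Points.map j.hom), hjo.preimage (Points.continuous_ofPt p0)⟩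
  obtain ⟨W1, c, hW1, hce, hcr⟩ := K640.FpqcRef.exists_affine_cover_open O
    (TopologicalSpace.NoetherianSpace.isCompact _)
  let V' : Over S := Over.mk (A.ι ≫ V.hom)
  let a : V' ⟶ V := Over.homMk A.ι rfl
  have hao : IsOpenImmersion a.left := inferInstanceAs (IsOpenImmersion A.ι)
  have hV'A : IsAffine V'.left := hA
  let fam : ULift.{u} Bool → Over S := fun b ↦ cond b.down V' W1
  have hfamA : ∀ b, IsAffine (fam b).left := by
    rintro ⟨_ | _⟩
    · exact hW1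
    · exact hV'A
  let q : ∀ b, (yon S).obj (fam b) ⟶ X.obj := fun b ↦ match b with
    | ⟨true⟩ => (yon S).map a ≫ f ≫ (jj p).hom
    | ⟨false⟩ => (yon S).map c ≫ p0
  obtain ⟨ψ, hψ⟩ := K594.Atlas.exists_sigma_map q
  let Vs : Over S := K594.Cover.sig fam
  let ι₀ : V' ⟶ Vs := K594.Cover.sigι fam ⟨true⟩
  let ι₁ : W1 ⟶ Vs := K594.Cover.sigι fam ⟨false⟩
  have hι₀ : IsOpenImmersion ι₀.left := inferInstanceAs (IsOpenImmersion (Sigma.ι (fun i => (fam i).left) ⟨true⟩))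
  have hcov : ∀ v : Vs.left, v ∈ Set.range ι₀.left ∨ v ∈ Set.range ι₁.left := fun v ↦ by
    obtain ⟨⟨_ | _⟩, w, hw⟩ := K594.Cover.sig_surj fam v
    · exact Or.inr ⟨w, hw⟩
    · exact Or.inl ⟨w, hw⟩
  have hψ0 : (yon S).map ι₀ ≫ ψ = (yon S).map a ≫ f ≫ (jj p).hom := hψ ⟨true⟩
  have hψ1 : (yon S).map ι₁ ≫ ψ = (yon S).map c ≫ p0 := hψ ⟨false⟩
  have hVsA : IsAffine Vs.left := inferInstanceAs (IsAffine (∐ fun b ↦ (fam b).left))
  have hψe : RepWith @Etale ψ := by
    have : IsZariskiLocalAtSource @Etale.{u} :=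
      HasRingHomProperty.instIsZariskiLocalAtSource (Q := RingHom.Etale)
    refine K594.Atlas.repWith_sig @Etale ψ fun b ↦ ?_
    rw [hψ]
    rcases b with ⟨_ | _⟩
    · exact MorphismProperty.comp_mem _ _ _ ((repWith_yon_map_iff _ _).2 hce) hp0e
    · refine MorphismProperty.comp_mem _ _ _ ((repWith_yon_map_iff _ _).2 ?_) (MorphismProperty.comp_mem _ _ _ hfe
        (K610.OpenImm.repWith_etale_of_open (hjj p)))
      exact (inferInstance : Etale a.left)
  -- the open subspace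
  obtain ⟨W, jW, hjW, hjWr⟩ := K610.Sub.exists_open_subspace X
    (Set.range (Points.map j.hom) ∪ Set.range (Points.ofPt ψ)) (hjo.union (isOpen_range hψe))
  have hmW := K610.Factor.mono_of_isOpenImmersion hjW
  have hinj := (K610.OpenImm.isOpenEmbedding_points X.2 hjW).injective
  obtain ⟨jU, hjU⟩ := (K610.Factor.factors_open_iff hjW j.hom).2 (by rw [hjWr]; exact Set.subset_union_left)
  obtain ⟨φ, hφ⟩ := (K610.Factor.factors_open_iff hjW ψ).2 (by
    rw [hjWr, range_ofPt]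
    exact Set.subset_union_right)
  have hjUo : RepWith @IsOpenImmersion jU := K610.OpenImm.repWith_of_comp_mono (j := jW.hom) (by rwa [hjU])
  have hφe : RepWith @Etale φ := K610.OpenImm.repWith_of_comp_mono (j := jW.hom) (by rwa [hφ])
  have hrU : ∀ w : Points W.obj, w ∈ Set.range (Points.map jU) ↔ Points.map jW.hom w ∈ Set.range (Points.map j.hom) := by
    intro w
    constructor
    · rintro ⟨y, rfl⟩
      exact ⟨y, by rw [← hjU, Points.map_comp]⟩
    · rintro ⟨y, hy⟩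
      exact ⟨y, hinj (by rw [← hy, ← hjU, Points.map_comp])⟩
  have hW1U : ∀ w : W1.left, Points.map jW.hom (Points.ofPt ((yon S).map ι₁ ≫ φ) w) = Points.ofPt p0 (c.left w) := by
    intro w
    rw [Points.map_ofPt, Category.assoc, hφ, hψ1, K609.Points.ofPt_yon_map_comp]
  have h1 : ∀ w : W1.left, Points.ofPt ((yon S).map ι₁ ≫ φ) w ∈ Set.range (Points.map jU) := by
    intro w
    rw [hrU, hW1U]
    have : c.left w ∈ Set.range c.left := ⟨w, rfl⟩
    rw [hcr] at this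
    exact this
  have hclosed : IsClosed (Set.range (Points.map jU))ᶜ :=
    ((K610.OpenImm.isOpenEmbedding_points W.2 hjUo).isOpen_range).isClosed_compl
  obtain ⟨T', i', hT', hi'⟩ := K598.Red.exists_isRedInduced W.2 _ hclosed
  have hpi : IsIso (pullback.fst i' φ) := by
    refine isIso_fst (hjj p) (hred p) (D := (Set.range (Points.map (k p).hom))ᶜ) (hiso) hi' (a := a) inferInstance ι₀ ι₁
      hι₀ hcov hφe (by rw [hφ, hψ0]) h1 ?_ ?_ (IsPullback.of_hasPullback i' φ)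
    · intro w x hw hwx
      rintro ⟨y, rfl⟩
      refine hNp' ⟨Points.map jW.hom w, fun h ↦ hw ((hrU w).2 h), y, ?_⟩
      rw [hwx, ← Points.map_comp, ← hkj]
      rfl
    · intro w hw
      have hw' : Points.map jW.hom w ∈ Set.range (Points.map jW.hom) := ⟨w, rfl⟩
      rw [hjWr] at hw'
      rcases hw' with h | ⟨v', hv'⟩
      · exact absurd ((hrU w).2 h) hw
      · exact ⟨v', hinj (by rw [← hv', Points.map_ofPt, hφ])⟩
  have hxψ : x ∈ Set.range (Points.ofPt ψ) := by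
    refine ⟨ι₀.left ⟨v, hvA⟩, ?_⟩
    rw [← K609.Points.ofPt_yon_map_comp, hψ0, K609.Points.ofPt_yon_map_comp, ← Points.map_ofPt]
    have : a.left ⟨v, hvA⟩ = v := rfl
    rw [this, hv, hx']
  refine ⟨Vs, hVsA, W, jW, ⟨jU⟩, ⟨φ⟩, ⟨pullback jU φ, K613.Chart.isAlgSpace_pullback U.2 (IsAlgSpace.yon_obj Vs) W.2 jU φ⟩,
    ⟨pullback.fst jU φ⟩, ⟨pullback.snd jU φ⟩, ?_, hjW, ?_, ?_, ?_, ?_, ?_, ?_⟩
  · change RepWith @Etale (φ ≫ jW.hom)
    rwa [hφ]
  · ext1
    exact hjU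
  · change _ = _ ∪ Set.range (Points.map (φ ≫ jW.hom))
    rw [hjWr, hφ, range_ofPt]
  · rw [hjWr]
    intro h
    refine hxC ?_
    rw [← h]
    exact Or.inr hxψ
  · exact ⟨hjUo, fun _ _ hψ ↦ MorphismProperty.comp_mem _ _ _ hψ hφe, T', _, i', _, _, hi', IsPullback.of_hasPullback _ _, hpi⟩
  · exact IsPullback.of_hasPullback _ _
  · change DenseRange (Points.map (pullback.fst jU φ))
    refine Function.Surjective.denseRange fun y ↦ ?_
    obtain ⟨t, ht⟩ := K609.Points.surjective_ofPt_of_repWith_surjective hp0s (Points.map j.hom y)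
    have htO : t ∈ (O : Set X0.left) := by
      change Points.ofPt p0 t ∈ Set.range (Points.map j.hom)
      rw [ht]
      exact ⟨y, rfl⟩
    rw [← hcr] at htO
    obtain ⟨w, rfl⟩ := htO
    obtain ⟨z, hz, -⟩ := K609.Points.exists_of_isPullback (IsPullback.of_hasPullback jU φ) y
      (Points.ofScheme Vs (ι₁.left w)) (hinj (by
        rw [← Points.ofPt_eq_map_ofScheme, ← K609.Points.ofPt_yon_map_comp, hW1U, ht, ← Points.map_comp, hjU]))
    exact ⟨z, hz⟩

end K634.ElemDense
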