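import Groth.Prelude.Def_AlgSpInf

/-!
# Formal properties of the infinitesimal lifting predicates of morphisms of fppf sheaves

`Lft i f`, `Unq i f`: existence / uniqueness of lifts of a morphism `f` against a fixed morphism `i` (in any category),
with their stability properties, and the translations of `AlgSp.IsFormallySmoothMor`, `AlgSp.IsFormallyUnramifiedMor`,
`AlgSp.IsFormallyEtaleMor` to them.
-/

set_option autoImplicit false

universe u v w

open CategoryTheory CategoryTheory.Limits AlgebraicGeometry Opposite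

namespace K634.Formal

section General

variable {C : Type w} [Category.{v} C]

/-- lifts of `f` against `i` exist -/
def Lft {A B F G : C} (i : A ⟶ B) (f : F ⟶ G) : Prop :=
  ∀ (t : A ⟶ F) (b : B ⟶ G), t ≫ f = i ≫ b → ∃ l : B ⟶ F, i ≫ l = t ∧ l ≫ f = b

/-- lifts of `f` against `i` are unique -/
def Unq {A B F G : C} (i : A ⟶ B) (f : F ⟶ G) : Prop :=
  ∀ (l l' : B ⟶ F), i ≫ l = i ≫ l' → l ≫ f = l' ≫ f → l = l'

variable {A B F G H P : C} {i : A ⟶ B}

theorem Lft.comp {a : F ⟶ G} {b : G ⟶ H} (ha : Lft i a) (hb : Lft i b) : Lft i (a ≫ b) := by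
  intro t c w
  obtain ⟨l, h1, h2⟩ := hb (t ≫ a) c (by rw [Category.assoc]; exact w)
  obtain ⟨m, h3, h4⟩ := ha t l h1.symm
  exact ⟨m, h3, by rw [← Category.assoc, h4, h2]⟩

theorem Unq.comp {a : F ⟶ G} {b : G ⟶ H} (ha : Unq i a) (hb : Unq i b) : Unq i (a ≫ b) := by
  intro l l' h1 h2
  refine ha l l' h1 (hb _ _ ?_ ?_)
  · rw [← Category.assoc, h1, Category.assoc]
  · simpa using h2

theorem Unq.of_comp {a : F ⟶ G} {b : G ⟶ H} (h : Unq i (a ≫ b)) : Unq i a := by
  intro l l' h1 h2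
  refine h l l' h1 ?_
  rw [← Category.assoc, h2, Category.assoc]

theorem Lft.of_comp {a : F ⟶ G} {b : G ⟶ H} (hb : Unq i b) (h : Lft i (a ≫ b)) : Lft i a := by
  intro t c w
  obtain ⟨l, h1, h2⟩ := h t (c ≫ b) (by rw [← Category.assoc, w, Category.assoc])
  refine ⟨l, h1, hb _ _ ?_ ?_⟩
  · rw [← Category.assoc, h1, w]
  · rw [Category.assoc, h2]

theorem Lft.of_isPullback {a : F ⟶ G} {b : H ⟶ G} {b' : P ⟶ F} {a' : P ⟶ H}
    (hP : IsPullback b' a' a b) (ha : Lft i a) : Lft i a' := by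
  intro t c w
  obtain ⟨l, h1, h2⟩ := ha (t ≫ b') (c ≫ b) (by
    rw [Category.assoc, hP.w, ← Category.assoc, w, Category.assoc])
  refine ⟨hP.lift l c h2, ?_, hP.lift_snd _ _ _⟩
  apply hP.hom_ext
  · rw [Category.assoc, hP.lift_fst, h1]
  · rw [Category.assoc, hP.lift_snd, w]

theorem Unq.of_isPullback {a : F ⟶ G} {b : H ⟶ G} {b' : P ⟶ F} {a' : P ⟶ H}
    (hP : IsPullback b' a' a b) (ha : Unq i a) : Unq i a' := by
  intro l l' h1 h2
  apply hP.hom_ext _ h2
  refine ha _ _ ?_ ?_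
  · rw [← Category.assoc, h1, Category.assoc]
  · rw [Category.assoc, hP.w, ← Category.assoc, h2, Category.assoc, Category.assoc, hP.w]

theorem Unq.of_mono {a : F ⟶ G} [Mono a] : Unq i a := fun _ _ _ h => (cancel_mono a).1 h

theorem Lft.of_isIso {a : F ⟶ G} [IsIso a] : Lft i a := fun t b w =>
  ⟨b ≫ inv a, by rw [← Category.assoc, ← w]; simp, by simp⟩

/-- Lifting properties are invariant under isomorphism of the test arrow. -/
theorem Lft.of_iso_left {A' B' : C} {i' : A' ⟶ B'} {f : F ⟶ G} (e₁ : A ≅ A') (e₂ : B ≅ B')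
    (w : i ≫ e₂.hom = e₁.hom ≫ i') (h : Lft i f) : Lft i' f := by
  intro t b hw
  obtain ⟨l, h1, h2⟩ := h (e₁.hom ≫ t) (e₂.hom ≫ b) (by
    rw [Category.assoc, hw, ← Category.assoc, ← w, Category.assoc])
  refine ⟨e₂.inv ≫ l, ?_, ?_⟩
  · have : i' ≫ e₂.inv = e₁.inv ≫ i := by
      rw [Iso.comp_inv_eq, Category.assoc, w, Iso.inv_hom_id_assoc]
    rw [← Category.assoc, this, Category.assoc, h1, Iso.inv_hom_id_assoc]
  · rw [Category.assoc, h2, Iso.inv_hom_id_assoc]

theorem Unq.of_iso_left {A' B' : C} {i' : A' ⟶ B'} {f : F ⟶ G} (e₁ : A ≅ A') (e₂ : B ≅ B')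
    (w : i ≫ e₂.hom = e₁.hom ≫ i') (h : Unq i f) : Unq i' f := by
  intro l l' h1 h2
  rw [← cancel_epi e₂.hom]
  refine h _ _ ?_ ?_
  · rw [← Category.assoc, ← Category.assoc, w, Category.assoc, Category.assoc, h1]
  · rw [Category.assoc, Category.assoc, h2]

/-- A fully faithful functor preserves and reflects existence of lifts. -/
theorem Lft.map_iff {D : Type*} [Category* D] (T : C ⥤ D) [T.Full] [T.Faithful] {f : F ⟶ G} :
    Lft (T.map i) (T.map f) ↔ Lft i f := by
  constructor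
  · intro h t b w
    obtain ⟨l, h1, h2⟩ := h (T.map t) (T.map b) (by rw [← T.map_comp, w, T.map_comp])
    obtain ⟨l, rfl⟩ := T.map_surjective l
    exact ⟨l, T.map_injective (by rw [T.map_comp, h1]), T.map_injective (by rw [T.map_comp, h2])⟩
  · intro h t b w
    obtain ⟨t, rfl⟩ := T.map_surjective t
    obtain ⟨b, rfl⟩ := T.map_surjective b
    obtain ⟨l, h1, h2⟩ := h t b (T.map_injective (by rw [T.map_comp, w, T.map_comp]))
    exact ⟨T.map l, by rw [← T.map_comp, h1], by rw [← T.map_comp, h2]⟩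

theorem Unq.map_iff {D : Type*} [Category* D] (T : C ⥤ D) [T.Full] [T.Faithful] {f : F ⟶ G} :
    Unq (T.map i) (T.map f) ↔ Unq i f := by
  constructor
  · intro h l l' h1 h2
    refine T.map_injective (h _ _ ?_ ?_)
    · rw [← T.map_comp, h1, T.map_comp]
    · rw [← T.map_comp, h2, T.map_comp]
  · intro h l l' h1 h2
    obtain ⟨l, rfl⟩ := T.map_surjective l
    obtain ⟨l', rfl⟩ := T.map_surjective l'
    rw [h l l' (T.map_injective (by rw [T.map_comp, h1, T.map_comp]))
      (T.map_injective (by rw [T.map_comp, h2, T.map_comp]))]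

end General

open AlgSp

variable {S : Scheme.{u}} {F G H P : Sp S}

/-- The standard affine pair `Spec (A ⧸ I) ⟶ Spec A` over `S`. -/
noncomputable abbrev stdJ (A : Type u) [CommRing A] (I : Ideal A) (str : Spec (.of A) ⟶ S) :
    Over.mk (Spec.map (CommRingCat.ofHom (Ideal.Quotient.mk I)) ≫ str) ⟶ Over.mk str :=
  Over.homMk (Spec.map (CommRingCat.ofHom (Ideal.Quotient.mk I))) rfl

theorem smooth_iff {f : F ⟶ G} : IsFormallySmoothMor f ↔
    ∀ (A : Type u) [CommRing A] (I : Ideal A) (_ : I ^ 2 = ⊥) (str : Spec (.of A) ⟶ S),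
      Lft ((yon S).map (stdJ A I str)) f :=
  ⟨fun h A _ I hI str t b w => h ⟨A, I, hI, str, t, b, w⟩,
    fun h sq => h sq.A sq.I sq.sq_zero sq.str sq.top sq.bot sq.comm⟩

theorem unramified_iff {f : F ⟶ G} : IsFormallyUnramifiedMor f ↔
    ∀ (A : Type u) [CommRing A] (I : Ideal A) (_ : I ^ 2 = ⊥) (str : Spec (.of A) ⟶ S),
      Unq ((yon S).map (stdJ A I str)) f := by
  constructor
  · intro h A _ I hI str l l' h1 h2
    exact h ⟨A, I, hI, str, (yon S).map (stdJ A I str) ≫ l, l ≫ f, Category.assoc _ _ _⟩ l l' rfl rfl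
      h1.symm h2.symm
  · intro h sq l l' h1 h2 h3 h4
    exact h sq.A sq.I sq.sq_zero sq.str l l' (h1.trans h3.symm) (h2.trans h4.symm)

theorem etale_iff {a : F ⟶ G} :
    IsFormallyEtaleMor a ↔ IsFormallySmoothMor a ∧ IsFormallyUnramifiedMor a := by
  constructor
  · intro h
    exact ⟨fun sq => (h sq).exists, fun sq l l' h1 h2 h3 h4 => (h sq).unique ⟨h1, h2⟩ ⟨h3, h4⟩⟩
  · rintro ⟨h1, h2⟩ sq
    obtain ⟨l, hl1, hl2⟩ := h1 sq
    exact ⟨l, ⟨hl1, hl2⟩, fun l' h' => h2 sq l' l h'.1 h'.2 hl1 hl2⟩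

theorem smooth_comp {a : F ⟶ G} {b : G ⟶ H} (ha : IsFormallySmoothMor a) (hb : IsFormallySmoothMor b) :
    IsFormallySmoothMor (a ≫ b) := by
  rw [smooth_iff] at *
  exact fun A _ I hI str => (ha A I hI str).comp (hb A I hI str)

theorem unramified_comp {a : F ⟶ G} {b : G ⟶ H} (ha : IsFormallyUnramifiedMor a)
    (hb : IsFormallyUnramifiedMor b) : IsFormallyUnramifiedMor (a ≫ b) := by
  rw [unramified_iff] at *
  exact fun A _ I hI str => (ha A I hI str).comp (hb A I hI str)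

theorem etale_comp {a : F ⟶ G} {b : G ⟶ H} (ha : IsFormallyEtaleMor a) (hb : IsFormallyEtaleMor b) :
    IsFormallyEtaleMor (a ≫ b) := by
  rw [etale_iff] at *
  exact ⟨smooth_comp ha.1 hb.1, unramified_comp ha.2 hb.2⟩

theorem unramified_of_comp {a : F ⟶ G} {b : G ⟶ H} (h : IsFormallyUnramifiedMor (a ≫ b)) :
    IsFormallyUnramifiedMor a := by
  rw [unramified_iff] at *
  exact fun A _ I hI str => (h A I hI str).of_comp

theorem smooth_of_comp {a : F ⟶ G} {b : G ⟶ H} (hb : IsFormallyUnramifiedMor b)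
    (h : IsFormallySmoothMor (a ≫ b)) : IsFormallySmoothMor a := by
  rw [smooth_iff] at *; rw [unramified_iff] at hb
  exact fun A _ I hI str => (h A I hI str).of_comp (hb A I hI str)

theorem etale_of_comp {a : F ⟶ G} {b : G ⟶ H} (hb : IsFormallyUnramifiedMor b)
    (h : IsFormallyEtaleMor (a ≫ b)) : IsFormallyEtaleMor a := by
  rw [etale_iff] at *
  exact ⟨smooth_of_comp hb h.1, unramified_of_comp h.2⟩

theorem smooth_of_isPullback {a : F ⟶ G} {b : H ⟶ G} {b' : P ⟶ F} {a' : P ⟶ H}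
    (hP : IsPullback b' a' a b) (ha : IsFormallySmoothMor a) : IsFormallySmoothMor a' := by
  rw [smooth_iff] at *
  exact fun A _ I hI str => (ha A I hI str).of_isPullback hP

theorem unramified_of_isPullback {a : F ⟶ G} {b : H ⟶ G} {b' : P ⟶ F} {a' : P ⟶ H}
    (hP : IsPullback b' a' a b) (ha : IsFormallyUnramifiedMor a) : IsFormallyUnramifiedMor a' := by
  rw [unramified_iff] at *
  exact fun A _ I hI str => (ha A I hI str).of_isPullback hP

theorem etale_of_isPullback {a : F ⟶ G} {b : H ⟶ G} {b' : P ⟶ F} {a' : P ⟶ H}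
    (hP : IsPullback b' a' a b) (ha : IsFormallyEtaleMor a) : IsFormallyEtaleMor a' := by
  rw [etale_iff] at *
  exact ⟨smooth_of_isPullback hP ha.1, unramified_of_isPullback hP ha.2⟩

theorem unramified_of_mono {a : F ⟶ G} [Mono a] : IsFormallyUnramifiedMor a := by
  rw [unramified_iff]
  exact fun A _ I hI str => Unq.of_mono

end K634.Formal
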