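import Groth.Agent.AlgSp.K630.FpqcBasic
import Groth.Agent.AlgSp.K641.Pb
import Groth.Agent.AlgSp.K642.Pb
import Groth.Agent.AlgSp.K635.Glue

/-!
# Colimits of algebraic spaces are fpqc local
-/

set_option autoImplicit false

universe w v u

open CategoryTheory CategoryTheory.Limits AlgebraicGeometry Opposite

namespace K634.FpqcColim

open AlgSp K635.Glue

variable {S : Scheme.{u}}

/-- The lifting sieves of an fpqc covering are covering for the fpqc topology. -/
theorem liftSieve_mem {X : Sp S} {ι : Type u} {Y : ι → Sp S} {g : ∀ i, Y i ⟶ X} (h : IsFpqcCover Y g)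
    (Z : Over S) (t : X.obj.obj (op Z)) :
    K630.liftSieve (fun i ↦ (g i).hom) t ∈ (Scheme.fpqcTopology.over S) Z := by
  refine K630.mem_fpqcTopology_over _ fun U hU ↦ ?_
  let j : Over.mk (U.ι ≫ Z.hom) ⟶ Z := Over.homMk U.ι
  obtain ⟨m, W, c, h1, h2, h3, h4⟩ := h.2 (Over.mk (U.ι ≫ Z.hom)) hU ((yon S).map j ≫ (secEquiv X Z).symm t)
  refine ⟨m, W, c, h1, h2, h3, fun k ↦ ?_⟩
  obtain ⟨i, l, hl⟩ := h4 k
  refine ⟨i, secEquiv (Y i) (W k) l, ?_⟩
  have e1 := secEquiv_comp l (g i)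
  rw [hl, ← Category.assoc, ← Functor.map_comp, secEquiv_map, Equiv.apply_symm_apply] at e1
  exact e1.symm

/-- Maps into an fpqc sheaf agree if they agree on an fpqc covering. -/
theorem hom_ext_fpqc {X E : Sp S} (hE : Presheaf.IsSheaf (Scheme.fpqcTopology.over S) E.obj) {ι : Type u}
    {Y : ι → Sp S} {g : ∀ i, Y i ⟶ X}
    (h : ∀ (Z : Over S) (t : X.obj.obj (op Z)), K630.liftSieve (fun i ↦ (g i).hom) t ∈ (Scheme.fpqcTopology.over S) Z)
    {a b : X ⟶ E} (hab : ∀ i, g i ≫ a = g i ≫ b) : a = b := by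
  apply ObjectProperty.hom_ext
  have hE' := (isSheaf_iff_isSheaf_of_type _ _).1 hE
  exact K630.ext_of_liftSieve _ hE'.isSeparated h a.hom b.hom fun i ↦ congrArg (·.hom) (hab i)

/-- Gluing of maps into an fpqc sheaf along an fpqc covering. -/
theorem exists_hom_fpqc {X E : Sp S} (hE : Presheaf.IsSheaf (Scheme.fpqcTopology.over S) E.obj) {ι : Type u}
    {Y : ι → Sp S} {g : ∀ i, Y i ⟶ X}
    (h : ∀ (Z : Over S) (t : X.obj.obj (op Z)), K630.liftSieve (fun i ↦ (g i).hom) t ∈ (Scheme.fpqcTopology.over S) Z)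
    (b : ∀ i, Y i ⟶ E)
    (hb : ∀ (i j : ι) (T : Over S) (x : (yon S).obj T ⟶ Y i) (y : (yon S).obj T ⟶ Y j),
      x ≫ g i = y ≫ g j → x ≫ b i = y ≫ b j) : ∃ β : X ⟶ E, ∀ i, g i ≫ β = b i := by
  have hE' := (isSheaf_iff_isSheaf_of_type _ _).1 hE
  obtain ⟨β, hβ⟩ := K630.exists_of_liftSieve _ hE' h (fun i ↦ (b i).hom) (by
    intro Z i j x y hxy
    have e1 := hb i j Z ((secEquiv (Y i) Z).symm x) ((secEquiv (Y j) Z).symm y) (by
      apply (secEquiv X Z).injective
      rw [secEquiv_comp, secEquiv_comp, Equiv.apply_symm_apply, Equiv.apply_symm_apply]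
      exact hxy)
    have e2 := congrArg (secEquiv E Z) e1
    rwa [secEquiv_comp, secEquiv_comp, Equiv.apply_symm_apply, Equiv.apply_symm_apply] at e2)
  exact ⟨⟨β⟩, fun i ↦ ObjectProperty.hom_ext _ (hβ i)⟩

/-- The lifting sieve condition is stable under base change. -/
theorem liftSieve_mem_of_isPullback {X X' : Sp S} {ι : Type u} {Y Y' : ι → Sp S} {g : ∀ i, Y i ⟶ X}
    {g' : ∀ i, Y' i ⟶ X'} {f : X' ⟶ X} {q : ∀ i, Y' i ⟶ Y i} (sq : ∀ i, IsPullback (q i) (g' i) (g i) f)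
    (h : ∀ (Z : Over S) (t : X.obj.obj (op Z)), K630.liftSieve (fun i ↦ (g i).hom) t ∈ (Scheme.fpqcTopology.over S) Z)
    (Z : Over S) (t : X'.obj.obj (op Z)) :
    K630.liftSieve (fun i ↦ (g' i).hom) t ∈ (Scheme.fpqcTopology.over S) Z := by
  refine (Scheme.fpqcTopology.over S).superset_covering ?_ (h Z (f.hom.app (op Z) t))
  rintro T k ⟨i, x, hx⟩
  have e1 : (secEquiv (Y i) T).symm x ≫ g i = (secEquiv X' T).symm (X'.obj.map k.op t) ≫ f := by
    apply (secEquiv X T).injective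
    rw [secEquiv_comp, secEquiv_comp, Equiv.apply_symm_apply, Equiv.apply_symm_apply]
    refine hx.trans ?_
    exact (NatTrans.naturality_apply f.hom k.op t).symm
  refine ⟨i, secEquiv (Y' i) T ((sq i).lift _ _ e1), ?_⟩
  rw [← secEquiv_comp, (sq i).lift_snd, Equiv.apply_symm_apply]

variable {B : Space S} {I : Type v} [Category.{w} I]

theorem nonempty_isColimit (HE : ∀ E : Space S, Presheaf.IsSheaf (Scheme.fpqcTopology.over S) E.obj.obj)
    (D : I ⥤ Over B)
    (c : Cocone D) {κ : Type u} (Ua : κ → Over B) (ua : ∀ a, Ua a ⟶ c.pt)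
    (hcov : IsFpqcCover (fun a => (Ua a).left.obj) (fun a => (ua a).left.hom))
    (h₁ : ∀ (a : κ) (Da : I ⥤ Over B) (α : Da ⟶ D) (ι : Da ⟶ (Functor.const I).obj (Ua a)),
      (∀ i, IsPullback (ι.app i).left.hom (α.app i).left.hom (ua a).left.hom (c.ι.app i).left.hom) →
        Nonempty (IsColimit (Cocone.mk (Ua a) ι)))
    (h₂ : ∀ (a b : κ) (Uab : Over B) (pa : Uab ⟶ Ua a) (pb : Uab ⟶ Ua b),
      IsPullback pa.left.hom pb.left.hom (ua a).left.hom (ua b).left.hom →
      ∀ (Dab : I ⥤ Over B) (α : Dab ⟶ D) (ι : Dab ⟶ (Functor.const I).obj Uab),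
        (∀ i, IsPullback (ι.app i).left.hom (α.app i).left.hom (pa ≫ ua a).left.hom (c.ι.app i).left.hom) →
          Nonempty (IsColimit (Cocone.mk Uab ι))) :
    Nonempty (IsColimit c) := by
  have hsieve := fun Z t ↦ liftSieve_mem hcov Z t
  have := K642.Pb.hasPullbacks (S := S)
  have hpb : HasPullbacks (Over B) := inferInstance
  -- base changes of the diagram
  have hbc : ∀ {W : Over B} (p : W ⟶ c.pt), ∃ (D' : I ⥤ Over B) (α : D' ⟶ D) (β : D' ⟶ (Functor.const I).obj W),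
      ∀ i, IsPullback (β.app i) (α.app i) p (c.ι.app i) := by
    intro W p
    obtain ⟨D', α, β, h, -⟩ := K641.Pb.exists_diag' (D := D) c.ι.app (fun i j g ↦ c.w g) p
      (fun i ↦ ⟨_, _, _, IsPullback.of_hasPullback _ _⟩)
    exact ⟨D', α, β, h⟩
  choose Da α β hα using fun a ↦ hbc (ua a)
  have K : ∀ a, IsColimit (Cocone.mk (Ua a) (β a)) := fun a ↦
    (h₁ a (Da a) (α a) (β a) fun i ↦ K642.Pb.isPullback_over_iff.2 (hα a i)).some
  let φ : ∀ (s : Cocone D) (a : κ), Ua a ⟶ s.pt := fun s a ↦ (K a).desc ⟨s.pt, α a ≫ s.ι⟩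
  have hφ : ∀ (s : Cocone D) (a : κ) (i : I), (β a).app i ≫ φ s a = (α a).app i ≫ s.ι.app i := fun s a i ↦
    (K a).fac ⟨s.pt, α a ≫ s.ι⟩ i
  -- agreement on overlaps
  have hag : ∀ (s : Cocone D) (a b : κ), pullback.fst (ua a) (ua b) ≫ φ s a = pullback.snd (ua a) (ua b) ≫ φ s b := by
    intro s a b
    obtain ⟨Dab, γ, δ, hγ⟩ := hbc (pullback.fst (ua a) (ua b) ≫ ua a)
    obtain ⟨Kab⟩ := h₂ a b _ (pullback.fst (ua a) (ua b)) (pullback.snd (ua a) (ua b))
      (K642.Pb.isPullback_over_iff.2 (IsPullback.of_hasPullback _ _)) Dab γ δ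
      (fun i ↦ K642.Pb.isPullback_over_iff.2 (hγ i))
    refine Kab.hom_ext fun i ↦ ?_
    have e1 : δ.app i ≫ pullback.fst (ua a) (ua b) ≫ φ s a = γ.app i ≫ s.ι.app i := by
      obtain ⟨l, hl1, hl2⟩ : ∃ l, l ≫ (β a).app i = δ.app i ≫ pullback.fst (ua a) (ua b) ∧
          l ≫ (α a).app i = γ.app i :=
        ⟨(hα a i).lift _ _ (by rw [Category.assoc]; exact (hγ i).w), (hα a i).lift_fst _ _ _,
          (hα a i).lift_snd _ _ _⟩
      rw [← Category.assoc, ← hl1, ← hl2, Category.assoc, Category.assoc, hφ]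
    have e2 : δ.app i ≫ pullback.snd (ua a) (ua b) ≫ φ s b = γ.app i ≫ s.ι.app i := by
      obtain ⟨l, hl1, hl2⟩ : ∃ l, l ≫ (β b).app i = δ.app i ≫ pullback.snd (ua a) (ua b) ∧
          l ≫ (α b).app i = γ.app i :=
        ⟨(hα b i).lift _ _ (by
            rw [Category.assoc]
            exact (congrArg (fun z ↦ δ.app i ≫ z) pullback.condition.symm).trans (hγ i).w), (hα b i).lift_fst _ _ _,
          (hα b i).lift_snd _ _ _⟩
      rw [← Category.assoc, ← hl1, ← hl2, Category.assoc, Category.assoc, hφ]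
    exact e1.trans e2.symm
  have hglue : ∀ s : Cocone D, ∃ m : c.pt ⟶ s.pt, ∀ a, ua a ≫ m = φ s a := by
    intro s
    obtain ⟨m, hm⟩ := exists_hom_fpqc (HE s.pt.left) hsieve (fun a ↦ (φ s a).left.hom) (by
      intro a b T x y hxy
      have hsq : IsPullback (pullback.fst (ua a) (ua b)).left.hom (pullback.snd (ua a) (ua b)).left.hom
        (ua a).left.hom (ua b).left.hom := K642.Pb.isPullback_over_iff.2 (IsPullback.of_hasPullback _ _)
      have e1 := congrArg (fun z ↦ z.left.hom) (hag s a b)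
      have e2 : x = hsq.lift x y hxy ≫ (pullback.fst (ua a) (ua b)).left.hom := (hsq.lift_fst x y hxy).symm
      have e3 : y = hsq.lift x y hxy ≫ (pullback.snd (ua a) (ua b)).left.hom := (hsq.lift_snd x y hxy).symm
      generalize hsq.lift x y hxy = z at e2 e3
      rw [e2, e3, Category.assoc, Category.assoc]
      exact congrArg (fun w ↦ z ≫ w) e1)
    have hw : m ≫ s.pt.hom.hom = c.pt.hom.hom := by
      refine hom_ext_fpqc (HE B) hsieve fun a ↦ ?_
      rw [← Category.assoc, hm]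
      exact (congrArg (·.hom) (Over.w (φ s a))).trans (congrArg (·.hom) (Over.w (ua a))).symm
    refine ⟨Over.homMk ⟨m⟩ (by ext1; exact hw), fun a ↦ ?_⟩
    ext1
    ext1
    exact hm a
  choose m hm using hglue
  refine ⟨{ desc := m, fac := fun s i ↦ ?_, uniq := fun s l hl ↦ ?_ }⟩
  · ext1
    ext1
    refine hom_ext_fpqc (HE s.pt.left) (g := fun a ↦ ((α a).app i).left.hom)
      (liftSieve_mem_of_isPullback (fun a ↦ K642.Pb.isPullback_over_iff.2 (hα a i)) hsieve) fun a ↦ ?_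
    have e1 : (α a).app i ≫ c.ι.app i ≫ m s = (α a).app i ≫ s.ι.app i := by
      rw [← Category.assoc, ← (hα a i).w, Category.assoc, hm, hφ]
    exact congrArg (fun z ↦ z.left.hom) e1
  · ext1
    ext1
    refine hom_ext_fpqc (HE s.pt.left) hsieve fun a ↦ ?_
    have e1 : ua a ≫ l = φ s a := by
      refine (K a).hom_ext fun i ↦ ?_
      have e2 : (β a).app i ≫ ua a ≫ l = (α a).app i ≫ s.ι.app i := by
        rw [← Category.assoc, (hα a i).w, Category.assoc, hl]
      exact e2.trans (hφ s a i).symm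
    exact congrArg (fun z ↦ z.left.hom) (e1.trans (hm s a).symm)

end K634.FpqcColim
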