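import Groth.Agent.AlgSp.K602.FacLim
import Groth.Agent.AlgSp.K602.LPDesc
import Groth.Agent.AlgSp.K651.FpqcSh
import Groth.Agent.AlgSp.K597.Affine
import Groth.Agent.S0591
import Groth.Agent.S2578

/-!
# Fpqc descent and limits

Let `G` be an fpqc sheaf with a map to a scheme `Z`, which becomes a scheme of finite presentation after an affine
fpqc base change `T₀ ⟶ Z`. Then `G ⟶ Z` is limit preserving, and for every cofiltered system of affine schemes `D_j`
over `Z` with limit `T`, if `G ×_Z T` is a scheme of finite presentation over `T`, so is `G ×_Z D_j` for large `j`.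
-/

set_option autoImplicit false
set_option backward.isDefEq.respectTransparency false
universe u
open CategoryTheory CategoryTheory.Limits AlgebraicGeometry Opposite
open AlgSp K628.Fqc K651.FpqcSh K605.SqEl K605.LfpLim K602.BC K602.LPDesc

namespace K634.FpqcLim

variable {S : Scheme.{u}}

section Aff

variable {G : Sp S} {Z T₀ X₀ : Over S} {f : G ⟶ (yon S).obj Z} {c₀ : T₀ ⟶ Z} {p₀ : (yon S).obj X₀ ⟶ G}
  {q₀ : X₀ ⟶ T₀}

/-- Lifting a point of `G` over a point of `T₀`. -/
theorem exists_lift (sq₀ : IsPullback p₀ ((yon S).map q₀) f ((yon S).map c₀)) {R : Over S}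
    (g : (yon S).obj R ⟶ G) (t : R ⟶ T₀) (h : g ≫ f = (yon S).map (t ≫ c₀)) :
    ∃ a : R ⟶ X₀, (yon S).map a ≫ p₀ = g ∧ a ≫ q₀ = t := by
  have h' : g ≫ f = (yon S).map t ≫ (yon S).map c₀ := by rw [h, Functor.map_comp]
  obtain ⟨a, ha⟩ := (yon S).map_surjective (sq₀.lift g ((yon S).map t) h')
  refine ⟨a, ?_, (yon S).map_injective ?_⟩
  · rw [ha, sq₀.lift_fst]
  · rw [Functor.map_comp, ha, sq₀.lift_snd]

theorem lift_ext (sq₀ : IsPullback p₀ ((yon S).map q₀) f ((yon S).map c₀)) {R : Over S} {a b : R ⟶ X₀}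
    (h1 : (yon S).map a ≫ p₀ = (yon S).map b ≫ p₀) (h2 : a ≫ q₀ = b ≫ q₀) : a = b := by
  apply (yon S).map_injective
  apply sq₀.hom_ext h1
  rw [← Functor.map_comp, h2, Functor.map_comp]

theorem affEl_yon_map [LocallyOfFinitePresentation q₀.left] : AffEl ((yon S).map q₀) :=
  (affEl_iff _).2 (K601.RelLimRep.isRelLimitPreserving_of_repWith ((repWith_yon_map_iff _ _).2 inferInstance))

/-- `G ⟶ Z` is limit preserving if it is so after an affine fpqc base change. -/
theorem affEl_of_fpqc (hG : IsFpqcSh G) (hc₀ : FqC c₀) (haff : IsAffineHom c₀.left)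
    (sq₀ : IsPullback p₀ ((yon S).map q₀) f ((yon S).map c₀)) [LocallyOfFinitePresentation q₀.left] :
    AffEl f := by
  intro I _ _ D c hc hD hT
  have hq : AffEl ((yon S).map q₀) := affEl_yon_map
  constructor
  · intro i x x' hx hx'
    obtain ⟨y, hy⟩ := (yon S).map_surjective (x ≫ f)
    let W := pullback y c₀
    let w1 : W ⟶ D.obj i := pullback.fst y c₀
    let w2 : W ⟶ T₀ := pullback.snd y c₀
    have hw : w1 ≫ y = w2 ≫ c₀ := pullback.condition
    have hW : IsAffine W.left := by
      have := hD i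
      have sqW : IsPullback w1.left w2.left y.left c₀.left :=
        (IsPullback.of_hasPullback y c₀).map (Over.forget S)
      have : IsAffineHom w1.left := MorphismProperty.of_isPullback sqW.flip haff
      exact isAffine_of_isAffineHom w1.left
    have hw1 : FqC w1 := FqC.of_isPullback (IsPullback.of_hasPullback y c₀).flip hc₀
    obtain ⟨a, ha1, ha2⟩ := exists_lift sq₀ ((yon S).map w1 ≫ x) w2 (by
      rw [Category.assoc, ← hy, ← Functor.map_comp, hw])
    obtain ⟨a', ha1', ha2'⟩ := exists_lift sq₀ ((yon S).map w1 ≫ x') w2 (by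
      rw [Category.assoc, ← hx, ← hy, ← Functor.map_comp, hw])
    obtain ⟨hl⟩ := nonempty_isLimit D c i w1 hc
    obtain ⟨j, φ, hj⟩ := (hq (sys D i w1) (cone D c i w1) hl (fun j => sys_isAffine D i w1 hW hD j)
      (cone_isAffine D c i w1 hW hD hT)).1 (Over.mk (𝟙 i))
      ((yon S).map (sysFst D i w1 (Over.mk (𝟙 i)) ≫ a)) ((yon S).map (sysFst D i w1 (Over.mk (𝟙 i)) ≫ a'))
      (by rw [← Functor.map_comp, ← Functor.map_comp, Category.assoc, Category.assoc, ha2, ha2'])
      (by
        change (yon S).map ((cone D c i w1).π.app _) ≫ _ = (yon S).map ((cone D c i w1).π.app _) ≫ _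
        rw [← Functor.map_comp, ← Functor.map_comp]
        congr 1
        apply lift_ext sq₀
        · rw [← Category.assoc, ← Category.assoc, cone_π_fst, Functor.map_comp, Functor.map_comp,
            Category.assoc, Category.assoc, ha1, ha1', ← Category.assoc, ← Category.assoc,
            ← Functor.map_comp, (cone_isPullback D c i w1).w, Functor.map_comp, Category.assoc,
            Category.assoc]
          exact congrArg _ hx'
        · simp only [Category.assoc, ha2, ha2'])
    refine ⟨j.left, j.hom, ?_⟩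
    change (yon S).map (D.map j.hom) ≫ x = (yon S).map (D.map j.hom) ≫ x'
    have hs : FqC (sysSnd D i w1 j) := FqC.of_isPullback (sys_isPullback D i w1 j) hw1
    apply hG.ext hs
    have hj' : sysFst D i w1 j ≫ a = sysFst D i w1 j ≫ a' := by
      apply (yon S).map_injective
      have := hj
      change (yon S).map ((sys D i w1).map φ) ≫ _ = (yon S).map ((sys D i w1).map φ) ≫ _ at this
      rw [← Functor.map_comp, ← Functor.map_comp, ← Category.assoc, ← Category.assoc, sys_map_fst] at this
      exact this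
    rw [← Category.assoc, ← Category.assoc, ← Functor.map_comp, ← (sys_isPullback D i w1 j).w,
      Functor.map_comp, Category.assoc, Category.assoc, ← ha1, ← ha1', ← Category.assoc, ← Category.assoc,
      ← Functor.map_comp, ← Functor.map_comp, hj']
  · intro i y' t ht
    obtain ⟨y, rfl⟩ := (yon S).map_surjective y'
    let W := pullback y c₀
    let w1 : W ⟶ D.obj i := pullback.fst y c₀
    let w2 : W ⟶ T₀ := pullback.snd y c₀
    have hw : w1 ≫ y = w2 ≫ c₀ := pullback.condition
    have hW : IsAffine W.left := by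
      have := hD i
      have sqW : IsPullback w1.left w2.left y.left c₀.left :=
        (IsPullback.of_hasPullback y c₀).map (Over.forget S)
      have : IsAffineHom w1.left := MorphismProperty.of_isPullback sqW.flip haff
      exact isAffine_of_isAffineHom w1.left
    have hw1 : FqC w1 := FqC.of_isPullback (IsPullback.of_hasPullback y c₀).flip hc₀
    have ht' : t ≫ f = (yon S).map (c.π.app i ≫ y) := by rw [Functor.map_comp]; exact ht
    obtain ⟨b, hb1, hb2⟩ := exists_lift sq₀ ((yon S).map (coneSnd D c i w1) ≫ t) (coneFst D c i w1 ≫ w2) (by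
      rw [Category.assoc, ht', ← Functor.map_comp, ← Category.assoc, ← (cone_isPullback D c i w1).w,
        Category.assoc, hw, Category.assoc])
    obtain ⟨hl⟩ := nonempty_isLimit D c i w1 hc
    obtain ⟨j, φ, bj', hj1', hj2'⟩ := (hq (sys D i w1) (cone D c i w1) hl (fun j => sys_isAffine D i w1 hW hD j)
      (cone_isAffine D c i w1 hW hD hT)).2 (Over.mk (𝟙 i))
      ((yon S).map (sysFst D i w1 (Over.mk (𝟙 i)) ≫ w2)) ((yon S).map b) (by
        change _ = (yon S).map ((cone D c i w1).π.app _) ≫ _
        rw [← Functor.map_comp, ← Functor.map_comp, hb2, ← Category.assoc, cone_π_fst])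
    obtain ⟨bj, rfl⟩ := (yon S).map_surjective bj'
    have hj1 : (cone D c i w1).π.app j ≫ bj = b := by
      apply (yon S).map_injective
      rw [Functor.map_comp]
      exact hj1'
    have hj2 : bj ≫ q₀ = sysFst D i w1 j ≫ w2 := by
      apply (yon S).map_injective
      rw [Functor.map_comp]
      refine hj2'.trans ?_
      change (yon S).map ((sys D i w1).map φ) ≫ _ = _
      rw [← Functor.map_comp, ← Category.assoc, sys_map_fst]
    -- the double overlap
    let o : pullback w1 w1 ⟶ D.obj i := ov (fun _ : PUnit.{1} => W) (fun _ => w1) PUnit.unit PUnit.unit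
    let r1 : ∀ k : Over i, (sys D i o).obj k ⟶ (sys D i w1).obj k :=
      fun k => pr1 (W := fun _ : PUnit.{1} => W) (p := fun _ => w1) PUnit.unit PUnit.unit k
    let r2 : ∀ k : Over i, (sys D i o).obj k ⟶ (sys D i w1).obj k :=
      fun k => pr2 (W := fun _ : PUnit.{1} => W) (p := fun _ => w1) PUnit.unit PUnit.unit k
    have H1 : ∀ k, r1 k ≫ sysFst D i w1 k = sysFst D i o k ≫ pullback.fst w1 w1 := fun k =>
      IsPullback.lift_fst _ _ _ _
    have H1' : ∀ k, r1 k ≫ sysSnd D i w1 k = sysSnd D i o k := fun k => IsPullback.lift_snd _ _ _ _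
    have H2 : ∀ k, r2 k ≫ sysFst D i w1 k = sysFst D i o k ≫ pullback.snd w1 w1 := fun k =>
      IsPullback.lift_fst _ _ _ _
    have H2' : ∀ k, r2 k ≫ sysSnd D i w1 k = sysSnd D i o k := fun k => IsPullback.lift_snd _ _ _ _
    have N1 : ∀ {k l : Over i} (ψ : k ⟶ l), (sys D i o).map ψ ≫ r1 l = r1 k ≫ (sys D i w1).map ψ := fun ψ =>
      pr1_nat _ _ ψ
    have N2 : ∀ {k l : Over i} (ψ : k ⟶ l), (sys D i o).map ψ ≫ r2 l = r2 k ≫ (sys D i w1).map ψ := fun ψ =>
      pr2_nat _ _ ψ
    have hp : ∀ {R : Over S} (a : R ⟶ X₀), ((yon S).map a ≫ p₀) ≫ f = (yon S).map ((a ≫ q₀) ≫ c₀) := by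
      intro R a
      rw [Category.assoc, sq₀.w, Functor.map_comp, Functor.map_comp, Category.assoc]
    obtain ⟨A2, hA1, hA2⟩ := exists_lift sq₀ ((yon S).map (r2 j ≫ bj) ≫ p₀) ((r1 j ≫ bj) ≫ q₀) (by
      rw [hp]
      congr 1
      rw [Category.assoc (r2 j), Category.assoc (r1 j), hj2, Category.assoc, Category.assoc,
        Category.assoc, Category.assoc, ← hw, ← Category.assoc (r2 j), H2, ← Category.assoc (r1 j), H1,
        Category.assoc, Category.assoc, ← Category.assoc (pullback.snd w1 w1),
        ← Category.assoc (pullback.fst w1 w1), pullback.condition])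
    obtain ⟨s1, hs1, hs1'⟩ : ∃ r : (cone D c i o).pt ⟶ (cone D c i w1).pt,
        r ≫ coneFst D c i w1 = coneFst D c i o ≫ pullback.fst w1 w1 ∧ r ≫ coneSnd D c i w1 = coneSnd D c i o :=
      ⟨(cone_isPullback D c i w1).lift (coneFst D c i o ≫ pullback.fst w1 w1) (coneSnd D c i o) (by
        rw [Category.assoc]; exact (cone_isPullback D c i o).w), IsPullback.lift_fst _ _ _ _,
        IsPullback.lift_snd _ _ _ _⟩
    obtain ⟨s2, hs2, hs2'⟩ : ∃ r : (cone D c i o).pt ⟶ (cone D c i w1).pt,
        r ≫ coneFst D c i w1 = coneFst D c i o ≫ pullback.snd w1 w1 ∧ r ≫ coneSnd D c i w1 = coneSnd D c i o :=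
      ⟨(cone_isPullback D c i w1).lift (coneFst D c i o ≫ pullback.snd w1 w1) (coneSnd D c i o) (by
        rw [Category.assoc, ← pullback.condition]; exact (cone_isPullback D c i o).w),
        IsPullback.lift_fst _ _ _ _, IsPullback.lift_snd _ _ _ _⟩
    have e1 : (cone D c i o).π.app j ≫ r1 j = s1 ≫ (cone D c i w1).π.app j := by
      apply (sys_isPullback D i w1 j).hom_ext
      · rw [Category.assoc, Category.assoc, H1, cone_π_fst, hs1, ← Category.assoc, cone_π_fst]
      · rw [Category.assoc, Category.assoc, H1', cone_π_snd, cone_π_snd, ← hs1', Category.assoc]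
    have e2 : (cone D c i o).π.app j ≫ r2 j = s2 ≫ (cone D c i w1).π.app j := by
      apply (sys_isPullback D i w1 j).hom_ext
      · rw [Category.assoc, Category.assoc, H2, cone_π_fst, hs2, ← Category.assoc, cone_π_fst]
      · rw [Category.assoc, Category.assoc, H2', cone_π_snd, cone_π_snd, ← hs2', Category.assoc]
    have hW2 : IsAffine (pullback w1 w1).left :=
      isAffine_of_isPullback (IsPullback.of_hasPullback w1 w1) hW hW (hD i)
    obtain ⟨hl2⟩ := nonempty_isLimit D c i o hc
    obtain ⟨k, ψ, hk⟩ := (hq (sys D i o) (cone D c i o) hl2 (fun j => sys_isAffine D i o hW2 hD j)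
      (cone_isAffine D c i o hW2 hD hT)).1 j ((yon S).map (r1 j ≫ bj)) ((yon S).map A2)
      (by rw [← Functor.map_comp, ← Functor.map_comp, hA2])
      (by
        change (yon S).map ((cone D c i o).π.app _) ≫ _ = (yon S).map ((cone D c i o).π.app _) ≫ _
        rw [← Functor.map_comp, ← Functor.map_comp]
        congr 1
        apply lift_ext sq₀
        · rw [Functor.map_comp _ _ A2, Category.assoc, hA1, ← Category.assoc ((yon S).map _) ((yon S).map _) p₀,
            ← Functor.map_comp, ← Category.assoc _ (r2 j), e2, ← Category.assoc _ (r1 j), e1, Category.assoc,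
            Category.assoc, hj1, Functor.map_comp, Functor.map_comp, Category.assoc, Category.assoc, hb1,
            ← Category.assoc, ← Category.assoc, ← Functor.map_comp, ← Functor.map_comp, hs1', hs2']
        · simp only [Category.assoc, hA2])
    have hk' : (sys D i o).map ψ ≫ r1 j ≫ bj = (sys D i o).map ψ ≫ A2 := by
      apply (yon S).map_injective
      rw [Functor.map_comp, Functor.map_comp]
      exact hk
    have hsk : FqC (sysSnd D i w1 k) := FqC.of_isPullback (sys_isPullback D i w1 k) hw1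
    have hcs : FqC (coneSnd D c i w1) := FqC.of_isPullback (cone_isPullback D c i w1) hw1
    obtain ⟨z, hz, -⟩ := hG _ hsk ((yon S).map ((sys D i w1).map ψ ≫ bj) ≫ p₀) (by
      intro R a b hab
      obtain ⟨r, hr1, hr2⟩ : ∃ r : R ⟶ (sys D i o).obj k, r ≫ r1 k = a ∧ r ≫ r2 k = b := by
        have hab' : (a ≫ sysFst D i w1 k) ≫ w1 = (b ≫ sysFst D i w1 k) ≫ w1 := by
          rw [Category.assoc, Category.assoc, (sys_isPullback D i w1 k).w, ← Category.assoc, hab,
            Category.assoc]
        refine ⟨(sys_isPullback D i o k).lift (pullback.lift _ _ hab') (a ≫ sysSnd D i w1 k) (by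
          change _ ≫ pullback.fst w1 w1 ≫ w1 = _
          rw [pullback.lift_fst_assoc, Category.assoc, Category.assoc, (sys_isPullback D i w1 k).w]), ?_, ?_⟩
        · apply (sys_isPullback D i w1 k).hom_ext
          · rw [Category.assoc, H1, ← Category.assoc, IsPullback.lift_fst, pullback.lift_fst]
          · rw [Category.assoc, H1', IsPullback.lift_snd]
        · apply (sys_isPullback D i w1 k).hom_ext
          · rw [Category.assoc, H2, ← Category.assoc, IsPullback.lift_fst, pullback.lift_snd]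
          · rw [Category.assoc, H2', IsPullback.lift_snd, hab]
      have q1 : a ≫ (sys D i w1).map ψ ≫ bj = r ≫ (sys D i o).map ψ ≫ r1 j ≫ bj := by
        rw [← Category.assoc ((sys D i o).map ψ), N1, Category.assoc, ← Category.assoc r, hr1]
      have q2 : b ≫ (sys D i w1).map ψ ≫ bj = r ≫ (sys D i o).map ψ ≫ r2 j ≫ bj := by
        rw [← Category.assoc ((sys D i o).map ψ), N2, Category.assoc, ← Category.assoc r, hr2]
      rw [← Category.assoc, ← Category.assoc, ← Functor.map_comp, ← Functor.map_comp, q1, q2, hk',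
        ← Category.assoc r, Functor.map_comp _ _ A2, Category.assoc, hA1, ← Category.assoc,
        ← Functor.map_comp, ← Category.assoc r])
    refine ⟨k.left, k.hom, z, ?_, ?_⟩
    · change (yon S).map (c.π.app k.left) ≫ z = t
      apply hG.ext hcs
      rw [← Category.assoc, ← Functor.map_comp, ← cone_π_snd, Functor.map_comp, Category.assoc, hz,
        ← Category.assoc, ← Functor.map_comp, ← Category.assoc, (cone D c i w1).w, hj1, hb1]
    · change z ≫ f = (yon S).map (D.map k.hom) ≫ (yon S).map y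
      apply IsFpqcSh.ext (isFpqcSh_yon Z) hsk
      rw [← Category.assoc, hz, hp, ← Functor.map_comp, ← Functor.map_comp]
      congr 1
      rw [Category.assoc ((sys D i w1).map ψ), hj2, ← Category.assoc ((sys D i w1).map ψ), sys_map_fst,
        Category.assoc, ← hw, ← Category.assoc, (sys_isPullback D i w1 k).w, Category.assoc]

end Aff

/-- A square with an fpqc sheaf is cartesian if it is so after an fpqc base change. -/
theorem isPullback_of_fpqc {G : Sp S} (hG : IsFpqcSh G) {Z D W V E : Over S} {f : G ⟶ (yon S).obj Z}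
    {t : D ⟶ Z} {x : (yon S).obj W ⟶ G} {w : W ⟶ D} (hx : x ≫ f = (yon S).map (w ≫ t)) {v : V ⟶ D}
    (hv : FqC v) {e1 : E ⟶ W} {e2 : E ⟶ V} (sqE : IsPullback e1 e2 w v)
    (sq : IsPullback ((yon S).map e1 ≫ x) ((yon S).map e2) f ((yon S).map (v ≫ t))) :
    IsPullback x ((yon S).map w) f ((yon S).map t) := by
  refine K613.Basic.isPullback_of_yon (by rw [hx, Functor.map_comp]) fun R a b' hab' => ?_
  obtain ⟨b, rfl⟩ := (yon S).map_surjective b'
  have hab : a ≫ f = (yon S).map (b ≫ t) := by rw [hab', Functor.map_comp]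
  let r1 := pullback.fst b v
  let r2 := pullback.snd b v
  have hr : r1 ≫ b = r2 ≫ v := pullback.condition
  have hr1 : FqC r1 := hv.pullback_fst b
  have hr1e : Epi r1 := hr1.epi
  obtain ⟨u, hu1, hu2⟩ := exists_lift sq ((yon S).map r1 ≫ a) r2 (by
    rw [Category.assoc, hab, ← Functor.map_comp, ← Category.assoc, hr, Category.assoc])
  have hu1' : (yon S).map (u ≫ e1) ≫ x = (yon S).map r1 ≫ a := by
    rw [← hu1, Functor.map_comp, Category.assoc]
  obtain ⟨y, hy, -⟩ := hr1.desc (u ≫ e1) (by
    intro R' p q hpq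
    obtain ⟨m, hm1, hm2⟩ : ∃ m : R' ⟶ E, m ≫ e1 = q ≫ u ≫ e1 ∧ m ≫ e2 = p ≫ r2 :=
      ⟨sqE.lift (q ≫ u ≫ e1) (p ≫ r2) (by
        rw [Category.assoc, Category.assoc, sqE.w, ← Category.assoc u, hu2, Category.assoc, ← hr,
          ← Category.assoc, ← hpq, Category.assoc]), sqE.lift_fst _ _ _, sqE.lift_snd _ _ _⟩
    have : m = p ≫ u := by
      refine lift_ext sq ?_ (by rw [hm2, Category.assoc, hu2])
      calc (yon S).map m ≫ (yon S).map e1 ≫ x = (yon S).map (m ≫ e1) ≫ x := by
            rw [Functor.map_comp, Category.assoc]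
        _ = (yon S).map q ≫ (yon S).map (u ≫ e1) ≫ x := by
            rw [hm1, Functor.map_comp _ q (u ≫ e1), Category.assoc]
        _ = (yon S).map (q ≫ r1) ≫ a := by rw [hu1', ← Category.assoc, ← Functor.map_comp]
        _ = (yon S).map p ≫ (yon S).map u ≫ (yon S).map e1 ≫ x := by
            rw [← hpq, hu1, Functor.map_comp, Category.assoc]
        _ = (yon S).map (p ≫ u) ≫ (yon S).map e1 ≫ x := by rw [Functor.map_comp, Category.assoc]
    rw [← hm1, this, Category.assoc])
  have hyu : ∀ y' : R ⟶ W, (yon S).map y' ≫ x = a → y' ≫ w = b → r1 ≫ y' = u ≫ e1 := by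
    intro y' h1 h2
    obtain ⟨m, hm1, hm2⟩ : ∃ m : pullback b v ⟶ E, m ≫ e1 = r1 ≫ y' ∧ m ≫ e2 = r2 :=
      ⟨sqE.lift (r1 ≫ y') r2 (by rw [Category.assoc, h2, hr]), sqE.lift_fst _ _ _, sqE.lift_snd _ _ _⟩
    have : m = u := by
      refine lift_ext sq ?_ (by rw [hm2, hu2])
      rw [← Category.assoc, ← Functor.map_comp, hm1, hu1, Functor.map_comp, Category.assoc, h1]
    rw [← hm1, this]
  refine ⟨(yon S).map y, ⟨?_, ?_⟩, fun z hz => ?_⟩
  · apply hG.ext hr1
    rw [← Category.assoc, ← Functor.map_comp, hy, hu1']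
  · rw [← Functor.map_comp]
    congr 1
    rw [← cancel_epi r1, ← Category.assoc, hy, Category.assoc, sqE.w, ← Category.assoc, hu2, hr]
  · obtain ⟨z, rfl⟩ := (yon S).map_surjective z
    congr 1
    rw [← cancel_epi r1, hy]
    exact hyu z hz.1 ((yon S).map_injective (by rw [Functor.map_comp]; exact hz.2))

section Stage

variable {I : Type u} [SmallCategory I] [IsCofiltered I] (D : I ⥤ Over S) (c : Cone D)

/-- A limit preserving morphism: a map from the base change to the limit of a qcqs scheme over a stage is defined at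
some stage. -/
theorem exists_stage_hom [QuasiSeparatedSpace S] {G Y : Sp S} {f : G ⟶ Y} (hf : AffEl f)
    (hc : IsLimit ((Over.forget S).mapCone c)) (hD : ∀ i, IsAffine (D.obj i).left) (i : I) {W : Over S}
    (w : W ⟶ D.obj i) (hWc : CompactSpace W.left) (hWs : QuasiSeparatedSpace W.left) {X : Over S} {r : X ⟶ W}
    {q : X ⟶ c.pt} (sq : IsPullback r q w (c.π.app i)) (x : (yon S).obj X ⟶ G) (y : (yon S).obj W ⟶ Y)
    (hxy : x ≫ f = (yon S).map r ≫ y) :
    ∃ (j : Over i) (x' : (yon S).obj ((sys D i w).obj j) ⟶ G) (ρ : X ⟶ (sys D i w).obj j),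
      ρ ≫ sysFst D i w j = r ∧ ρ ≫ sysSnd D i w j = q ≫ c.π.app j.left ∧ (yon S).map ρ ≫ x' = x ∧
        x' ≫ f = (yon S).map (sysFst D i w j) ≫ y := by
  obtain ⟨hl⟩ := nonempty_isLimit D c i w hc
  have : IsConnected (Over i) := IsCofiltered.isConnected _
  have hl' : IsLimit (cone D c i w) := isLimitOfReflects (Over.forget S) hl
  have hly : IsLimit ((yon S).mapCone (cone D c i w)) := isLimitOfPreserves (yon S) hl'
  let e := sq.isoIsPullback _ _ (cone_isPullback D c i w)
  have he1 : e.hom ≫ coneFst D c i w = r := IsPullback.isoIsPullback_hom_fst _ _ _ _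
  have he2 : e.hom ≫ coneSnd D c i w = q := IsPullback.isoIsPullback_hom_snd _ _ _ _
  have hDa : ∀ {j k : I} (φ : j ⟶ k), IsAffineHom (D.map φ).left := fun {j k} φ => by
    have := hD j
    have := hD k
    infer_instance
  have haff : ∀ j, IsAffineHom (sysFst D i w j).left := fun j =>
    MorphismProperty.of_isPullback ((sys_isPullback D i w j).map (Over.forget S)).flip (hDa j.hom)
  have hcs : ∀ j, CompactSpace ((sys D i w).obj j).left := fun j =>
    QuasiCompact.compactSpace_of_compactSpace (sysFst D i w j).left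
  have hqs : ∀ j, QuasiSeparatedSpace ((sys D i w).obj j).left := fun j =>
    quasiSeparatedSpace_of_quasiSeparated (sysFst D i w j).left
  obtain ⟨j, φ, x', h1, h2⟩ := surj_of_affEl (D := sys D i w ⋙ yon S) hf (fun j => IsAlgSpace.yon_obj _)
    (fun j k φ => by
      have h1 := haff j
      have h2 := haff k
      have h3 : (sys D i w).map φ ≫ sysFst D i w k = sysFst D i w j := sys_map_fst D i w φ
      have h4 : IsAffineHom (((sys D i w).map φ).left ≫ (sysFst D i w k).left) := by
        rw [← Over.comp_left, h3]; exact h1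
      have h5 : IsAffineHom ((sys D i w).map φ).left := IsAffineHom.of_comp _ (sysFst D i w k).left
      exact K597.Affine.isAffineMor_of_repWith ((repWith_yon_map_iff _ _).2 h5))
    hly (Over.mk (𝟙 i)) (K596.QC.isQuasiCompactSp_yon _) ((repWith_diag_yon_iff _ _).2 (by
      have := hqs (Over.mk (𝟙 i))
      have : QuasiSeparated ((sys D i w).obj (Over.mk (𝟙 i))).hom := inferInstance
      exact QuasiSeparated.quasiCompact_diagonal))
    ((yon S).map (sysFst D i w (Over.mk (𝟙 i))) ≫ y) ((yon S).map e.inv ≫ x) (by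
      change _ = (yon S).map ((cone D c i w).π.app (Over.mk (𝟙 i))) ≫ _
      rw [Category.assoc, hxy, ← Category.assoc, ← Functor.map_comp, ← he1, e.inv_hom_id_assoc,
        ← Category.assoc, ← Functor.map_comp, cone_π_fst])
  refine ⟨j, x', e.hom ≫ (cone D c i w).π.app j, ?_, ?_, ?_, ?_⟩
  · rw [Category.assoc, cone_π_fst, he1]
  · rw [Category.assoc, cone_π_snd, ← Category.assoc, he2]
  · change (yon S).map ((cone D c i w).π.app j) ≫ x' = _ at h1
    rw [Functor.map_comp, Category.assoc, h1, ← Category.assoc, ← Functor.map_comp, e.hom_inv_id,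
      CategoryTheory.Functor.map_id, Category.id_comp]
  · rw [h2]
    change (yon S).map ((sys D i w).map φ) ≫ _ = _
    rw [← Category.assoc, ← Functor.map_comp, sys_map_fst]

variable {G : Sp S} {Z T₀ X₀ : Over S} {f : G ⟶ (yon S).obj Z} {c₀ : T₀ ⟶ Z} {p₀ : (yon S).obj X₀ ⟶ G}
  {q₀ : X₀ ⟶ T₀}

/-- A candidate at a stage which is correct over the limit is correct at a later stage. -/
theorem exists_rep_of_stage (hG : IsFpqcSh G) (hc₀ : FqC c₀) (haff : IsAffineHom c₀.left)
    (sq₀ : IsPullback p₀ ((yon S).map q₀) f ((yon S).map c₀)) [LocallyOfFinitePresentation q₀.left]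
    [QuasiCompact q₀.left] [QuasiSeparated q₀.left]
    (hc : IsLimit ((Over.forget S).mapCone c)) (hD : ∀ i, IsAffine (D.obj i).left)
    {n : I} (t : D.obj n ⟶ Z) {W : Over S} {w : W ⟶ D.obj n} [LocallyOfFinitePresentation w.left]
    [QuasiCompact w.left] [QuasiSeparated w.left] {x : (yon S).obj W ⟶ G} (hx : x ≫ f = (yon S).map (w ≫ t))
    {X : Over S} {ρ : X ⟶ W} {q : X ⟶ c.pt} (sqW : IsPullback ρ q w (c.π.app n))
    (sq : IsPullback ((yon S).map ρ ≫ x) ((yon S).map q) f ((yon S).map (c.π.app n ≫ t))) :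
    ∃ k : Over n, IsPullback ((yon S).map (pullback.fst w (D.map k.hom)) ≫ x)
      ((yon S).map (pullback.snd w (D.map k.hom))) f ((yon S).map (D.map k.hom ≫ t)) := by
  have hn := hD n
  let V := pullback t c₀
  let v1 : V ⟶ D.obj n := pullback.fst t c₀
  let v2 : V ⟶ T₀ := pullback.snd t c₀
  have hv : v1 ≫ t = v2 ≫ c₀ := pullback.condition
  have sqVl : IsPullback v1.left v2.left t.left c₀.left :=
    (IsPullback.of_hasPullback t c₀).map (Over.forget S)
  have hV : IsAffine V.left := by
    have : IsAffineHom v1.left := MorphismProperty.of_isPullback sqVl.flip haff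
    exact isAffine_of_isAffineHom v1.left
  have hv1 : FqC v1 := FqC.of_isPullback (IsPullback.of_hasPullback t c₀).flip hc₀
  let Y := pullback v2 q₀
  let y1 : Y ⟶ V := pullback.fst v2 q₀
  let y2 : Y ⟶ X₀ := pullback.snd v2 q₀
  have sqYl : IsPullback y1.left y2.left v2.left q₀.left :=
    (IsPullback.of_hasPullback v2 q₀).map (Over.forget S)
  have hy1 : LocallyOfFinitePresentation y1.left :=
    MorphismProperty.of_isPullback (P := @LocallyOfFinitePresentation) sqYl.flip inferInstance
  have hy2 : QuasiCompact y1.left :=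
    MorphismProperty.of_isPullback (P := @QuasiCompact) sqYl.flip inferInstance
  have hy3 : QuasiSeparated y1.left :=
    MorphismProperty.of_isPullback (P := @QuasiSeparated) sqYl.flip inferInstance
  have sqY : IsPullback ((yon S).map y2 ≫ p₀) ((yon S).map y1) f ((yon S).map (v1 ≫ t)) := by
    have h := ((IsPullback.of_hasPullback v2 q₀).flip.map (yon S)).paste_horiz sq₀
    rw [← Functor.map_comp, ← hv] at h
    exact h
  let W' := pullback w v1
  let w1 : W' ⟶ W := pullback.fst w v1
  let w2 : W' ⟶ V := pullback.snd w v1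
  have hw' : w1 ≫ w = w2 ≫ v1 := pullback.condition
  have sqWl : IsPullback w1.left w2.left w.left v1.left :=
    (IsPullback.of_hasPullback w v1).map (Over.forget S)
  have hw1 : LocallyOfFinitePresentation w2.left :=
    MorphismProperty.of_isPullback (P := @LocallyOfFinitePresentation) sqWl inferInstance
  have hw2 : QuasiCompact w2.left :=
    MorphismProperty.of_isPullback (P := @QuasiCompact) sqWl inferInstance
  have hw3 : QuasiSeparated w2.left :=
    MorphismProperty.of_isPullback (P := @QuasiSeparated) sqWl inferInstance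
  obtain ⟨m, hm1, hm2⟩ := exists_lift sqY ((yon S).map w1 ≫ x) w2 (by
    rw [Category.assoc, hx, ← Functor.map_comp, ← Category.assoc, hw', Category.assoc])
  -- the system
  obtain ⟨hl⟩ := nonempty_isLimit D c n v1 hc
  let E := sys D n v1
  let i₀ : Over n := Over.mk (𝟙 n)
  have hEaff : ∀ k, IsAffine (E.obj k).left := fun k => sys_isAffine D n v1 hV hD k
  have hε : IsIso (sysFst D n v1 i₀) := by
    have h1 := sys_isPullback D n v1 i₀
    have : IsIso (D.map i₀.hom) := by
      change IsIso (D.map (𝟙 n))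
      infer_instance
    exact h1.isIso_fst_of_isIso
  let ε : E.obj i₀ ≅ V := @asIso _ _ _ _ (sysFst D n v1 i₀) hε
  have hεh : ε.hom = sysFst D n v1 i₀ := rfl
  let ce1 := coneFst D c n v1
  let ce2 := coneSnd D c n v1
  have hce : (cone D c n v1).π.app i₀ ≫ ε.hom = ce1 := cone_π_fst D c n v1 i₀
  have sqYi : IsPullback (pullback.fst y1 ce1) (pullback.snd y1 ce1) (y1 ≫ ε.inv)
      ((cone D c n v1).π.app i₀) := by
    have h := IsPullback.of_hasPullback y1 ce1
    refine IsPullback.of_iso h (Iso.refl _) (Iso.refl _) (Iso.refl _) ε.symm (by simp) (by simp) (by simp) ?_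
    rw [← hce]
    simp
  have sqWi : IsPullback (pullback.fst m (pullback.fst y1 ce1)) (pullback.snd m (pullback.fst y1 ce1)) m
      (pullback.fst y1 ce1) := IsPullback.of_hasPullback _ _
  have sq1 : IsPullback ((yon S).map (pullback.fst y1 ce1) ≫ (yon S).map y2 ≫ p₀)
      ((yon S).map (pullback.snd y1 ce1)) f ((yon S).map (ce1 ≫ v1 ≫ t)) := by
    have h := ((IsPullback.of_hasPullback y1 ce1).map (yon S)).paste_horiz sqY
    rw [← Functor.map_comp] at h
    exact h
  let b1 := pullback.fst m (pullback.fst y1 ce1)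
  let b2 := pullback.snd m (pullback.fst y1 ce1)
  have sq2 : IsPullback ((yon S).map (b1 ≫ w1) ≫ x) ((yon S).map (b2 ≫ pullback.snd y1 ce1)) f
      ((yon S).map (ce1 ≫ v1 ≫ t)) := by
    have h1 := sqWi.paste_vert (IsPullback.of_hasPullback y1 ce1)
    rw [hm2] at h1
    have h2 := h1.paste_horiz (IsPullback.of_hasPullback w v1)
    have hce2 : ce1 ≫ v1 = ce2 ≫ c.π.app n := (cone_isPullback D c n v1).w
    obtain ⟨l, hl1, hl2⟩ : ∃ l : pullback m (pullback.fst y1 ce1) ⟶ X, l ≫ ρ = b1 ≫ w1 ∧
        l ≫ q = (b2 ≫ pullback.snd y1 ce1) ≫ ce2 :=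
      ⟨sqW.lift (b1 ≫ w1) ((b2 ≫ pullback.snd y1 ce1) ≫ ce2) (by
        rw [Category.assoc _ ce2, ← hce2]; exact h2.w), sqW.lift_fst _ _ _, sqW.lift_snd _ _ _⟩
    have h3 : IsPullback (l ≫ ρ) (b2 ≫ pullback.snd y1 ce1) w (ce2 ≫ c.π.app n) := by
      rw [hl1, ← hce2]
      exact h2
    have h4 : IsPullback l (b2 ≫ pullback.snd y1 ce1) q ce2 := IsPullback.of_right h3 hl2 sqW
    have h5 := (h4.map (yon S)).paste_horiz sq
    rw [← Category.assoc, ← Functor.map_comp, ← Functor.map_comp, hl1, ← Category.assoc ce2, ← hce2,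
      Category.assoc] at h5
    exact h5
  have hb : IsIso b2 := by
    let e := sq2.isoIsPullback _ _ sq1
    have he : (yon S).map b2 = e.hom := by
      apply sq1.hom_ext
      · rw [IsPullback.isoIsPullback_hom_fst, ← Category.assoc, ← Functor.map_comp]
        change (yon S).map (pullback.snd m (pullback.fst y1 ce1) ≫ pullback.fst y1 ce1) ≫ _ = _
        rw [← pullback.condition, Functor.map_comp, Category.assoc, hm1, ← Category.assoc,
          ← Functor.map_comp]
      · rw [IsPullback.isoIsPullback_hom_snd, Functor.map_comp]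
    have : IsIso ((yon S).map b2) := by rw [he]; infer_instance
    exact isIso_of_reflects_iso b2 (yon S)
  have hbl : IsIso b2.left := inferInstanceAs (IsIso ((Over.forget S).map b2))
  have hDa : ∀ (j k : Over n) (φ : j ⟶ k), IsAffineHom ((E ⋙ Over.forget S).map φ) := fun j k φ => by
    have : IsAffine ((E ⋙ Over.forget S).obj j) := hEaff j
    have : IsAffine ((E ⋙ Over.forget S).obj k) := hEaff k
    infer_instance
  have hEi : IsAffine ((E ⋙ Over.forget S).obj i₀) := hEaff i₀
  have hεi : IsIso ε.inv.left := inferInstanceAs (IsIso ((Over.forget S).map ε.inv))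
  have g1 : LocallyOfFinitePresentation (y1 ≫ ε.inv).left :=
    inferInstanceAs (LocallyOfFinitePresentation (y1.left ≫ ε.inv.left))
  have g2 : QuasiCompact (y1 ≫ ε.inv).left := inferInstanceAs (QuasiCompact (y1.left ≫ ε.inv.left))
  have g3 : QuasiSeparated (y1 ≫ ε.inv).left := inferInstanceAs (QuasiSeparated (y1.left ≫ ε.inv.left))
  have e0 : m.left ≫ (y1 ≫ ε.inv).left = w2.left ≫ ε.inv.left := by
    rw [← Over.comp_left, ← Category.assoc, hm2, Over.comp_left]
  have g4 : LocallyOfFinitePresentation (m.left ≫ (y1 ≫ ε.inv).left) := by rw [e0]; infer_instance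
  have g5 : QuasiCompact (m.left ≫ (y1 ≫ ε.inv).left) := by rw [e0]; infer_instance
  have g6 : QuasiSeparated (m.left ≫ (y1 ≫ ε.inv).left) := by rw [e0]; infer_instance
  obtain ⟨k, φ, Xk, Yk, fk, gk, pY, pX, hYk, hXk, hfk⟩ := Groth.Agent.S2578.result (E ⋙ Over.forget S)
    ((Over.forget S).mapCone (cone D c n v1)) hl i₀ m.left (y1 ≫ ε.inv).left b2.left
    (pullback.snd y1 ce1).left (pullback.fst y1 ce1).left b1.left (sqYi.map (Over.forget S))
    (sqWi.map (Over.forget S))
  -- back to schemes over `S`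
  let Yk' : Over S := Over.mk (gk ≫ (E.obj k).hom)
  let gk' : Yk' ⟶ E.obj k := Over.homMk gk rfl
  have hYkw : pY ≫ (y1 ≫ ε.inv).left = gk ≫ (E.map φ).left := hYk.w
  let pY' : Yk' ⟶ Y := Over.homMk pY (by
    have h1 : Y.hom = (y1 ≫ ε.inv).left ≫ (E.obj i₀).hom := (Over.w (y1 ≫ ε.inv)).symm
    rw [h1, ← Category.assoc, hYkw, Category.assoc, Over.w]
    rfl)
  have sqYk : IsPullback pY' gk' (y1 ≫ ε.inv) (E.map φ) := K628.Core.isPullback_of_left hYk
  let Xk' : Over S := Over.mk (fk ≫ Yk'.hom)
  let fk' : Xk' ⟶ Yk' := Over.homMk fk rfl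
  have hXkw : pX ≫ m.left = fk ≫ pY := hXk.w
  let pX' : Xk' ⟶ W' := Over.homMk pX (by
    have h1 : W'.hom = m.left ≫ Y.hom := (Over.w m).symm
    have h2 : Yk'.hom = pY ≫ Y.hom := (Over.w pY').symm
    change pX ≫ W'.hom = fk ≫ Yk'.hom
    rw [h1, h2, ← Category.assoc, hXkw, Category.assoc])
  have sqXk : IsPullback pX' fk' m pY' := K628.Core.isPullback_of_left hXk
  have hfk' : IsIso fk' := by
    have : IsIso ((Over.forget S).map fk') := hfk
    exact isIso_of_reflects_iso fk' (Over.forget S)
  have sqYk' : IsPullback pY' gk' y1 (sysFst D n v1 k) := by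
    refine IsPullback.of_iso sqYk (Iso.refl _) (Iso.refl _) (Iso.refl _) ε (by simp) (by simp) (by simp) ?_
    rw [hεh]
    simpa using (sys_map_fst D n v1 φ)
  have sqX1 : IsPullback (pX' ≫ w1) (fk' ≫ gk') w (sysFst D n v1 k ≫ v1) := by
    have h1 := sqXk.paste_vert sqYk'
    rw [hm2] at h1
    exact h1.paste_horiz (IsPullback.of_hasPullback w v1)
  have hs : sysFst D n v1 k ≫ v1 = sysSnd D n v1 k ≫ D.map k.hom := (sys_isPullback D n v1 k).w
  obtain ⟨l, hl1, hl2⟩ : ∃ l : Xk' ⟶ pullback w (D.map k.hom), l ≫ pullback.fst w (D.map k.hom) = pX' ≫ w1 ∧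
      l ≫ pullback.snd w (D.map k.hom) = (fk' ≫ gk') ≫ sysSnd D n v1 k :=
    ⟨pullback.lift (pX' ≫ w1) ((fk' ≫ gk') ≫ sysSnd D n v1 k) (by
      rw [sqX1.w, hs, ← Category.assoc]), pullback.lift_fst _ _ _, pullback.lift_snd _ _ _⟩
  have sqE : IsPullback l (fk' ≫ gk') (pullback.snd w (D.map k.hom)) (sysSnd D n v1 k) := by
    refine IsPullback.of_right ?_ hl2 (IsPullback.of_hasPullback w (D.map k.hom))
    rw [hl1, ← hs]
    exact sqX1
  refine ⟨k, isPullback_of_fpqc hG ?_ (FqC.of_isPullback (sys_isPullback D n v1 k) hv1) sqE ?_⟩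
  · rw [Category.assoc, hx, ← Functor.map_comp, ← Category.assoc, pullback.condition, Category.assoc]
  · have h1 := (sqYk'.map (yon S)).paste_horiz sqY
    have h2 := IsPullback.of_iso h1 (asIso ((yon S).map fk')).symm (Iso.refl _) (Iso.refl _) (Iso.refl _)
      (fst' := (yon S).map fk' ≫ (yon S).map pY' ≫ (yon S).map y2 ≫ p₀)
      (snd' := (yon S).map fk' ≫ (yon S).map gk') (f' := f)
      (g' := (yon S).map (sysFst D n v1 k) ≫ (yon S).map (v1 ≫ t)) (by simp) (by simp) (by simp) (by simp)
    have e1 : (yon S).map fk' ≫ (yon S).map pY' ≫ (yon S).map y2 ≫ p₀ =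
        (yon S).map l ≫ (yon S).map (pullback.fst w (D.map k.hom)) ≫ x := by
      rw [← Category.assoc, ← Functor.map_comp, ← sqXk.w, Functor.map_comp, Category.assoc, hm1,
        ← Category.assoc, ← Category.assoc, ← Functor.map_comp, ← Functor.map_comp, hl1]
    rw [e1, ← Functor.map_comp, ← Functor.map_comp, ← Category.assoc (sysFst D n v1 k), hs,
      Category.assoc] at h2
    exact h2

/-- **Limit theorem.** If `G ×_Z T₀` is a scheme of finite presentation over `T₀` for some affine fpqc `T₀ ⟶ Z`, then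
representability of `G` over the limit of a system of affine schemes over `Z` comes from a stage. -/
theorem exists_rep [QuasiSeparatedSpace S] (hG : IsFpqcSh G) (hc₀ : FqC c₀) (haff : IsAffineHom c₀.left)
    (sq₀ : IsPullback p₀ ((yon S).map q₀) f ((yon S).map c₀)) [LocallyOfFinitePresentation q₀.left]
    [QuasiCompact q₀.left] [QuasiSeparated q₀.left]
    (hc : IsLimit ((Over.forget S).mapCone c)) (hD : ∀ i, IsAffine (D.obj i).left)
    (i₀ : I) (τ : D.obj i₀ ⟶ Z) {X : Over S} {p : (yon S).obj X ⟶ G} {q : X ⟶ c.pt}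
    (sq : IsPullback p ((yon S).map q) f ((yon S).map (c.π.app i₀ ≫ τ))) [LocallyOfFinitePresentation q.left]
    [QuasiCompact q.left] [QuasiSeparated q.left] :
    ∃ (j : I) (φ : j ⟶ i₀) (Y : Over S) (y : (yon S).obj Y ⟶ G) (r : Y ⟶ D.obj j),
      IsPullback y ((yon S).map r) f ((yon S).map (D.map φ ≫ τ)) ∧ LocallyOfFinitePresentation r.left ∧
        QuasiCompact r.left ∧ QuasiSeparated r.left := by
  have hDa : ∀ (j k : I) (φ : j ⟶ k), IsAffineHom ((D ⋙ Over.forget S).map φ) := fun j k φ => by
    have : IsAffine ((D ⋙ Over.forget S).obj j) := hD j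
    have : IsAffine ((D ⋙ Over.forget S).obj k) := hD k
    infer_instance
  have hDc : ∀ j, CompactSpace ((D ⋙ Over.forget S).obj j) := fun j => by
    have : IsAffine ((D ⋙ Over.forget S).obj j) := hD j
    infer_instance
  have hDs : ∀ j, QuasiSeparatedSpace ((D ⋙ Over.forget S).obj j) := fun j => by
    have : IsAffine ((D ⋙ Over.forget S).obj j) := hD j
    infer_instance
  obtain ⟨i, Xi, fi, g, h1, h2, h3, h4⟩ := Groth.Agent.S0591.result (D ⋙ Over.forget S)
    ((Over.forget S).mapCone c) hc X.left q.left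
  let Wi : Over S := Over.mk (fi ≫ (D.obj i).hom)
  let wi : Wi ⟶ D.obj i := Over.homMk fi rfl
  have hw : g ≫ fi = q.left ≫ (c.π.app i).left := h4.w
  let ri : X ⟶ Wi := Over.homMk g (by
    change g ≫ fi ≫ (D.obj i).hom = X.hom
    rw [← Category.assoc, hw, Category.assoc, Over.w]
    exact Over.w q)
  have sqi : IsPullback ri q wi (c.π.app i) := K628.Core.isPullback_of_left h4
  have h1' : LocallyOfFinitePresentation wi.left := h1
  have h2' : QuasiCompact wi.left := h2
  have h3' : QuasiSeparated wi.left := h3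
  let m := IsCofiltered.min i i₀
  let α : m ⟶ i := IsCofiltered.minToLeft i i₀
  let β : m ⟶ i₀ := IsCofiltered.minToRight i i₀
  let W := pullback wi (D.map α)
  let w : W ⟶ D.obj m := pullback.snd wi (D.map α)
  have hwl := (IsPullback.of_hasPullback wi (D.map α)).map (Over.forget S)
  have k1 : LocallyOfFinitePresentation w.left :=
    MorphismProperty.of_isPullback (P := @LocallyOfFinitePresentation) hwl h1'
  have k2 : QuasiCompact w.left := MorphismProperty.of_isPullback (P := @QuasiCompact) hwl h2'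
  have k3 : QuasiSeparated w.left := MorphismProperty.of_isPullback (P := @QuasiSeparated) hwl h3'
  obtain ⟨r, hr1, hr2⟩ : ∃ r : X ⟶ W, r ≫ pullback.fst wi (D.map α) = ri ∧ r ≫ w = q ≫ c.π.app m :=
    ⟨pullback.lift ri (q ≫ c.π.app m) (by rw [Category.assoc, c.w, sqi.w]), pullback.lift_fst _ _ _,
      pullback.lift_snd _ _ _⟩
  have sqr : IsPullback r q w (c.π.app m) := by
    refine IsPullback.of_right ?_ hr2 (IsPullback.of_hasPullback wi (D.map α))
    rw [hr1, c.w]
    exact sqi
  have hDm := hD m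
  have hf : AffEl f := affEl_of_fpqc hG hc₀ haff sq₀
  have hWc : CompactSpace W.left := QuasiCompact.compactSpace_of_compactSpace w.left
  have hWs : QuasiSeparatedSpace W.left := quasiSeparatedSpace_of_quasiSeparated w.left
  obtain ⟨j, x, ρ, hρ1, hρ2, hx1, hx2⟩ := exists_stage_hom D c hf hc hD m w hWc hWs sqr p
    ((yon S).map (w ≫ D.map β ≫ τ)) (by
      rw [← Functor.map_comp, ← Category.assoc, hr2, Category.assoc, ← Category.assoc (c.π.app m), c.w,
        Functor.map_comp, sq.w])
  have hwl' := (sys_isPullback D m w j).map (Over.forget S)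
  have l1 : LocallyOfFinitePresentation (sysSnd D m w j).left :=
    MorphismProperty.of_isPullback (P := @LocallyOfFinitePresentation) hwl' k1
  have l2 : QuasiCompact (sysSnd D m w j).left := MorphismProperty.of_isPullback (P := @QuasiCompact) hwl' k2
  have l3 : QuasiSeparated (sysSnd D m w j).left :=
    MorphismProperty.of_isPullback (P := @QuasiSeparated) hwl' k3
  have sqW : IsPullback ρ q (sysSnd D m w j) (c.π.app j.left) := by
    refine IsPullback.of_right ?_ hρ2 (sys_isPullback D m w j)
    rw [hρ1, c.w]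
    exact sqr
  have ht : c.π.app j.left ≫ D.map j.hom ≫ D.map β ≫ τ = c.π.app i₀ ≫ τ := by
    rw [← Category.assoc, ← Category.assoc, c.w, c.w]
  obtain ⟨k, hk⟩ := exists_rep_of_stage D c hG hc₀ haff sq₀ hc hD (D.map j.hom ≫ D.map β ≫ τ) (x := x) (by
    rw [hx2, ← Functor.map_comp, ← Category.assoc, (sys_isPullback D m w j).w, Category.assoc]) sqW (by
    rw [hx1, ht]
    exact sq)
  have hkl := (IsPullback.of_hasPullback (sysSnd D m w j) (D.map k.hom)).map (Over.forget S)
  refine ⟨k.left, k.hom ≫ j.hom ≫ β, pullback (sysSnd D m w j) (D.map k.hom),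
    (yon S).map (pullback.fst (sysSnd D m w j) (D.map k.hom)) ≫ x,
    pullback.snd (sysSnd D m w j) (D.map k.hom), ?_,
    MorphismProperty.of_isPullback (P := @LocallyOfFinitePresentation) hkl l1,
    MorphismProperty.of_isPullback (P := @QuasiCompact) hkl l2,
    MorphismProperty.of_isPullback (P := @QuasiSeparated) hkl l3⟩
  have e : D.map (k.hom ≫ j.hom ≫ β) ≫ τ = D.map k.hom ≫ D.map j.hom ≫ D.map β ≫ τ := by
    rw [D.map_comp, D.map_comp, Category.assoc, Category.assoc]
  rw [e]
  exact hk

end Stage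

end K634.FpqcLim
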