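import Groth.Agent.AlgSp.K634.FpqcLim
import Groth.Agent.AlgSp.K651.Pinch
import Groth.Agent.S2580

/-!
# Open subsheaves, fpqc descent and limits

* `repWith_of_fpqc` : being an open immersion descends along fpqc covers.
* `OpnIm f t y r` : `h_Y ⟶ G ×_Z D` is an open immersion.
* `exists_opn_of_stage`, `exists_opn` : open subsheaves over the limit of a system of affine schemes come from a stage.
-/

set_option autoImplicit false
set_option backward.isDefEq.respectTransparency false
universe u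
open CategoryTheory CategoryTheory.Limits AlgebraicGeometry Opposite
open AlgSp K628.Fqc K651.FpqcSh K605.SqEl K605.LfpLim K602.BC K602.LPDesc K634.FpqcLim K613.Basic

namespace K634.FpqcOpn

variable {S : Scheme.{u}}

/-- Being an open immersion descends along an fpqc cover. -/
theorem repWith_of_fpqc {P : Sp S} (hP : IsFpqcSh P) {D V Y W E : Over S} {f' : P ⟶ (yon S).obj D}
    {v : V ⟶ D} (hv : FqC v) {pY : (yon S).obj Y ⟶ P} {y : Y ⟶ V} (sqY : IsPullback pY ((yon S).map y) f' ((yon S).map v))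
    {x : (yon S).obj W ⟶ P} {e1 : E ⟶ W} {m : E ⟶ Y} (sqE : IsPullback ((yon S).map e1) ((yon S).map m) x pY)
    (hm : IsOpenImmersion m.left) : RepWith @IsOpenImmersion x := by
  obtain ⟨w, hw⟩ := (yon S).map_surjective (x ≫ f')
  have sqW : IsPullback e1 (m ≫ y) w v := by
    have h1 := sqE.paste_vert sqY
    rw [← hw, ← Functor.map_comp] at h1
    exact IsPullback.of_map (yon S) (by
      apply (yon S).map_injective
      rw [Functor.map_comp, Functor.map_comp]; exact h1.w) h1
  have he1 : FqC e1 := FqC.of_isPullback sqW.flip hv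
  have hmm : Mono m := by
    have : Mono ((Over.forget S).map m) := inferInstanceAs (Mono m.left)
    exact (Over.forget S).mono_of_mono_map this
  let O : Y.left.Opens := m.left.opensRange
  have hOr : (O : Set Y.left) = Set.range m.left := rfl
  have hO : Stable pY (O : Set Y.left) := by
    have h1 := K651.Pinch.stable_image sqE Set.univ
    rw [Set.preimage_univ, Set.image_univ] at h1
    exact h1
  have hQ := repWith_opn hv sqY O hO
  -- `x` is a monomorphism
  have hxm : ∀ (R : Over S) (a b : R ⟶ W), (yon S).map a ≫ x = (yon S).map b ≫ x → a = b := by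
    intro R a b hab
    have haw : a ≫ w = b ≫ w := by
      apply (yon S).map_injective
      rw [Functor.map_comp, Functor.map_comp, hw, ← Category.assoc, hab, Category.assoc]
    have hψ : FqC (pullback.fst (a ≫ w) v) := hv.pullback_fst _
    obtain ⟨a', ha1, ha2⟩ : ∃ a' : pullback (a ≫ w) v ⟶ E, a' ≫ e1 = pullback.fst (a ≫ w) v ≫ a ∧
        a' ≫ m ≫ y = pullback.snd (a ≫ w) v :=
      ⟨sqW.lift (pullback.fst (a ≫ w) v ≫ a) (pullback.snd (a ≫ w) v) (by
        rw [Category.assoc, pullback.condition]), sqW.lift_fst _ _ _, sqW.lift_snd _ _ _⟩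
    obtain ⟨b', hb1, hb2⟩ : ∃ b' : pullback (a ≫ w) v ⟶ E, b' ≫ e1 = pullback.fst (a ≫ w) v ≫ b ∧
        b' ≫ m ≫ y = pullback.snd (a ≫ w) v :=
      ⟨sqW.lift (pullback.fst (a ≫ w) v ≫ b) (pullback.snd (a ≫ w) v) (by
        rw [Category.assoc, ← haw, pullback.condition]), sqW.lift_fst _ _ _, sqW.lift_snd _ _ _⟩
    have h3 : a' ≫ m = b' ≫ m := by
      apply (yon S).map_injective
      apply sqY.hom_ext
      · rw [Functor.map_comp, Functor.map_comp, Category.assoc, Category.assoc, ← sqE.w, ← Category.assoc,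
          ← Category.assoc, ← Functor.map_comp, ← Functor.map_comp, ha1, hb1, Functor.map_comp,
          Functor.map_comp, Category.assoc, Category.assoc, hab]
      · rw [← Functor.map_comp, ← Functor.map_comp, Category.assoc, Category.assoc, ha2, hb2]
    have h4 : a' = b' := by rw [← cancel_mono m, h3]
    have := hψ.epi
    rw [← cancel_epi (pullback.fst (a ≫ w) v), ← ha1, ← hb1, h4]
  -- factorization through the open subsheaf
  have hprW : (opn pY (O : Set Y.left)).pr W x :=
    opn_pr_of_cover _ hO e1 he1.surj m x sqE.w.symm (le_of_eq hOr.symm)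
  obtain ⟨x', hx'⟩ := ((opn pY (O : Set Y.left)).exists_lift_iff x).2 hprW
  have hiso : IsIso x' := by
    refine isIso_of_bijective fun R a => ?_
    have key : ∃ l : R ⟶ W, (yon S).map l ≫ x' = a := by
      obtain ⟨R', ψ, v₀, hψ, hv₀, -⟩ := exists_cover hv sqY (a ≫ (opn pY (O : Set Y.left)).ι)
      have h6 : Set.range v₀.left ⊆ O := by
        rw [← opn_pr_iff (p := pY) _ hO, hv₀, ← Category.assoc]
        exact (opn pY (O : Set Y.left)).pr_comp _
      have h7 : IsOpenImmersion.lift m.left v₀.left h6 ≫ m.left = v₀.left := IsOpenImmersion.lift_fac _ _ _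
      let v₁ : R' ⟶ E := Over.homMk (IsOpenImmersion.lift m.left v₀.left h6) (by
        rw [← Over.w m, ← Category.assoc, h7, Over.w])
      have hv₁ : v₁ ≫ m = v₀ := by
        ext1
        exact h7
      have h8 : (yon S).map (v₁ ≫ e1) ≫ x = (yon S).map ψ ≫ a ≫ (opn pY (O : Set Y.left)).ι := by
        rw [Functor.map_comp, Category.assoc, sqE.w, ← Category.assoc, ← Functor.map_comp, hv₁, hv₀]
      obtain ⟨l, hl, -⟩ := hψ.desc (v₁ ≫ e1) (fun R'' p q hpq => by
        apply hxm
        rw [Functor.map_comp, Category.assoc, h8, Functor.map_comp _ q, Category.assoc, h8, ← Category.assoc,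
          ← Functor.map_comp, hpq, Functor.map_comp, Category.assoc])
      refine ⟨l, ?_⟩
      rw [← cancel_mono (opn pY (O : Set Y.left)).ι, Category.assoc, hx']
      apply hP.ext hψ
      rw [← Category.assoc, ← Functor.map_comp, hl, h8]
    obtain ⟨l, hl⟩ := key
    refine ⟨(yon S).map l, hl, fun b hb => ?_⟩
    obtain ⟨b, rfl⟩ := (yon S).map_surjective b
    congr 1
    apply hxm
    have h5 : (yon S).map b ≫ x' = (yon S).map l ≫ x' := by rw [hl]; exact hb
    rw [← hx', ← Category.assoc, h5, Category.assoc]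
  rw [← hx']
  exact (MorphismProperty.cancel_left_of_respectsIso (RepWith @IsOpenImmersion) _ _).2 hQ

/-- The map `h_Y ⟶ G ×_Z D` given by `y` and `r` is an open immersion. -/
def OpnIm {G : Sp S} {Z D Y : Over S} (f : G ⟶ (yon S).obj Z) (t : D ⟶ Z) (y : (yon S).obj Y ⟶ G) (r : Y ⟶ D) :
    Prop :=
  ∃ (P : Sp S) (a : P ⟶ G) (b : P ⟶ (yon S).obj D) (l : (yon S).obj Y ⟶ P), IsPullback a b f ((yon S).map t) ∧
    l ≫ a = y ∧ l ≫ b = (yon S).map r ∧ RepWith @IsOpenImmersion l

section OpnIm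

variable {G : Sp S} {Z D Y : Over S} {f : G ⟶ (yon S).obj Z} {t : D ⟶ Z} {y : (yon S).obj Y ⟶ G} {r : Y ⟶ D}

theorem OpnIm.w (h : OpnIm f t y r) : y ≫ f = (yon S).map (r ≫ t) := by
  obtain ⟨P, a, b, l, sq, h1, h2, -⟩ := h
  rw [← h1, Category.assoc, sq.w, ← Category.assoc, h2, Functor.map_comp]

theorem OpnIm.all (h : OpnIm f t y r) {P : Sp S} {a : P ⟶ G} {b : P ⟶ (yon S).obj D}
    (sq : IsPullback a b f ((yon S).map t)) {l : (yon S).obj Y ⟶ P} (h1 : l ≫ a = y) (h2 : l ≫ b = (yon S).map r) :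
    RepWith @IsOpenImmersion l := by
  obtain ⟨P', a', b', l', sq', h1', h2', h3⟩ := h
  have h4 : l = l' ≫ (sq'.isoIsPullback _ _ sq).hom := by
    apply sq.hom_ext
    · rw [Category.assoc, IsPullback.isoIsPullback_hom_fst, h1, h1']
    · rw [Category.assoc, IsPullback.isoIsPullback_hom_snd, h2, h2']
  rw [h4]
  exact K606.RepWithBasic.postcomp_iso _ h3

theorem OpnIm.of_isPullback (h : OpnIm f t y r) {D' Y' : Over S} {t' : D' ⟶ D} {ρ : Y' ⟶ Y} {r' : Y' ⟶ D'}
    (sq : IsPullback ρ r' r t') : OpnIm f (t' ≫ t) ((yon S).map ρ ≫ y) r' := by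
  obtain ⟨P, a, b, l, sqP, h1, h2, h3⟩ := h
  have sq1 : IsPullback (pullback.fst b ((yon S).map t')) (pullback.snd b ((yon S).map t')) b ((yon S).map t') :=
    IsPullback.of_hasPullback _ _
  have sq2 := sq1.flip.paste_vert sqP.flip
  rw [← Functor.map_comp] at sq2
  have sqy := sq.map (yon S)
  have hw : ((yon S).map ρ ≫ l) ≫ b = (yon S).map r' ≫ (yon S).map t' := by
    rw [Category.assoc, h2, sqy.w]
  refine ⟨_, _, _, sq1.lift _ _ hw, sq2.flip, ?_, sq1.lift_snd _ _ _, ?_⟩
  · rw [← Category.assoc, sq1.lift_fst, Category.assoc, h1]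
  · have sq3 : IsPullback ((yon S).map ρ) (sq1.lift _ _ hw) l (pullback.fst b ((yon S).map t')) := by
      refine IsPullback.of_bot (h₃₁ := (yon S).map t') (v₂₁ := pullback.snd b ((yon S).map t')) (v₂₂ := b) ?_
        (sq1.lift_fst _ _ hw).symm sq1
      rw [sq1.lift_snd, h2]
      exact sqy
    exact K606.RepWithBasic.of_isPullback sq3 h3

theorem OpnIm.scheme (h : OpnIm f t y r) {Y₁ : Over S} {p₁ : (yon S).obj Y₁ ⟶ G} {y₁ : Y₁ ⟶ D}
    (sq : IsPullback p₁ ((yon S).map y₁) f ((yon S).map t)) {m : Y ⟶ Y₁} (h1 : (yon S).map m ≫ p₁ = y)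
    (h2 : m ≫ y₁ = r) : IsOpenImmersion m.left :=
  (repWith_yon_map_iff _ _).1 (h.all sq h1 (by rw [← Functor.map_comp, h2]))

theorem OpnIm.of_scheme {Y₁ : Over S} {p₁ : (yon S).obj Y₁ ⟶ G} {y₁ : Y₁ ⟶ D}
    (sq : IsPullback p₁ ((yon S).map y₁) f ((yon S).map t)) (m : Y ⟶ Y₁) (hm : IsOpenImmersion m.left) :
    OpnIm f t ((yon S).map m ≫ p₁) (m ≫ y₁) :=
  ⟨_, _, _, (yon S).map m, sq, rfl, by rw [Functor.map_comp], (repWith_yon_map_iff _ _).2 hm⟩

/-- Fpqc descent of `OpnIm`. -/
theorem OpnIm.of_fpqc (hG : IsFpqcSh G) (hx : y ≫ f = (yon S).map (r ≫ t)) {V E Y₁ : Over S} {v : V ⟶ D}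
    (hv : FqC v) {e1 : E ⟶ Y} {e2 : E ⟶ V} (sqE : IsPullback e1 e2 r v)
    {pY : (yon S).obj Y₁ ⟶ G} {y₁ : Y₁ ⟶ V} (sqY : IsPullback pY ((yon S).map y₁) f ((yon S).map (v ≫ t)))
    (h : OpnIm f (v ≫ t) ((yon S).map e1 ≫ y) e2) : OpnIm f t y r := by
  have sqP : IsPullback (pullback.fst f ((yon S).map t)) (pullback.snd f ((yon S).map t)) f ((yon S).map t) :=
    IsPullback.of_hasPullback _ _
  rw [Functor.map_comp] at hx
  have hw : pY ≫ f = (yon S).map (y₁ ≫ v) ≫ (yon S).map t := by
    rw [sqY.w, ← Functor.map_comp, ← Functor.map_comp, Category.assoc]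
  have sqY' : IsPullback (sqP.lift _ _ hw) ((yon S).map y₁) (pullback.snd f ((yon S).map t)) ((yon S).map v) := by
    refine IsPullback.of_right ?_ (by rw [sqP.lift_snd, Functor.map_comp]) sqP
    rw [sqP.lift_fst, ← Functor.map_comp]
    exact sqY
  obtain ⟨m, hm⟩ := (yon S).map_surjective (sqY.lift _ _ (by rw [h.w, Functor.map_comp] :
    ((yon S).map e1 ≫ y) ≫ f = (yon S).map e2 ≫ (yon S).map (v ≫ t)))
  have hm1 : (yon S).map m ≫ pY = (yon S).map e1 ≫ y := by rw [hm, sqY.lift_fst]
  have hm2 : m ≫ y₁ = e2 := by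
    apply (yon S).map_injective
    rw [Functor.map_comp, hm, sqY.lift_snd]
  have hmo : IsOpenImmersion m.left := h.scheme sqY hm1 hm2
  refine ⟨_, _, _, sqP.lift _ _ hx, sqP, sqP.lift_fst _ _ _, sqP.lift_snd _ _ _, ?_⟩
  refine repWith_of_fpqc (hG.of_isPullback sqP (isFpqcSh_yon _) (isFpqcSh_yon _)) hv sqY' (e1 := e1) (m := m) ?_ hmo
  refine IsPullback.of_bot (h₃₁ := (yon S).map v) (v₂₁ := (yon S).map y₁) (v₂₂ := pullback.snd f ((yon S).map t)) ?_
    ?_ sqY'
  · rw [sqP.lift_snd, ← Functor.map_comp, hm2]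
    exact sqE.map (yon S)
  · apply sqP.hom_ext
    · rw [Category.assoc, Category.assoc, sqP.lift_fst, sqP.lift_fst, hm1]
    · rw [Category.assoc, Category.assoc, sqP.lift_snd, sqP.lift_snd, ← Functor.map_comp, ← Functor.map_comp,
        ← Category.assoc, hm2, sqE.w]

end OpnIm

section Stage

variable {I : Type u} [SmallCategory I] [IsCofiltered I] (D : I ⥤ Over S) (c : Cone D)
variable {G : Sp S} {Z T₀ X₀ : Over S} {f : G ⟶ (yon S).obj Z} {c₀ : T₀ ⟶ Z} {p₀ : (yon S).obj X₀ ⟶ G}
  {q₀ : X₀ ⟶ T₀}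

/-- A candidate at a stage which is an open subsheaf over the limit is an open subsheaf at a later stage. -/
theorem exists_opn_of_stage (hG : IsFpqcSh G) (hc₀ : FqC c₀) (haff : IsAffineHom c₀.left)
    (sq₀ : IsPullback p₀ ((yon S).map q₀) f ((yon S).map c₀)) [LocallyOfFinitePresentation q₀.left]
    [QuasiSeparated q₀.left]
    (hc : IsLimit ((Over.forget S).mapCone c)) (hD : ∀ i, IsAffine (D.obj i).left)
    {n : I} (t : D.obj n ⟶ Z) {W : Over S} {w : W ⟶ D.obj n} [LocallyOfFinitePresentation w.left]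
    [QuasiCompact w.left] [QuasiSeparated w.left] {x : (yon S).obj W ⟶ G} (hx : x ≫ f = (yon S).map (w ≫ t))
    {X : Over S} {ρ : X ⟶ W} {q : X ⟶ c.pt} (sqW : IsPullback ρ q w (c.π.app n))
    (ho : OpnIm f (c.π.app n ≫ t) ((yon S).map ρ ≫ x) q) :
    ∃ k : Over n, OpnIm f (D.map k.hom ≫ t) ((yon S).map (pullback.fst w (D.map k.hom)) ≫ x)
      (pullback.snd w (D.map k.hom)) := by
  have hn := hD n
  let V := pullback t c₀
  let v1 : V ⟶ D.obj n := pullback.fst t c₀
  let v2 : V ⟶ T₀ := pullback.snd t c₀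
  have hv : v1 ≫ t = v2 ≫ c₀ := pullback.condition
  have sqVl : IsPullback v1.left v2.left t.left c₀.left :=
    (IsPullback.of_hasPullback t c₀).map (Over.forget S)
  have hV : IsAffine V.left := by
    have : IsAffineHom v1.left := MorphismProperty.of_isPullback sqVl.flip haff
    exact isAffine_of_isAffineHom v1.left
  have hv1 : FqC v1 := FqC.of_isPullback (IsPullback.of_hasPullback t c₀).flip hc₀
  let Y := pullback v2 q₀
  let y1 : Y ⟶ V := pullback.fst v2 q₀
  let y2 : Y ⟶ X₀ := pullback.snd v2 q₀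
  have sqYl : IsPullback y1.left y2.left v2.left q₀.left :=
    (IsPullback.of_hasPullback v2 q₀).map (Over.forget S)
  have hy1 : LocallyOfFinitePresentation y1.left :=
    MorphismProperty.of_isPullback (P := @LocallyOfFinitePresentation) sqYl.flip inferInstance
  have hy3 : QuasiSeparated y1.left :=
    MorphismProperty.of_isPullback (P := @QuasiSeparated) sqYl.flip inferInstance
  have sqY : IsPullback ((yon S).map y2 ≫ p₀) ((yon S).map y1) f ((yon S).map (v1 ≫ t)) := by
    have h := ((IsPullback.of_hasPullback v2 q₀).flip.map (yon S)).paste_horiz sq₀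
    rw [← Functor.map_comp, ← hv] at h
    exact h
  let W' := pullback w v1
  let w1 : W' ⟶ W := pullback.fst w v1
  let w2 : W' ⟶ V := pullback.snd w v1
  have hw' : w1 ≫ w = w2 ≫ v1 := pullback.condition
  have sqWl : IsPullback w1.left w2.left w.left v1.left :=
    (IsPullback.of_hasPullback w v1).map (Over.forget S)
  have hw1 : LocallyOfFinitePresentation w2.left :=
    MorphismProperty.of_isPullback (P := @LocallyOfFinitePresentation) sqWl inferInstance
  have hw2 : QuasiCompact w2.left :=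
    MorphismProperty.of_isPullback (P := @QuasiCompact) sqWl inferInstance
  have hw3 : QuasiSeparated w2.left :=
    MorphismProperty.of_isPullback (P := @QuasiSeparated) sqWl inferInstance
  obtain ⟨m₀, hm1₀, hm2₀⟩ := exists_lift sqY ((yon S).map w1 ≫ x) w2 (by
    rw [Category.assoc, hx, ← Functor.map_comp, ← Category.assoc, hw', Category.assoc])
  -- a quasi-compact open of `Y`
  have hWc : CompactSpace W'.left := QuasiCompact.compactSpace_of_compactSpace w2.left
  obtain ⟨K, hKc, hKo, hKr, -⟩ := PrespectralSpace.exists_isCompact_and_isOpen_between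
    (isCompact_range m₀.left.continuous) (isOpen_univ (X := Y.left)) (Set.subset_univ _)
  let O : Y.left.Opens := ⟨K, hKo⟩
  let Yo := opnObj O
  let io : Yo ⟶ Y := opnInc O
  obtain ⟨m, hm⟩ : ∃ m : W' ⟶ Yo, m ≫ io = m₀ := (opnInc_iff O m₀).2 hKr
  have hioI : IsOpenImmersion io.left := inferInstanceAs (IsOpenImmersion O.ι)
  have hYoc : CompactSpace Yo.left := isCompact_iff_compactSpace.1 hKc
  let yo : Yo ⟶ V := io ≫ y1
  have hyol : yo.left = io.left ≫ y1.left := rfl
  have hyo1 : LocallyOfFinitePresentation yo.left := by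
    rw [hyol]; infer_instance
  have hyo2 : QuasiCompact yo.left := inferInstance
  have hYs : QuasiSeparatedSpace Y.left := quasiSeparatedSpace_of_quasiSeparated y1.left
  have hYos : QuasiSeparatedSpace Yo.left := QuasiSeparatedSpace.of_isOpenEmbedding io.left.isOpenEmbedding
  have hyo3 : QuasiSeparated yo.left := inferInstance
  have hm2 : m ≫ yo = w2 := by
    change m ≫ io ≫ y1 = w2
    rw [← Category.assoc, hm, hm2₀]
  -- the system
  obtain ⟨hl⟩ := nonempty_isLimit D c n v1 hc
  let E := sys D n v1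
  let i₀ : Over n := Over.mk (𝟙 n)
  have hEaff : ∀ k, IsAffine (E.obj k).left := fun k => sys_isAffine D n v1 hV hD k
  have hε : IsIso (sysFst D n v1 i₀) := by
    have h1 := sys_isPullback D n v1 i₀
    have : IsIso (D.map i₀.hom) := by
      change IsIso (D.map (𝟙 n))
      infer_instance
    exact h1.isIso_fst_of_isIso
  let ε : E.obj i₀ ≅ V := @asIso _ _ _ _ (sysFst D n v1 i₀) hε
  have hεh : ε.hom = sysFst D n v1 i₀ := rfl
  let ce1 := coneFst D c n v1
  let ce2 := coneSnd D c n v1
  have hce : (cone D c n v1).π.app i₀ ≫ ε.hom = ce1 := cone_π_fst D c n v1 i₀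
  have sqYi : IsPullback (pullback.fst yo ce1) (pullback.snd yo ce1) (yo ≫ ε.inv)
      ((cone D c n v1).π.app i₀) := by
    have h := IsPullback.of_hasPullback yo ce1
    refine IsPullback.of_iso h (Iso.refl _) (Iso.refl _) (Iso.refl _) ε.symm (by simp) (by simp) (by simp) ?_
    rw [← hce]
    simp
  have sqWi : IsPullback (pullback.fst m (pullback.fst yo ce1)) (pullback.snd m (pullback.fst yo ce1)) m
      (pullback.fst yo ce1) := IsPullback.of_hasPullback _ _
  let b1 := pullback.fst m (pullback.fst yo ce1)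
  let b2 := pullback.snd m (pullback.fst yo ce1)
  have hce2 : ce1 ≫ v1 = ce2 ≫ c.π.app n := (cone_isPullback D c n v1).w
  -- the pullback of `m` to the limit is an open immersion
  have hb : IsOpenImmersion b2.left := by
    have sq1 : IsPullback ((yon S).map (pullback.fst y1 ce1) ≫ (yon S).map y2 ≫ p₀)
        ((yon S).map (pullback.snd y1 ce1)) f ((yon S).map (ce1 ≫ v1 ≫ t)) := by
      have h := ((IsPullback.of_hasPullback y1 ce1).map (yon S)).paste_horiz sqY
      rw [← Functor.map_comp] at h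
      exact h
    have h1 := sqWi.paste_vert (IsPullback.of_hasPullback yo ce1)
    rw [hm2] at h1
    have h2 := h1.paste_horiz (IsPullback.of_hasPullback w v1)
    obtain ⟨l, hl1, hl2⟩ : ∃ l : pullback m (pullback.fst yo ce1) ⟶ X, l ≫ ρ = b1 ≫ w1 ∧
        l ≫ q = (b2 ≫ pullback.snd yo ce1) ≫ ce2 :=
      ⟨sqW.lift (b1 ≫ w1) ((b2 ≫ pullback.snd yo ce1) ≫ ce2) (by
        rw [Category.assoc _ ce2, ← hce2]; exact h2.w), sqW.lift_fst _ _ _, sqW.lift_snd _ _ _⟩
    have h3 : IsPullback (l ≫ ρ) (b2 ≫ pullback.snd yo ce1) w (ce2 ≫ c.π.app n) := by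
      rw [hl1, ← hce2]
      exact h2
    have h4 : IsPullback l (b2 ≫ pullback.snd yo ce1) q ce2 := IsPullback.of_right h3 hl2 sqW
    have h5 := ho.of_isPullback h4
    rw [← Category.assoc ((yon S).map l), ← Functor.map_comp, hl1, ← Category.assoc ce2, ← hce2,
      Category.assoc ce1] at h5
    -- the inclusion of the quasi-compact open
    let jo : pullback yo ce1 ⟶ pullback y1 ce1 := pullback.map yo ce1 y1 ce1 io (𝟙 _) (𝟙 _) (by simp [yo]) (by simp)
    have hjo1 : jo ≫ pullback.fst y1 ce1 = pullback.fst yo ce1 ≫ io := pullback.lift_fst _ _ _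
    have hjo2 : jo ≫ pullback.snd y1 ce1 = pullback.snd yo ce1 := by
      simp [jo]
    have hjom : IsOpenImmersion jo.left := by
      have h6 : IsPullback (pullback.fst yo ce1) jo io (pullback.fst y1 ce1) := by
        refine IsPullback.of_bot (h₃₁ := ce1) (v₂₁ := pullback.snd y1 ce1) (v₂₂ := y1) ?_ hjo1.symm
          (IsPullback.of_hasPullback y1 ce1)
        rw [hjo2]
        exact IsPullback.of_hasPullback yo ce1
      exact MorphismProperty.of_isPullback (P := @IsOpenImmersion) (h6.map (Over.forget S)) hioI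
    have h7 : IsOpenImmersion (b2 ≫ jo).left := by
      refine h5.scheme sq1 ?_ ?_
      · have e3 : (b2 ≫ jo) ≫ pullback.fst y1 ce1 = b1 ≫ m₀ := by
          rw [Category.assoc, hjo1, ← hm, ← Category.assoc, ← Category.assoc]
          congr 1
          exact pullback.condition.symm
        rw [← Category.assoc ((yon S).map (b2 ≫ jo)), ← Functor.map_comp, e3, Functor.map_comp, Category.assoc,
          hm1₀, ← Category.assoc, ← Functor.map_comp]
      · rw [Category.assoc, hjo2]
    have h8 : IsOpenImmersion (b2.left ≫ jo.left) := h7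
    exact IsOpenImmersion.of_comp b2.left jo.left
  have hDa : ∀ (j k : Over n) (φ : j ⟶ k), IsAffineHom ((E ⋙ Over.forget S).map φ) := fun j k φ => by
    have : IsAffine ((E ⋙ Over.forget S).obj j) := hEaff j
    have : IsAffine ((E ⋙ Over.forget S).obj k) := hEaff k
    infer_instance
  have hEi : IsAffine ((E ⋙ Over.forget S).obj i₀) := hEaff i₀
  have hεi : IsIso ε.inv.left := inferInstanceAs (IsIso ((Over.forget S).map ε.inv))
  have g1 : LocallyOfFinitePresentation (yo ≫ ε.inv).left :=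
    inferInstanceAs (LocallyOfFinitePresentation (yo.left ≫ ε.inv.left))
  have g2 : QuasiCompact (yo ≫ ε.inv).left := inferInstanceAs (QuasiCompact (yo.left ≫ ε.inv.left))
  have g3 : QuasiSeparated (yo ≫ ε.inv).left := inferInstanceAs (QuasiSeparated (yo.left ≫ ε.inv.left))
  have e0 : m.left ≫ (yo ≫ ε.inv).left = w2.left ≫ ε.inv.left := by
    rw [← Over.comp_left, ← Category.assoc, hm2, Over.comp_left]
  have g4 : LocallyOfFinitePresentation (m.left ≫ (yo ≫ ε.inv).left) := by rw [e0]; infer_instance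
  have g5 : QuasiCompact (m.left ≫ (yo ≫ ε.inv).left) := by rw [e0]; infer_instance
  have g6 : QuasiSeparated (m.left ≫ (yo ≫ ε.inv).left) := by rw [e0]; infer_instance
  obtain ⟨k, φ, Xk, Yk, fk, gk, pY, pX, hYk, hXk, hfk⟩ := Groth.Agent.S2580.result (E ⋙ Over.forget S)
    ((Over.forget S).mapCone (cone D c n v1)) hl i₀ m.left (yo ≫ ε.inv).left b2.left
    (pullback.snd yo ce1).left (pullback.fst yo ce1).left b1.left (sqYi.map (Over.forget S))
    (sqWi.map (Over.forget S))
  -- back to schemes over `S`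
  let Yk' : Over S := Over.mk (gk ≫ (E.obj k).hom)
  let gk' : Yk' ⟶ E.obj k := Over.homMk gk rfl
  have hYkw : pY ≫ (yo ≫ ε.inv).left = gk ≫ (E.map φ).left := hYk.w
  let pY' : Yk' ⟶ Yo := Over.homMk pY (by
    have h1 : Yo.hom = (yo ≫ ε.inv).left ≫ (E.obj i₀).hom := (Over.w (yo ≫ ε.inv)).symm
    rw [h1, ← Category.assoc, hYkw, Category.assoc, Over.w]
    rfl)
  have sqYk : IsPullback pY' gk' (yo ≫ ε.inv) (E.map φ) := K628.Core.isPullback_of_left hYk
  let Xk' : Over S := Over.mk (fk ≫ Yk'.hom)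
  let fk' : Xk' ⟶ Yk' := Over.homMk fk rfl
  have hXkw : pX ≫ m.left = fk ≫ pY := hXk.w
  let pX' : Xk' ⟶ W' := Over.homMk pX (by
    have h1 : W'.hom = m.left ≫ Yo.hom := (Over.w m).symm
    have h2 : Yk'.hom = pY ≫ Yo.hom := (Over.w pY').symm
    change pX ≫ W'.hom = fk ≫ Yk'.hom
    rw [h1, h2, ← Category.assoc, hXkw, Category.assoc])
  have sqXk : IsPullback pX' fk' m pY' := K628.Core.isPullback_of_left hXk
  have sqYk' : IsPullback pY' gk' yo (sysFst D n v1 k) := by
    refine IsPullback.of_iso sqYk (Iso.refl _) (Iso.refl _) (Iso.refl _) ε (by simp) (by simp) (by simp) ?_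
    rw [hεh]
    simpa using (sys_map_fst D n v1 φ)
  have sqX1 : IsPullback (pX' ≫ w1) (fk' ≫ gk') w (sysFst D n v1 k ≫ v1) := by
    have h1 := sqXk.paste_vert sqYk'
    rw [hm2] at h1
    exact h1.paste_horiz (IsPullback.of_hasPullback w v1)
  have hs : sysFst D n v1 k ≫ v1 = sysSnd D n v1 k ≫ D.map k.hom := (sys_isPullback D n v1 k).w
  obtain ⟨l, hl1, hl2⟩ : ∃ l : Xk' ⟶ pullback w (D.map k.hom), l ≫ pullback.fst w (D.map k.hom) = pX' ≫ w1 ∧
      l ≫ pullback.snd w (D.map k.hom) = (fk' ≫ gk') ≫ sysSnd D n v1 k :=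
    ⟨pullback.lift (pX' ≫ w1) ((fk' ≫ gk') ≫ sysSnd D n v1 k) (by
      rw [sqX1.w, hs, ← Category.assoc]), pullback.lift_fst _ _ _, pullback.lift_snd _ _ _⟩
  have sqE : IsPullback l (fk' ≫ gk') (pullback.snd w (D.map k.hom)) (sysSnd D n v1 k) := by
    refine IsPullback.of_right ?_ hl2 (IsPullback.of_hasPullback w (D.map k.hom))
    rw [hl1, ← hs]
    exact sqX1
  -- the pullback of `G` to the stage
  have sqYs := IsPullback.of_hasPullback y1 (sysFst D n v1 k)
  have sqG : IsPullback ((yon S).map (pullback.fst y1 (sysFst D n v1 k)) ≫ (yon S).map y2 ≫ p₀)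
      ((yon S).map (pullback.snd y1 (sysFst D n v1 k))) f ((yon S).map (sysFst D n v1 k ≫ v1 ≫ t)) := by
    have h := (sqYs.map (yon S)).paste_horiz sqY
    rw [← Functor.map_comp] at h
    exact h
  obtain ⟨jk, hjk1, hjk2⟩ : ∃ jk : Yk' ⟶ pullback y1 (sysFst D n v1 k),
      jk ≫ pullback.fst y1 (sysFst D n v1 k) = pY' ≫ io ∧ jk ≫ pullback.snd y1 (sysFst D n v1 k) = gk' :=
    ⟨pullback.lift (pY' ≫ io) gk' (by rw [Category.assoc]; exact sqYk'.w), pullback.lift_fst _ _ _,
      pullback.lift_snd _ _ _⟩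
  have hjkI : IsOpenImmersion jk.left := by
    have h6 : IsPullback pY' jk io (pullback.fst y1 (sysFst D n v1 k)) := by
      refine IsPullback.of_bot (h₃₁ := sysFst D n v1 k) (v₂₁ := pullback.snd y1 (sysFst D n v1 k)) (v₂₂ := y1) ?_
        hjk1.symm sqYs
      rw [hjk2]
      exact sqYk'
    exact MorphismProperty.of_isPullback (P := @IsOpenImmersion) (h6.map (Over.forget S)) hioI
  have hfI : IsOpenImmersion (fk' ≫ jk).left := by
    have h7 : IsOpenImmersion fk'.left := hfk
    exact inferInstanceAs (IsOpenImmersion (fk'.left ≫ jk.left))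
  have key := OpnIm.of_scheme sqG (fk' ≫ jk) hfI
  have e1 : (yon S).map (fk' ≫ jk) ≫ (yon S).map (pullback.fst y1 (sysFst D n v1 k)) ≫ (yon S).map y2 ≫ p₀ =
      (yon S).map l ≫ (yon S).map (pullback.fst w (D.map k.hom)) ≫ x := by
    have e4 : (fk' ≫ jk) ≫ pullback.fst y1 (sysFst D n v1 k) = pX' ≫ m₀ := by
      rw [Category.assoc, hjk1, ← Category.assoc, ← sqXk.w, Category.assoc, hm]
    rw [← Category.assoc ((yon S).map (fk' ≫ jk)), ← Functor.map_comp, e4, Functor.map_comp, Category.assoc, hm1₀,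
      ← Category.assoc, ← Category.assoc, ← Functor.map_comp, ← Functor.map_comp, hl1]
  rw [e1, Category.assoc, hjk2, ← Category.assoc (sysFst D n v1 k), hs, Category.assoc] at key
  rw [← Category.assoc (sysFst D n v1 k), hs, Category.assoc] at sqG
  refine ⟨k, OpnIm.of_fpqc hG ?_ (FqC.of_isPullback (sys_isPullback D n v1 k) hv1) sqE sqG key⟩
  rw [Category.assoc, hx, ← Functor.map_comp, ← Category.assoc, pullback.condition, Category.assoc]

/-- **Limit theorem for open subsheaves.** Let `G ⟶ h_Z` become a scheme, quasi-separated and locally of finite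
presentation, after an affine fpqc base change. An open subsheaf of finite presentation of `G` over the limit of a
system of affine schemes over `Z` comes from an open subsheaf at some stage. -/
theorem exists_opn [QuasiSeparatedSpace S] (hG : IsFpqcSh G) (hc₀ : FqC c₀) (haff : IsAffineHom c₀.left)
    (sq₀ : IsPullback p₀ ((yon S).map q₀) f ((yon S).map c₀)) [LocallyOfFinitePresentation q₀.left]
    [QuasiSeparated q₀.left]
    (hc : IsLimit ((Over.forget S).mapCone c)) (hD : ∀ i, IsAffine (D.obj i).left)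
    (i₀ : I) (τ : D.obj i₀ ⟶ Z) {X : Over S} {p : (yon S).obj X ⟶ G} {q : X ⟶ c.pt}
    (ho : OpnIm f (c.π.app i₀ ≫ τ) p q) [LocallyOfFinitePresentation q.left]
    [QuasiCompact q.left] [QuasiSeparated q.left] :
    ∃ (j : I) (φ : j ⟶ i₀) (Y : Over S) (y : (yon S).obj Y ⟶ G) (r : Y ⟶ D.obj j) (ρ : X ⟶ Y),
      OpnIm f (D.map φ ≫ τ) y r ∧ IsPullback ρ q r (c.π.app j) ∧ (yon S).map ρ ≫ y = p ∧
        LocallyOfFinitePresentation r.left ∧ QuasiCompact r.left ∧ QuasiSeparated r.left := by
  have hDa : ∀ (j k : I) (φ : j ⟶ k), IsAffineHom ((D ⋙ Over.forget S).map φ) := fun j k φ => by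
    have : IsAffine ((D ⋙ Over.forget S).obj j) := hD j
    have : IsAffine ((D ⋙ Over.forget S).obj k) := hD k
    infer_instance
  have hDc : ∀ j, CompactSpace ((D ⋙ Over.forget S).obj j) := fun j => by
    have : IsAffine ((D ⋙ Over.forget S).obj j) := hD j
    infer_instance
  have hDs : ∀ j, QuasiSeparatedSpace ((D ⋙ Over.forget S).obj j) := fun j => by
    have : IsAffine ((D ⋙ Over.forget S).obj j) := hD j
    infer_instance
  obtain ⟨i, Xi, fi, g, h1, h2, h3, h4⟩ := Groth.Agent.S0591.result (D ⋙ Over.forget S)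
    ((Over.forget S).mapCone c) hc X.left q.left
  let Wi : Over S := Over.mk (fi ≫ (D.obj i).hom)
  let wi : Wi ⟶ D.obj i := Over.homMk fi rfl
  have hw : g ≫ fi = q.left ≫ (c.π.app i).left := h4.w
  let ri : X ⟶ Wi := Over.homMk g (by
    change g ≫ fi ≫ (D.obj i).hom = X.hom
    rw [← Category.assoc, hw, Category.assoc, Over.w]
    exact Over.w q)
  have sqi : IsPullback ri q wi (c.π.app i) := K628.Core.isPullback_of_left h4
  have h1' : LocallyOfFinitePresentation wi.left := h1
  have h2' : QuasiCompact wi.left := h2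
  have h3' : QuasiSeparated wi.left := h3
  let m := IsCofiltered.min i i₀
  let α : m ⟶ i := IsCofiltered.minToLeft i i₀
  let β : m ⟶ i₀ := IsCofiltered.minToRight i i₀
  let W := pullback wi (D.map α)
  let w : W ⟶ D.obj m := pullback.snd wi (D.map α)
  have hwl := (IsPullback.of_hasPullback wi (D.map α)).map (Over.forget S)
  have k1 : LocallyOfFinitePresentation w.left :=
    MorphismProperty.of_isPullback (P := @LocallyOfFinitePresentation) hwl h1'
  have k2 : QuasiCompact w.left := MorphismProperty.of_isPullback (P := @QuasiCompact) hwl h2'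
  have k3 : QuasiSeparated w.left := MorphismProperty.of_isPullback (P := @QuasiSeparated) hwl h3'
  obtain ⟨r, hr1, hr2⟩ : ∃ r : X ⟶ W, r ≫ pullback.fst wi (D.map α) = ri ∧ r ≫ w = q ≫ c.π.app m :=
    ⟨pullback.lift ri (q ≫ c.π.app m) (by rw [Category.assoc, c.w, sqi.w]), pullback.lift_fst _ _ _,
      pullback.lift_snd _ _ _⟩
  have sqr : IsPullback r q w (c.π.app m) := by
    refine IsPullback.of_right ?_ hr2 (IsPullback.of_hasPullback wi (D.map α))
    rw [hr1, c.w]
    exact sqi
  have hDm := hD m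
  have hf : AffEl f := affEl_of_fpqc hG hc₀ haff sq₀
  have hWc : CompactSpace W.left := QuasiCompact.compactSpace_of_compactSpace w.left
  have hWs : QuasiSeparatedSpace W.left := quasiSeparatedSpace_of_quasiSeparated w.left
  obtain ⟨j, x, ρ, hρ1, hρ2, hx1, hx2⟩ := exists_stage_hom D c hf hc hD m w hWc hWs sqr p
    ((yon S).map (w ≫ D.map β ≫ τ)) (by
      rw [← Functor.map_comp, ← Category.assoc, hr2, Category.assoc, ← Category.assoc (c.π.app m), c.w, ho.w])
  have hwl' := (sys_isPullback D m w j).map (Over.forget S)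
  have l1 : LocallyOfFinitePresentation (sysSnd D m w j).left :=
    MorphismProperty.of_isPullback (P := @LocallyOfFinitePresentation) hwl' k1
  have l2 : QuasiCompact (sysSnd D m w j).left := MorphismProperty.of_isPullback (P := @QuasiCompact) hwl' k2
  have l3 : QuasiSeparated (sysSnd D m w j).left :=
    MorphismProperty.of_isPullback (P := @QuasiSeparated) hwl' k3
  have sqW : IsPullback ρ q (sysSnd D m w j) (c.π.app j.left) := by
    refine IsPullback.of_right ?_ hρ2 (sys_isPullback D m w j)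
    rw [hρ1, c.w]
    exact sqr
  have ht : c.π.app j.left ≫ D.map j.hom ≫ D.map β ≫ τ = c.π.app i₀ ≫ τ := by
    rw [← Category.assoc, ← Category.assoc, c.w, c.w]
  obtain ⟨k, hk⟩ := exists_opn_of_stage D c hG hc₀ haff sq₀ hc hD (D.map j.hom ≫ D.map β ≫ τ) (x := x) (by
    rw [hx2, ← Functor.map_comp, ← Category.assoc, (sys_isPullback D m w j).w, Category.assoc]) sqW (by
    rw [hx1, ht]
    exact ho)
  have hkl := (IsPullback.of_hasPullback (sysSnd D m w j) (D.map k.hom)).map (Over.forget S)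
  have hck : c.π.app k.left ≫ D.map k.hom = c.π.app j.left := c.w _
  obtain ⟨σ, hσ1, hσ2⟩ : ∃ σ : X ⟶ pullback (sysSnd D m w j) (D.map k.hom),
      σ ≫ pullback.fst (sysSnd D m w j) (D.map k.hom) = ρ ∧
      σ ≫ pullback.snd (sysSnd D m w j) (D.map k.hom) = q ≫ c.π.app k.left :=
    ⟨pullback.lift ρ (q ≫ c.π.app k.left) (by rw [sqW.w, Category.assoc, hck]), pullback.lift_fst _ _ _,
      pullback.lift_snd _ _ _⟩
  refine ⟨k.left, k.hom ≫ j.hom ≫ β, pullback (sysSnd D m w j) (D.map k.hom),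
    (yon S).map (pullback.fst (sysSnd D m w j) (D.map k.hom)) ≫ x,
    pullback.snd (sysSnd D m w j) (D.map k.hom), σ, ?_, ?_, ?_,
    MorphismProperty.of_isPullback (P := @LocallyOfFinitePresentation) hkl l1,
    MorphismProperty.of_isPullback (P := @QuasiCompact) hkl l2,
    MorphismProperty.of_isPullback (P := @QuasiSeparated) hkl l3⟩
  · have e : D.map (k.hom ≫ j.hom ≫ β) ≫ τ = D.map k.hom ≫ D.map j.hom ≫ D.map β ≫ τ := by
      rw [D.map_comp, D.map_comp, Category.assoc, Category.assoc]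
    rw [e]
    exact hk
  · refine IsPullback.of_right ?_ hσ2 (IsPullback.of_hasPullback (sysSnd D m w j) (D.map k.hom))
    rw [hσ1, hck]
    exact sqW
  · rw [← Category.assoc, ← Functor.map_comp, hσ1, hx1]

end Stage

end K634.FpqcOpn
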