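import Groth.Agent.AlgSp.K634.SecGlue
import Groth.Agent.AlgSp.K610.OpenImm
import Groth.Agent.AlgSp.K634.CoprodProper
import Groth.Agent.AlgSp.K635.Glue

/-!
# The coequalizer of a modification is an isomorphism over the open part

* `K_coeq_bot`: the coequalizer is the scheme theoretic image of the quotient map.
* `main`: S10717 modulo `CoeqHyp S`.
-/

set_option autoImplicit false

universe u

open CategoryTheory CategoryTheory.Limits AlgebraicGeometry Opposite

namespace K634.IsoU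

open AlgSp K634.CoeqFin K634.SepExt

variable {S : Scheme.{u}}

/-- Uniqueness of morphisms along a schematically dominant morphism, for another base. -/
theorem sep_ext' {X₁ X X₀ Y : Sp S} {c : X₁ ⟶ X} (hc : IsSeparatedMor c) (g : Y ⟶ X₀) {T : Over S} (t : (yon S).obj T ⟶ X₀)
    (u₁ u₂ : (yon S).obj T ⟶ X₁) (h₁ : u₁ ≫ c = u₂ ≫ c) (hK : K598.SchImg.K g t = ⊥)
    (h : ∀ (W : Over S) (y : (yon S).obj W ⟶ Y) (b : W ⟶ T), y ≫ g = (yon S).map b ≫ t →
      (yon S).map b ≫ u₁ = (yon S).map b ≫ u₂) : u₁ = u₂ := by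
  let l : (yon S).obj T ⟶ pullback c c := pullback.lift u₁ u₂ h₁
  obtain ⟨E, e, fst, sq⟩ := hc.1 l
  have hcl : IsClosedImmersion e.left := hc.2 _ _ _ sq
  have hker : e.left.ker ≤ K598.SchImg.K g t := by
    refine K598.SchImg.le_K fun W y b hyb ↦ ?_
    have h1 := h W y b hyb
    have h2 : ((yon S).map b ≫ u₁) ≫ pullback.diagonal c = (yon S).map b ≫ l := by
      apply pullback.hom_ext
      · simp only [Category.assoc, pullback.diagonal_fst, Category.comp_id, l, pullback.lift_fst]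
      · simp only [Category.assoc, pullback.diagonal_snd, Category.comp_id, l, pullback.lift_snd]
        exact h1
    obtain ⟨e', he'⟩ := (yon S).map_surjective (sq.lift _ _ h2)
    have h3 : e' ≫ e = b := by
      apply (yon S).map_injective
      rw [Functor.map_comp, he', sq.lift_snd]
    rw [← h3, Over.comp_left, Scheme.IdealSheafData.comap_comp, K598.ClFam.comap_ker_self,
      Scheme.IdealSheafData.comap_bot]
  rw [hK, le_bot_iff] at hker
  have hiso : IsIso e.left := K598.ClFam.isIso_of_ker_eq_bot _ hker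
  have hiso' : IsIso e := K610.Factor.isIso_of_left e hiso
  have h4 : fst = (yon S).map e ≫ u₁ := by
    have := congrArg (· ≫ pullback.fst c c) sq.w
    simpa only [Category.assoc, pullback.diagonal_fst, Category.comp_id, l, pullback.lift_fst] using this
  have h5 : fst = (yon S).map e ≫ u₂ := by
    have := congrArg (· ≫ pullback.snd c c) sq.w
    simpa only [Category.assoc, pullback.diagonal_snd, Category.comp_id, l, pullback.lift_snd] using this
  rw [← cancel_epi ((yon S).map e), ← h4, ← h5]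

/-- The coequalizer is the scheme theoretic image of the quotient map. -/
theorem K_coeq_bot {Y R X₁ : Space S} {t s : R ⟶ Y} (π : Y ⟶ X₁) (hπ : IsQuasiCompactMor π.hom) (w : t ≫ π = s ≫ π)
    (hc : IsColimit (Cofork.ofπ π w)) {T : Over S} (hT : IsAffine T.left) (z : (yon S).obj T ⟶ X₁.obj)
    (hz : RepWith @Flat z) : K598.SchImg.K π.hom z = ⊥ := by
  obtain ⟨F, hF1, -, hF3⟩ := K598.SchImg.exists_image X₁.2 hπ
  rw [← hF3 T z hT hz]
  let X₂ : Space S := ⟨F.sheaf, F.isAlgSpace_sheaf X₁.2⟩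
  let ι : X₂ ⟶ X₁ := ⟨F.ι⟩
  obtain ⟨π', hπ'⟩ := (F.factors_iff' π.hom).2 hF1
  let π₂ : Y ⟶ X₂ := ⟨π'⟩
  have hπι : π₂ ≫ ι = π := by
    ext1
    exact hπ'
  have hts : t ≫ π₂ = s ≫ π₂ := by
    ext1
    have h1 : (t.hom ≫ π') ≫ F.ι = (s.hom ≫ π') ≫ F.ι := by
      rw [Category.assoc, Category.assoc, hπ']
      exact congrArg (·.hom) w
    exact (cancel_mono F.ι).1 h1
  obtain ⟨d, hd⟩ := Cofork.IsColimit.desc' hc π₂ hts
  change π ≫ d = π₂ at hd
  have hdι : d ≫ ι = 𝟙 X₁ := by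
    refine Cofork.IsColimit.hom_ext hc ?_
    change π ≫ d ≫ ι = π ≫ 𝟙 X₁
    rw [← Category.assoc, hd, hπι, Category.comp_id]
  obtain ⟨d₀, hd₀⟩ : ∃ d₀ : X₁.obj ⟶ F.sheaf, d₀ ≫ F.ι = 𝟙 _ := ⟨d.hom, congrArg (·.hom) hdι⟩
  exact (F.factors_yon_iff' z).1 ⟨z ≫ d₀, by rw [Category.assoc, hd₀, Category.comp_id]⟩

theorem main (HC : CoeqHyp S) {X X' Z U XU Y R : Space S} (hX : IsLocNoethSp X.obj)
    (i : Z ⟶ X) (hi : RepWith @IsClosedImmersion i.hom) (jU : U ⟶ X) (hjU : RepWith @IsOpenImmersion jU.hom)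
    (hU : Set.range (Points.map jU.hom) = (Set.range (Points.map i.hom))ᶜ) (f : X' ⟶ X)
    (hf : IsProperMor f.hom) (a : XU ⟶ X') (b : XU ⟶ U) (hXU : IsPullback a.hom b.hom f.hom jU.hom) [IsIso b]
    (inl : X' ⟶ Y) (inr : Z ⟶ Y) (hY : IsColimit (BinaryCofan.mk inl inr)) (g : Y ⟶ X) (hg₁ : inl ≫ g = f)
    (hg₂ : inr ≫ g = i) (t s : R ⟶ Y) (hR : IsPullback t.hom s.hom g.hom g.hom) :
    ∃ (X₁ : Space S) (π : Y ⟶ X₁) (w : t ≫ π = s ≫ π) (c : X₁ ⟶ X), Nonempty (IsColimit (Cofork.ofπ π w)) ∧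
      π ≫ c = g ∧ IsFiniteMor c.hom ∧ IsUnivHomeoMor c.hom ∧
      (∃ (P : Space S) (p : P ⟶ X₁) (q : P ⟶ U), IsPullback p.hom q.hom c.hom jU.hom ∧ IsIso q) ∧
      ∃ k : Z ⟶ X₁, k ≫ c = i := by
  have hgp : IsProperMor g.hom := K634.CoprodProper.isProperMor_of_coprod hY g (by rw [hg₁]; exact hf)
    (by rw [hg₂]; exact K597.ProperSub.isProperMor_of_closed X.2 hi)
  have e1 : inl.hom ≫ g.hom = f.hom := congrArg (·.hom) hg₁
  have e2 : inr.hom ≫ g.hom = i.hom := congrArg (·.hom) hg₂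
  have hbi : IsIso b.hom := inferInstanceAs (IsIso ((ObjectProperty.ι _).map b))
  have hgs : IsSurjectiveMor g.hom := by
    intro x
    by_cases hx : x ∈ Set.range (Points.map i.hom)
    · obtain ⟨z, rfl⟩ := hx
      exact ⟨Points.map inr.hom z, by rw [← Points.map_comp, e2]⟩
    · have hx' : x ∈ Set.range (Points.map jU.hom) := by
        rw [hU]
        exact hx
      obtain ⟨u, rfl⟩ := hx'
      refine ⟨Points.map inl.hom (Points.map a.hom (Points.map (inv b.hom) u)), ?_⟩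
      rw [← Points.map_comp, ← Points.map_comp, ← Points.map_comp, e1, hXU.w, IsIso.inv_hom_id_assoc]
  obtain ⟨X₁, π, w, c, ⟨hcol⟩, hπc, hfin, hπp, hπs, -, huh⟩ := HC g hX hgp t s hR
  have e3 : π.hom ≫ c.hom = g.hom := congrArg (·.hom) hπc
  refine ⟨X₁, π, w, c, ⟨hcol⟩, hπc, hfin, huh hgs, ?_, inr ≫ π, by rw [Category.assoc, hπc, hg₂]⟩
  have hcsep : IsSeparatedMor c.hom := K597.Proper.isSeparatedMor_of_isAffineMor (K634.FiniteMor.isAffineMor_of_isFiniteMor hfin)
  -- the section over `U`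
  let σ : U.obj ⟶ X₁.obj := inv b.hom ≫ a.hom ≫ inl.hom ≫ π.hom
  have hσc : σ ≫ c.hom = jU.hom := by
    simp only [σ, Category.assoc]
    rw [e3, e1, hXU.w, IsIso.inv_hom_id_assoc]
  let P : Space S := ⟨pullback c.hom jU.hom, K613.Chart.isAlgSpace_pullback X₁.2 U.2 X.2 _ _⟩
  let p : P ⟶ X₁ := ⟨pullback.fst c.hom jU.hom⟩
  let q : P ⟶ U := ⟨pullback.snd c.hom jU.hom⟩
  have sq : IsPullback p.hom q.hom c.hom jU.hom := IsPullback.of_hasPullback _ _
  -- the retraction property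
  have key : q.hom ≫ σ = p.hom := by
    refine K610.Base.hom_ext_yon fun T z ↦ K610.Site.eq_of_cover fun x ↦ ?_
    obtain ⟨V', vU, hvU, hvUs⟩ := U.2.atlas
    have hls := K610.Site.isLocallySurjective_of_etale hvU hvUs
    obtain ⟨T1, φ1, hf1, hf2, ⟨x1, rfl⟩, l, hl⟩ := K610.Site.exists_local_lift vU (z ≫ q.hom) x
    obtain ⟨l', rfl⟩ := (yon S).map_surjective l
    obtain ⟨O, hO, hxO, -⟩ := K635.Glue.exists_affine_nhd (l'.left x1) ⊤ trivial
    let V : Over S := Over.mk (O.ι ≫ V'.hom)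
    let ιV : V ⟶ V' := Over.homMk O.ι rfl
    have hVA : IsAffine V.left := hO
    have hιV : IsOpenImmersion ιV.left := inferInstanceAs (IsOpenImmersion O.ι)
    let vO : (yon S).obj V ⟶ U.obj := (yon S).map ιV ≫ vU
    have hvO : RepWith @Etale vO :=
      MorphismProperty.comp_mem _ _ _ ((repWith_yon_map_iff _ _).2 (inferInstance : Etale ιV.left)) hvU
    -- the preimage of `O` in `T1`
    let T2 : Over S := Over.mk ((l'.left ⁻¹ᵁ O).ι ≫ T1.hom)
    let ι2 : T2 ⟶ T1 := Over.homMk (l'.left ⁻¹ᵁ O).ι rfl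
    have hι2 : IsOpenImmersion ι2.left := inferInstanceAs (IsOpenImmersion (l'.left ⁻¹ᵁ O).ι)
    let l2 : T2 ⟶ V := Over.homMk (l'.left ∣_ O) (by
      change (l'.left ∣_ O) ≫ O.ι ≫ V'.hom = (l'.left ⁻¹ᵁ O).ι ≫ T1.hom
      rw [morphismRestrict_ι_assoc, Over.w])
    have hl2 : l2 ≫ ιV = ι2 ≫ l' := by
      ext1
      exact morphismRestrict_ι _ _
    refine ⟨T2, ι2 ≫ φ1, ?_, ?_, ⟨⟨x1, hxO⟩, rfl⟩, ?_⟩
    · exact inferInstanceAs (Flat (ι2.left ≫ φ1.left))
    · exact inferInstanceAs (LocallyOfFinitePresentation (ι2.left ≫ φ1.left))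
    -- the finite cover of `V`
    obtain ⟨Wc, ic, fc, sqc, hWcA, -⟩ := hfin hVA (vO ≫ jU.hom)
    have hV2 : RepWith @Etale (vO ≫ jU.hom) :=
      MorphismProperty.comp_mem _ _ _ hvO (K610.OpenImm.repWith_etale_of_open hjU)
    have hfe : RepWith @Etale fc := MorphismProperty.of_isPullback sqc.flip hV2
    have hKf := K_coeq_bot π hπp.2.1.2 w hcol hWcA fc (K598.Charts.repWith_flat_of_etale hfe)
    have hfc : fc = (yon S).map ic ≫ vO ≫ σ := by
      refine sep_ext' hcsep π.hom fc _ _ ?_ hKf fun W y m hym ↦ ?_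
      · rw [Category.assoc, Category.assoc, hσc, sqc.w]
      · rw [← hym]
        have h1 := K634.SecGlue.agree_of_coeq g t s hR π w y
          ((yon S).map m ≫ (yon S).map ic ≫ vO ≫ inv b.hom ≫ a.hom ≫ inl.hom) (by
            have h2 : y ≫ g.hom = (yon S).map m ≫ (yon S).map ic ≫ vO ≫ jU.hom := by
              rw [← e3, ← Category.assoc, hym, Category.assoc, sqc.w]
            rw [h2]
            simp only [Category.assoc]
            rw [e1, hXU.w, IsIso.inv_hom_id_assoc])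
        rw [h1]
        simp only [Category.assoc, σ]
    have h3 : ((yon S).map (ι2 ≫ φ1) ≫ z) ≫ q.hom = (yon S).map l2 ≫ vO := by
      change _ = (yon S).map l2 ≫ (yon S).map ιV ≫ vU
      rw [← Category.assoc ((yon S).map l2), ← Functor.map_comp, hl2, Functor.map_comp, Functor.map_comp, Category.assoc,
        Category.assoc, Category.assoc, hl]
    have h4 : (((yon S).map (ι2 ≫ φ1) ≫ z) ≫ p.hom) ≫ c.hom = (yon S).map l2 ≫ vO ≫ jU.hom := by
      rw [Category.assoc, sq.w, ← Category.assoc, h3, Category.assoc]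
    have h5 : ((yon S).map (ι2 ≫ φ1) ≫ z) ≫ p.hom = (yon S).map l2 ≫ vO ≫ σ := by
      have k1 := sqc.lift_fst _ _ h4
      have k2 := sqc.lift_snd _ _ h4
      generalize sqc.lift _ _ h4 = m at k1 k2
      rw [← k1, hfc, ← Category.assoc, k2]
    rw [← Category.assoc, ← Category.assoc ((yon S).map (ι2 ≫ φ1)), h5, ← Category.assoc _ q.hom, h3, Category.assoc]
  have hr : σ ≫ c.hom = 𝟙 _ ≫ jU.hom := by rw [hσc, Category.id_comp]
  refine ⟨P, p, q, sq, ⟨⟨sq.lift σ (𝟙 _) hr⟩, ?_, ?_⟩⟩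
  · ext1
    change q.hom ≫ sq.lift σ (𝟙 _) hr = 𝟙 _
    refine sq.hom_ext ?_ ?_
    · rw [Category.assoc, sq.lift_fst, key, Category.id_comp]
    · rw [Category.assoc, sq.lift_snd, Category.comp_id, Category.id_comp]
  · ext1
    exact sq.lift_snd _ _ _

end K634.IsoU
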