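import Groth.Agent.AlgSp.K634.ReesEq

/-!
# The retraction of the coequalizer (algebra)
-/

set_option autoImplicit false

open TensorProduct

namespace K634.LiftAlg

open K634.ReesEq

theorem exists_ringHom {A C D : Type*} [CommRing A] [CommRing C] [CommRing D] (j : A →+* D) (hj : Function.Injective j)
    (g : C →+* D) (h : ∀ x, ∃ a, j a = g x) : ∃ δ : C →+* A, j.comp δ = g := by
  choose d hd using h
  exact ⟨{ toFun := d
           map_one' := hj (by rw [hd, map_one, map_one])
           map_mul' := fun x y ↦ hj (by rw [hd, map_mul, map_mul, hd, hd])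
           map_zero' := hj (by rw [hd, map_zero, map_zero])
           map_add' := fun x y ↦ hj (by rw [hd, map_add, map_add, hd, hd]) }, RingHom.ext hd⟩

theorem exists_retraction {A B C Dn Dk : Type*} [CommRing A] [CommRing B] [CommRing C] [CommRing Dn] [CommRing Dk]
    [Algebra A B] (I : Ideal A) (c : ℕ)
    (h1 : ∀ n, c ≤ n → ∀ b ∈ (I ^ n).map (algebraMap A B), b ∈ eqz A B → ∃ a ∈ I ^ (n - c), algebraMap A B a = b)
    (h2 : ∀ x ∈ I ^ c, algebraMap A B x = 0 → x = 0) (k : ℕ) (hk : c ≤ k) (pn : A →+* Dn) (hpn : Function.Surjective pn)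
    (pk : A →+* Dk) (hpk : RingHom.ker pk = I ^ (k + 1)) (r : Dn →+* Dk) (hr : r.comp pn = pk)
    (α : A →+* C) (β : C →+* B) (hβ : β.comp α = algebraMap A B) (ζ : C →+* Dn) (hζ : ζ.comp α = pn)
    (h3 : ∀ x, β x ∈ eqz A B)
    (h4 : ∀ x a, pn a = ζ x → β x - algebraMap A B a ∈ (I ^ (k + c + 1)).map (algebraMap A B)) :
    ∃ δ : C →+* A, (algebraMap A B).comp δ = β ∧ pk.comp δ = r.comp ζ ∧ δ.comp α = RingHom.id A := by
  let j : A →+* B × Dk := RingHom.prod (algebraMap A B) pk
  have hj : Function.Injective j := by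
    rw [injective_iff_map_eq_zero]
    intro x hx
    have hx1 : algebraMap A B x = 0 := congrArg Prod.fst hx
    have hx2 : pk x = 0 := congrArg Prod.snd hx
    have hx3 : x ∈ I ^ (k + 1) := by
      rw [← hpk]
      exact hx2
    exact h2 x (Ideal.pow_le_pow_right (by omega) hx3) hx1
  obtain ⟨δ, hδ⟩ := exists_ringHom j hj (RingHom.prod β (r.comp ζ)) (by
    intro x
    obtain ⟨a₀, ha₀⟩ := hpn (ζ x)
    obtain ⟨a₁, ha₁, ha₁'⟩ := h1 (k + c + 1) (by omega) _ (h4 x a₀ ha₀)
      (Subalgebra.sub_mem _ (h3 x) (Subalgebra.algebraMap_mem _ _))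
    refine ⟨a₀ + a₁, Prod.ext ?_ ?_⟩
    · change algebraMap A B (a₀ + a₁) = β x
      rw [map_add, ha₁', add_sub_cancel]
    · change pk (a₀ + a₁) = r (ζ x)
      have h5 : pk a₁ = 0 := by
        change a₁ ∈ RingHom.ker pk
        rw [hpk]
        exact Ideal.pow_le_pow_right (by omega) ha₁
      rw [map_add, h5, add_zero, ← ha₀, ← hr, RingHom.comp_apply])
  have e1 : (algebraMap A B).comp δ = β := RingHom.ext fun x ↦ congrArg Prod.fst (DFunLike.congr_fun hδ x)
  have e2 : pk.comp δ = r.comp ζ := RingHom.ext fun x ↦ congrArg Prod.snd (DFunLike.congr_fun hδ x)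
  refine ⟨δ, e1, e2, RingHom.ext fun a ↦ hj (Prod.ext ?_ ?_)⟩
  · change algebraMap A B (δ (α a)) = algebraMap A B a
    rw [← RingHom.comp_apply, e1, ← RingHom.comp_apply, hβ]
  · change pk (δ (α a)) = pk a
    rw [← RingHom.comp_apply, e2]
    have e3 : ζ (α a) = pn a := DFunLike.congr_fun hζ a
    have e4 : r (pn a) = pk a := DFunLike.congr_fun hr a
    rw [RingHom.comp_apply, e3, e4]

end K634.LiftAlg
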