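import Groth.Agent.AlgSp.K634.CoeqFin
import Mathlib.RingTheory.TensorProduct.IncludeLeftSubRight
import Mathlib.RingTheory.Localization.BaseChange

/-!
# Elements of the equalizer away from a closed subset
-/

set_option autoImplicit false

open TensorProduct

namespace K634.LocEff

open K634.ReesEq K634.CoeqFin

variable {A B : Type*} [CommRing A] [CommRing B] [Algebra A B] (a : A)
  [Module.FaithfullyFlat (Localization.Away a) (Localization.Away a ⊗[A] B)]

theorem exists_pow_mul_eq_zero (x : A) (hx : algebraMap A B x = 0) : ∃ N : ℕ, a ^ N * x = 0 := by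
  have h1 : algebraMap (Localization.Away a) (Localization.Away a ⊗[A] B) (algebraMap A _ x) = 0 := by
    rw [← IsScalarTower.algebraMap_apply,
      ← (Algebra.TensorProduct.includeRight : B →ₐ[A] Localization.Away a ⊗[A] B).commutes, hx, map_zero]
  have h2 : algebraMap A (Localization.Away a) x = 0 :=
    FaithfulSMul.algebraMap_injective (Localization.Away a) (Localization.Away a ⊗[A] B) (by rw [h1, map_zero])
  obtain ⟨⟨_, N, rfl⟩, h3⟩ := (IsLocalization.map_eq_zero_iff (Submonoid.powers a) _ x).1 h2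
  exact ⟨N, h3⟩

theorem exists_pow_smul_eq (b : B) (hb : b ∈ eqz A B) : ∃ (N : ℕ) (x : A), a ^ N • b = algebraMap A B x := by
  let Aa := Localization.Away a
  let Ba := Aa ⊗[A] B
  let j : B →ₐ[A] Ba := Algebra.TensorProduct.includeRight
  let α : B →+* Ba ⊗[Aa] Ba :=
    (Algebra.TensorProduct.includeLeft (R := Aa) (S := Aa) (A := Ba) (B := Ba)).toRingHom.comp j.toRingHom
  let β : B →+* Ba ⊗[Aa] Ba :=
    (Algebra.TensorProduct.includeRight (R := Aa) (A := Ba) (B := Ba)).toRingHom.comp j.toRingHom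
  have h1 : α.comp (algebraMap A B) = β.comp (algebraMap A B) := by
    ext x
    change (j (algebraMap A B x)) ⊗ₜ[Aa] (1 : Ba) = (1 : Ba) ⊗ₜ[Aa] (j (algebraMap A B x))
    rw [j.commutes, IsScalarTower.algebraMap_apply A Aa Ba, Algebra.algebraMap_eq_smul_one, TensorProduct.smul_tmul]
  have h2' : α b = β b := eqz_apply_eq (A := A) (B := B) (C := Ba ⊗[Aa] Ba) α β h1 b hb
  have h2 : (j b) ⊗ₜ[Aa] (1 : Ba) = (1 : Ba) ⊗ₜ[Aa] (j b) := h2'
  have h3 := Algebra.IsEffective.eqLocus_includeLeft_includeRight (Algebra.IsEffective.of_faithfullyFlat Aa Ba)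
  have h4 : j b ∈ Set.range (algebraMap Aa Ba) := by
    rw [← h3]
    exact h2
  obtain ⟨y, hy⟩ := h4
  obtain ⟨⟨x, ⟨_, n, rfl⟩⟩, hx⟩ := IsLocalization.surj (Submonoid.powers a) y
  have hloc : IsLocalizedModule (Submonoid.powers a) (TensorProduct.mk A Aa B 1) :=
    (isLocalizedModule_iff_isBaseChange (Submonoid.powers a) Aa _).2 (TensorProduct.isBaseChange A B Aa)
  have h5 : TensorProduct.mk A Aa B 1 (a ^ n • b - algebraMap A B x) = 0 := by
    rw [map_sub, sub_eq_zero]
    have e1 : TensorProduct.mk A Aa B 1 (a ^ n • b) = algebraMap A Ba (a ^ n) * j b := by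
      rw [map_smul]
      exact Algebra.smul_def (R := A) (A := Ba) (a ^ n) (j b)
    have e2 : TensorProduct.mk A Aa B 1 (algebraMap A B x) = algebraMap A Ba x := j.commutes x
    have hx' : algebraMap A Aa (a ^ n) * y = algebraMap A Aa x := by
      rw [mul_comm]
      exact hx
    rw [e1, e2, ← hy, IsScalarTower.algebraMap_apply A Aa Ba, IsScalarTower.algebraMap_apply A Aa Ba, ← map_mul, hx']
  obtain ⟨⟨_, m, rfl⟩, h6⟩ := (IsLocalizedModule.eq_zero_iff (Submonoid.powers a) (TensorProduct.mk A Aa B 1)).1 h5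
  refine ⟨m + n, a ^ m * x, ?_⟩
  have h7 : a ^ m • (a ^ n • b - algebraMap A B x) = 0 := h6
  rw [smul_sub, sub_eq_zero, smul_smul, ← pow_add] at h7
  rw [h7, map_mul, Algebra.smul_def]

end K634.LocEff
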