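import Groth.Agent.AlgSp.K634.Quot
import Groth.Agent.Proet.EtaleLiftLoc
import Groth.Agent.CalgB.EtaleNbhd
import Mathlib.AlgebraicGeometry.Morphisms.Smooth

/-!
# Étale-local lifting along a thickening of an affine scheme into a smooth morphism
-/

set_option autoImplicit false

universe u

open CategoryTheory CategoryTheory.Limits AlgebraicGeometry Opposite TensorProduct

namespace K634.LocLift

open K634.Quot

/-- Étale algebras over `A/I` lift to étale algebras over `A`. -/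
theorem exists_etale_lift {A : Type u} [CommRing A] (I : Ideal A)
    {B₀ : Type u} [CommRing B₀] (φ₀ : A ⧸ I →+* B₀) (h1 : Etale (Spec.map (CommRingCat.ofHom φ₀))) :
    ∃ (B : Type u) (_ : CommRing B) (φ : A →+* B) (ψ : B₀ ≃+* B ⧸ I.map φ),
      Etale (Spec.map (CommRingCat.ofHom φ)) ∧ (ψ : B₀ →+* B ⧸ I.map φ).comp φ₀ = qmap φ I := by
  algebraize [φ₀]
  have het : Algebra.Etale (A ⧸ I) B₀ := by
    have := HasRingHomProperty.Spec_iff (P := @Etale) |>.1 h1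
    exact this
  have hs : Function.Surjective (algebraMap A (A ⧸ I)) := Ideal.Quotient.mk_surjective
  obtain ⟨B, _, _, hB, ⟨e⟩⟩ := Groth.Agent.Proet.EtaleLiftLoc.exists_etale_lift A (A ⧸ I) B₀
    (fun s => ⟨1, isUnit_one, fun x _ => by rw [one_mul]; exact hs x⟩)
  let g : B₀ ≃ₐ[A ⧸ I] B ⧸ I.map (algebraMap A B) :=
    e.symm.trans (Algebra.TensorProduct.quotIdealMapEquivQuotTensor B I).symm
  refine ⟨B, inferInstance, algebraMap A B, g.toRingEquiv, ?_, ?_⟩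
  · exact HasRingHomProperty.Spec_iff (P := @Etale) |>.2 ((RingHom.etale_algebraMap).2 hB)
  · refine Ideal.Quotient.ringHom_ext (RingHom.ext fun x => ?_)
    exact g.commutes (Ideal.Quotient.mk I x)

/-- Sections of smooth algebras over `B/J` lift after an étale `B → B'` with `B/J = B'/JB'`. -/
theorem exists_smooth_lift {A B R C : Type u} [CommRing A] [CommRing B] [CommRing R] [CommRing C]
    (I : Ideal A) (φ : A →+* B) (hφ : Etale (Spec.map (CommRingCat.ofHom φ)))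
    (α : R →+* C) (hα : α.Smooth) (ρ : R →+* B) (σ : C →+* B ⧸ I.map φ)
    (h : σ.comp α = (Ideal.Quotient.mk (I.map φ)).comp ρ) :
    ∃ (B' : Type u) (_ : CommRing B') (χ : B →+* B') (φ' : A →+* B') (κ : B ⧸ I.map φ ≃+* B' ⧸ I.map φ')
      (τ : C →+* B'), φ' = χ.comp φ ∧ Etale (Spec.map (CommRingCat.ofHom φ')) ∧
        (κ : B ⧸ I.map φ →+* B' ⧸ I.map φ').comp (Ideal.Quotient.mk (I.map φ)) =
          (Ideal.Quotient.mk (I.map φ')).comp χ ∧
        τ.comp α = χ.comp ρ ∧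
        (Ideal.Quotient.mk (I.map φ')).comp τ = (κ : B ⧸ I.map φ →+* B' ⧸ I.map φ').comp σ := by
  algebraize [α, ρ, φ]
  let J := I.map (algebraMap A B)
  let D := B ⊗[R] C
  have hD : Algebra.Smooth B D := inferInstance
  let σ' : D →ₐ[B] B ⧸ J := Algebra.TensorProduct.lift (Algebra.ofId B (B ⧸ J))
    { toRingHom := σ, commutes' := fun r => congrArg (fun f => f r) h } (fun _ _ => .all _ _)
  obtain ⟨B', _, _, hB', hb, τ, hτ⟩ :=
    Groth.Agent.CalgB.EtaleNbhd.exists_etale_lift_section_of_smooth J σ'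
  have hI : I.map ((algebraMap B B').comp φ) = J.map (algebraMap B B') := (Ideal.map_map _ _).symm
  let κ₀ : B ⧸ J ≃+* B' ⧸ J.map (algebraMap B B') :=
    RingEquiv.ofBijective (algebraMap (B ⧸ J) (B' ⧸ J.map (algebraMap B B'))) hb
  let κ : B ⧸ J ≃+* B' ⧸ I.map ((algebraMap B B').comp φ) := κ₀.trans (Ideal.quotEquivOfEq hI.symm)
  refine ⟨B', inferInstance, algebraMap B B', (algebraMap B B').comp φ, κ,
    τ.toRingHom.comp (Algebra.TensorProduct.includeRight : C →ₐ[R] D).toRingHom, rfl, ?_, ?_, ?_, ?_⟩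
  · rw [CommRingCat.ofHom_comp, Spec.map_comp]
    have : Etale (Spec.map (CommRingCat.ofHom (algebraMap B B'))) :=
      HasRingHomProperty.Spec_iff (P := @Etale) |>.2 ((RingHom.etale_algebraMap).2 hB')
    infer_instance
  · rfl
  · ext r
    have : (1 : B) ⊗ₜ[R] (algebraMap R C r) = algebraMap B D (algebraMap R B r) := by
      rw [← Algebra.TensorProduct.tmul_one_eq_one_tmul]; rfl
    change τ ((1 : B) ⊗ₜ[R] (algebraMap R C r)) = algebraMap B B' (algebraMap R B r)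
    rw [this, AlgHom.commutes]
  · ext c
    have h1 := hτ ((1 : B) ⊗ₜ[R] c)
    have h2 : σ' ((1 : B) ⊗ₜ[R] c) = σ c :=
      (Algebra.TensorProduct.lift_tmul _ _ _ _ _).trans (by rw [map_one, one_mul]; rfl)
    rw [h2] at h1
    change Ideal.Quotient.mk _ (τ ((1 : B) ⊗ₜ[R] c)) = Ideal.quotEquivOfEq hI.symm (κ₀ (σ c))
    change _ = Ideal.quotEquivOfEq hI.symm (algebraMap (B ⧸ J) (B' ⧸ J.map (algebraMap B B')) (σ c))
    rw [← h1]
    rfl

theorem surjective_quot {A : Type u} [CommRing A] (I : Ideal A) (hI : ∀ x ∈ I, IsNilpotent x)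
    (y : Spec (.of A)) : ∃ x, Spec.map (CommRingCat.ofHom (Ideal.Quotient.mk I)) x = y :=
  (PrimeSpectrum.comap_quotientMk_bijective_of_le_nilradical (I := I) (fun x hx => hI x hx)).2 y

theorem surjective_equiv {A B : Type u} [CommRing A] [CommRing B] (e : A ≃+* B)
    (y : Spec (.of A)) : ∃ x, Spec.map (CommRingCat.ofHom (e : A →+* B)) x = y := by
  have : IsIso (CommRingCat.ofHom (e : A →+* B)) := inferInstanceAs (IsIso e.toCommRingCatIso.hom)
  exact (Spec.map (CommRingCat.ofHom (e : A →+* B))).surjective y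

theorem map_nil {A B : Type u} [CommRing A] [CommRing B] (φ : A →+* B) {I : Ideal A}
    (hI : ∀ x ∈ I, IsNilpotent x) : ∀ x ∈ I.map φ, IsNilpotent x := by
  have : I.map φ ≤ nilradical B := by
    rw [Ideal.map_le_iff_le_comap]
    intro x hx
    exact (hI x hx).map φ
  exact fun x hx => this hx

/-- Étale-locally on `Spec A`, a point of a smooth scheme over a thickening lifts. -/
theorem exists_local_lift {A : Type u} [CommRing A] (I : Ideal A) (hI : ∀ x ∈ I, IsNilpotent x)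
    {U V : Scheme.{u}} (h : U ⟶ V) [Smooth h] (m : Spec (.of A) ⟶ V) {W₁ : Scheme.{u}}
    (q : W₁ ⟶ Spec (.of (A ⧸ I))) [Etale q] (g : W₁ ⟶ U)
    (hg : g ≫ h = q ≫ Spec.map (CommRingCat.ofHom (Ideal.Quotient.mk I)) ≫ m) (w₁ : W₁) :
    ∃ (B : Type u) (_ : CommRing B) (φ : A →+* B) (ℓ : Spec (.of B) ⟶ U)
      (k : Spec (.of (B ⧸ I.map φ)) ⟶ W₁), Etale (Spec.map (CommRingCat.ofHom φ)) ∧
        ℓ ≫ h = Spec.map (CommRingCat.ofHom φ) ≫ m ∧ k ≫ q = Spec.map (CommRingCat.ofHom (qmap φ I)) ∧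
        k ≫ g = Spec.map (CommRingCat.ofHom (Ideal.Quotient.mk (I.map φ))) ≫ ℓ ∧ w₁ ∈ Set.range k := by
  obtain ⟨V₀, hV₀, hv, -⟩ := (TopologicalSpace.Opens.isBasis_iff_nbhd.1 V.isBasis_affineOpens)
    (show h (g w₁) ∈ (⊤ : V.Opens) from trivial)
  obtain ⟨U₀, hU₀, hu, hUV⟩ := (TopologicalSpace.Opens.isBasis_iff_nbhd.1 U.isBasis_affineOpens)
    (show g w₁ ∈ h ⁻¹ᵁ V₀ from hv)
  obtain ⟨W₀, hW₀, hw, hWU⟩ := (TopologicalSpace.Opens.isBasis_iff_nbhd.1 W₁.isBasis_affineOpens)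
    (show w₁ ∈ g ⁻¹ᵁ U₀ from hu)
  let k₀ : Spec (.of Γ(W₁, W₀)) ⟶ W₁ := hW₀.fromSpec
  obtain ⟨φ₀, hφ₀⟩ : ∃ φ₀ : A ⧸ I →+* Γ(W₁, W₀), Spec.map (CommRingCat.ofHom φ₀) = k₀ ≫ q :=
    ⟨(Spec.preimage (k₀ ≫ q)).hom, by rw [CommRingCat.ofHom_hom, Spec.map_preimage]⟩
  obtain ⟨B₁, _, φ₁, ψ, h₁, h₂⟩ := exists_etale_lift I φ₀ (by rw [hφ₀]; infer_instance)
  let j₁ : Spec (.of (B₁ ⧸ I.map φ₁)) ⟶ Spec (.of B₁) :=
    Spec.map (CommRingCat.ofHom (Ideal.Quotient.mk (I.map φ₁)))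
  let k₁ : Spec (.of (B₁ ⧸ I.map φ₁)) ⟶ W₁ := Spec.map (CommRingCat.ofHom (ψ : _ →+* B₁ ⧸ I.map φ₁)) ≫ k₀
  have hk₁ : k₁ ≫ q = Spec.map (CommRingCat.ofHom (qmap φ₁ I)) := by
    rw [Category.assoc, ← hφ₀, ← Spec.map_comp, ← CommRingCat.ofHom_comp, h₂]
  have hkm : k₁ ≫ g ≫ h = j₁ ≫ Spec.map (CommRingCat.ofHom φ₁) ≫ m := by
    rw [hg, reassoc_of% hk₁, ← Category.assoc j₁, (isPullback_quot φ₁ I).w, Category.assoc]
  have hkW : ∀ y, k₁ y ∈ W₀ := by
    intro y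
    have : k₀ (Spec.map (CommRingCat.ofHom (ψ : _ →+* B₁ ⧸ I.map φ₁)) y) ∈ Set.range k₀ := ⟨_, rfl⟩
    rw [hW₀.range_fromSpec] at this
    exact this
  have hrU : Set.range (k₁ ≫ g) ⊆ Set.range hU₀.fromSpec := by
    rw [hU₀.range_fromSpec]
    rintro _ ⟨y, rfl⟩
    exact hWU (hkW y)
  have hrV : Set.range (Spec.map (CommRingCat.ofHom φ₁) ≫ m) ⊆ Set.range hV₀.fromSpec := by
    rw [hV₀.range_fromSpec]
    rintro _ ⟨y, rfl⟩
    obtain ⟨x, rfl⟩ := surjective_quot (I.map φ₁) (map_nil φ₁ hI) y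
    have h3 : (Spec.map (CommRingCat.ofHom φ₁) ≫ m) (j₁ x) = h (g (k₁ x)) := by
      have := congrArg (fun f => f x) hkm
      simpa using this.symm
    rw [SetLike.mem_coe]
    change (Spec.map (CommRingCat.ofHom φ₁) ≫ m) (j₁ x) ∈ V₀
    rw [h3]
    exact hUV (hWU (hkW x))
  obtain ⟨ρ, hρ⟩ : ∃ ρ : Γ(V, V₀) →+* B₁, Spec.map (CommRingCat.ofHom ρ) ≫ hV₀.fromSpec =
      Spec.map (CommRingCat.ofHom φ₁) ≫ m :=
    ⟨(Spec.preimage (IsOpenImmersion.lift hV₀.fromSpec _ hrV)).hom, by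
      rw [CommRingCat.ofHom_hom, Spec.map_preimage, IsOpenImmersion.lift_fac]⟩
  obtain ⟨σ, hσ⟩ : ∃ σ : Γ(U, U₀) →+* B₁ ⧸ I.map φ₁, Spec.map (CommRingCat.ofHom σ) ≫ hU₀.fromSpec =
      k₁ ≫ g :=
    ⟨(Spec.preimage (IsOpenImmersion.lift hU₀.fromSpec _ hrU)).hom, by
      rw [CommRingCat.ofHom_hom, Spec.map_preimage, IsOpenImmersion.lift_fac]⟩
  have hsm := Smooth.smooth_appLE h hV₀ hU₀ hUV
  obtain ⟨B, _, χ, φ, κ, τ, hφ, hφe, hκ, hτ₁, hτ₂⟩ := exists_smooth_lift I φ₁ h₁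
    (h.appLE V₀ U₀ hUV).hom hsm ρ σ (by
      suffices hh : CommRingCat.ofHom (σ.comp (h.appLE V₀ U₀ hUV).hom) =
          CommRingCat.ofHom ((Ideal.Quotient.mk (I.map φ₁)).comp ρ) from
        congrArg (fun f => f.hom) hh
      apply Spec.map_injective
      rw [← cancel_mono hV₀.fromSpec, CommRingCat.ofHom_comp, CommRingCat.ofHom_comp, Spec.map_comp,
        Spec.map_comp, CommRingCat.ofHom_hom, Category.assoc, Category.assoc, hρ,
        IsAffineOpen.SpecMap_appLE_fromSpec h hV₀ hU₀ hUV, reassoc_of% hσ]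
      exact hkm)
  refine ⟨B, inferInstance, φ, Spec.map (CommRingCat.ofHom τ) ≫ hU₀.fromSpec,
    Spec.map (CommRingCat.ofHom (κ : _ →+* B ⧸ I.map φ)) ≫ k₁, hφe, ?_, ?_, ?_, ?_⟩
  · rw [Category.assoc, ← IsAffineOpen.SpecMap_appLE_fromSpec h hV₀ hU₀ hUV, ← Category.assoc, ← Spec.map_comp]
    have : h.appLE V₀ U₀ hUV ≫ CommRingCat.ofHom τ = CommRingCat.ofHom ρ ≫ CommRingCat.ofHom χ := by
      rw [← CommRingCat.ofHom_comp, ← hτ₁]; rfl
    rw [this, Spec.map_comp, Category.assoc, hρ, hφ, CommRingCat.ofHom_comp, Spec.map_comp, Category.assoc]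
  · rw [Category.assoc, hk₁, ← Spec.map_comp, ← CommRingCat.ofHom_comp]
    congr 2
    refine Ideal.Quotient.ringHom_ext (RingHom.ext fun x => ?_)
    subst hφ
    exact congrArg (fun f => f (φ₁ x)) hκ
  · rw [Category.assoc, ← hσ, ← Category.assoc, ← Spec.map_comp, ← CommRingCat.ofHom_comp, ← hτ₂,
      CommRingCat.ofHom_comp, Spec.map_comp, Category.assoc]
  · have : w₁ ∈ Set.range k₀ := by rw [hW₀.range_fromSpec]; exact hw
    obtain ⟨z, hz⟩ := this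
    obtain ⟨z₁, hz₁⟩ := surjective_equiv ψ z
    obtain ⟨z₂, hz₂⟩ := surjective_equiv κ z₁
    refine ⟨z₂, ?_⟩
    change k₀ (Spec.map (CommRingCat.ofHom (ψ : _ →+* B₁ ⧸ I.map φ₁))
      (Spec.map (CommRingCat.ofHom (κ : _ →+* B ⧸ I.map φ)) z₂)) = w₁
    rw [hz₂, hz₁, hz]

end K634.LocLift
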