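import Groth.Agent.AlgSp.K634.LocLift
import Groth.Agent.AlgSp.K634.Formal
import Groth.Agent.AlgSp.K616.Refine
import Groth.Prelude.Def_AlgSpInf

/-!
# Étale-local lifting along thickenings of algebraic spaces
-/

set_option autoImplicit false

universe u

open CategoryTheory CategoryTheory.Limits AlgebraicGeometry Opposite

namespace K634.LocLiftSp

open AlgSp K634.Quot K634.LocLift K634.Formal

variable {S : Scheme.{u}}

/-- An affine étale chart of `T'` through a given point which lies over a given chart of `Y`. -/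
theorem exists_spec_chart {T' Y : Sp S} (hT' : IsAlgSpace T') (b : T' ⟶ Y) {V : Over S}
    (b' : (yon S).obj V ⟶ Y) (h1 : RepWith @Etale b') (h2 : RepWith @Surjective b') (t' : Points T') :
    ∃ (A : Type u) (_ : CommRing A) (str : Spec (.of A) ⟶ S) (e : (yon S).obj (Over.mk str) ⟶ T')
      (m : Over.mk str ⟶ V) (v : Spec (.of A)), RepWith @Etale e ∧ Points.ofPt e v = t' ∧
        e ≫ b = (yon S).map m ≫ b' := by
  obtain ⟨T0, p0, hp1, hp2⟩ := hT'.atlas
  obtain ⟨T1, t1, n, hT1⟩ := h1.1 (p0 ≫ b)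
  obtain ⟨n, rfl⟩ := (yon S).map_surjective n
  have he : Etale t1.left := h1.2 _ _ _ hT1
  have hs : Surjective t1.left := h2.2 _ _ _ hT1
  obtain ⟨x₀, hx₀⟩ := K616.Refine.ofPt_surjective p0 hp2 t'
  obtain ⟨x, rfl⟩ := hs.surj x₀
  obtain ⟨W, hW, hx, -⟩ := (TopologicalSpace.Opens.isBasis_iff_nbhd.1 T1.left.isBasis_affineOpens)
    (show x ∈ (⊤ : T1.left.Opens) from trivial)
  let j : Over.mk (IsAffineOpen.fromSpec hW ≫ T1.hom) ⟶ T1 := Over.homMk (IsAffineOpen.fromSpec hW) rfl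
  obtain ⟨v, hv⟩ : x ∈ Set.range (IsAffineOpen.fromSpec hW) := by
    rw [IsAffineOpen.range_fromSpec]; exact hx
  have hj : Etale (j ≫ t1).left := by
    change Etale (IsAffineOpen.fromSpec hW ≫ t1.left)
    infer_instance
  refine ⟨Γ(T1.left, W), inferInstance, IsAffineOpen.fromSpec hW ≫ T1.hom, (yon S).map (j ≫ t1) ≫ p0,
    j ≫ n, v, ?_, ?_, ?_⟩
  · exact (RepWith @Etale).comp_mem _ _ ((repWith_yon_map_iff _ _).2 hj) hp1
  · refine (K616.Refine.ofPt_comp (j ≫ t1) p0 v).trans ?_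
    rw [← hx₀, ← hv]
    rfl
  · rw [Functor.map_comp, Functor.map_comp, Category.assoc, Category.assoc, ← hT1.w, Category.assoc]

/-- The pullback of a thickening to `Spec A` is `Spec (A/I)` with `I` nil. -/
theorem exists_std_thick {T T' : Sp S} {i : T ⟶ T'} (hi : IsThickMor i) {A : Type u} [CommRing A]
    {str : Spec (.of A) ⟶ S} (e : (yon S).obj (Over.mk str) ⟶ T') :
    ∃ (I : Ideal A) (_ : ∀ x ∈ I, IsNilpotent x)
      (w : (yon S).obj (Over.mk (Spec.map (CommRingCat.ofHom (Ideal.Quotient.mk I)) ≫ str)) ⟶ T),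
      IsPullback w ((yon S).map (stdJ A I str)) i e := by
  obtain ⟨W, s, q, sq⟩ := hi.1 e
  have hs : thick s.left := hi.2 _ _ _ sq
  have h1 : IsClosedImmersion s.left := hs.1
  have h2 : Surjective s.left := hs.2
  obtain ⟨I, ε, hε⟩ := (IsClosedImmersion.Spec_iff (R := .of A) (f := s.left)).1 h1
  have hw : ε.hom ≫ Spec.map (CommRingCat.ofHom (Ideal.Quotient.mk I)) ≫ str = W.hom := by
    have := Over.w s
    rw [← this, hε, Category.assoc]
    rfl
  let ε' : W ≅ Over.mk (Spec.map (CommRingCat.ofHom (Ideal.Quotient.mk I)) ≫ str) := Over.isoMk ε hw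
  refine ⟨I, ?_, (yon S).map ε'.inv ≫ q, ?_⟩
  · intro x hx
    have h3 : Function.Surjective (Spec.map (CommRingCat.ofHom (Ideal.Quotient.mk I))) := by
      have : Spec.map (CommRingCat.ofHom (Ideal.Quotient.mk I)) = ε.inv ≫ s.left := by
        rw [hε, Iso.inv_hom_id_assoc]
      rw [this]
      exact (ε.inv ≫ s.left).surjective
    rw [← mem_nilradical, nilradical_eq_sInf, Submodule.mem_sInf]
    intro p hp
    obtain ⟨y, hy⟩ := h3 (⟨p, hp⟩ : PrimeSpectrum A)
    have : x ∈ (⟨p, hp⟩ : PrimeSpectrum A).asIdeal := by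
      rw [← hy]
      change Ideal.Quotient.mk I x ∈ y.asIdeal
      rw [Ideal.Quotient.eq_zero_iff_mem.2 hx]
      exact y.asIdeal.zero_mem
    exact this
  · refine IsPullback.of_iso sq ((yon S).mapIso ε') (Iso.refl _) (Iso.refl _) (Iso.refl _) ?_ ?_ ?_ ?_
    · simp
    · have : ε'.hom ≫ stdJ A I str = s := by
        ext1
        exact hε.symm
      simp only [Functor.mapIso_hom, ← Functor.map_comp, this, Iso.refl_hom, Category.comp_id]
    · simp
    · simp

theorem exists_lift {X Y T T' : Sp S} (hX : IsAlgSpace X) (hY : IsAlgSpace Y) (hT' : IsAlgSpace T')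
    (f : X ⟶ Y) (hf : LocP @Smooth f) (i : T ⟶ T') (hi : IsThickMor i) (a : T ⟶ X) (b : T' ⟶ Y)
    (w : a ≫ f = i ≫ b) (t' : Points T') :
    ∃ (V : Over S) (e : (yon S).obj V ⟶ T') (ℓ : (yon S).obj V ⟶ X),
      RepWith @Etale e ∧ t' ∈ Set.range (Points.ofPt e) ∧ ℓ ≫ f = e ≫ b ∧
      ∀ (P : Sp S) (p₁ : P ⟶ T) (p₂ : P ⟶ (yon S).obj V),
        IsPullback p₁ p₂ i e → p₂ ≫ ℓ = p₁ ≫ a := by
  obtain ⟨V, b', hb1, hb2⟩ := hY.atlas
  obtain ⟨U₀, a₀, ha1, ha2⟩ := hX.atlas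
  obtain ⟨U, s, h, hU⟩ := hb1.1 (a₀ ≫ f)
  obtain ⟨h, rfl⟩ := (yon S).map_surjective h
  have hs : Etale s.left := hb1.2 _ _ _ hU
  have hsm : Smooth h.left := by
    refine hf ((yon S).map s ≫ a₀) b' h ?_ hb1 ?_
    · exact (RepWith @Etale).comp_mem _ _ ((repWith_yon_map_iff _ _).2 hs) ha1
    · rw [Category.assoc, hU.w]
  obtain ⟨A, _, str, e, m, v, he, hv, hm⟩ := exists_spec_chart hT' b b' hb1 hb2 t'
  obtain ⟨I, hI, p, hp⟩ := exists_std_thick hi e
  -- the étale cover of `Spec (A/I)` on which `a` lifts to the chart `U₀`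
  obtain ⟨W₁, q, r, hW₁⟩ := ha1.1 (p ≫ a)
  obtain ⟨r, rfl⟩ := (yon S).map_surjective r
  have hq : Etale q.left := ha1.2 _ _ _ hW₁
  have hq' : Surjective q.left := ha2.2 _ _ _ hW₁
  -- the map to `U`
  have hg : ((yon S).map r) ≫ a₀ ≫ f = (yon S).map (q ≫ stdJ A I str ≫ m) ≫ b' := by
    rw [← Category.assoc, hW₁.w, Functor.map_comp, Functor.map_comp, Category.assoc, Category.assoc,
      Category.assoc, Category.assoc, w, ← hm, ← Category.assoc p, hp.w, Category.assoc]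
  obtain ⟨g, hg'⟩ := (yon S).map_surjective (hU.flip.lift _ _ hg)
  have hg1 : g ≫ s = r := (yon S).map_injective (by rw [Functor.map_comp, hg', hU.flip.lift_fst])
  have hg2 : g ≫ h = q ≫ stdJ A I str ≫ m :=
    (yon S).map_injective (by rw [Functor.map_comp, hg', hU.flip.lift_snd])
  -- the local lift
  obtain ⟨y, hy⟩ := surjective_quot I hI v
  obtain ⟨w₁, hw₁⟩ := hq'.surj y
  obtain ⟨B, _, φ, ℓ, k, hφ, hℓ, hkq, hkg, hk⟩ := exists_local_lift I hI h.left m.left q.left g.left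
    (congrArg (fun f => f.left) hg2) w₁
  let c : Over.mk (Spec.map (CommRingCat.ofHom φ) ≫ str) ⟶ Over.mk str :=
    Over.homMk (Spec.map (CommRingCat.ofHom φ)) rfl
  have hm' : m.left ≫ V.hom = str := Over.w m
  let ℓ' : Over.mk (Spec.map (CommRingCat.ofHom φ) ≫ str) ⟶ U := Over.homMk ℓ (by
    rw [← Over.w h, reassoc_of% hℓ, hm']
    rfl)
  let z : Over.mk (Spec.map (CommRingCat.ofHom (Ideal.Quotient.mk (I.map φ))) ≫
      Spec.map (CommRingCat.ofHom φ) ≫ str) ⟶ _ := stdJ B (I.map φ) (Spec.map (CommRingCat.ofHom φ) ≫ str)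
  let z' : Over.mk (Spec.map (CommRingCat.ofHom (Ideal.Quotient.mk (I.map φ))) ≫
      Spec.map (CommRingCat.ofHom φ) ≫ str) ⟶
      Over.mk (Spec.map (CommRingCat.ofHom (Ideal.Quotient.mk I)) ≫ str) :=
    Over.homMk (Spec.map (CommRingCat.ofHom (qmap φ I))) (by
      have := (isPullback_quot φ I).w
      simp only [Over.mk_left, Over.mk_hom]
      rw [← Category.assoc, ← Category.assoc, this])
  have hzc : z ≫ c = z' ≫ stdJ A I str := by
    ext1
    exact (isPullback_quot φ I).w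
  let k' : Over.mk (Spec.map (CommRingCat.ofHom (Ideal.Quotient.mk (I.map φ))) ≫
      Spec.map (CommRingCat.ofHom φ) ≫ str) ⟶ W₁ := Over.homMk k (by
    rw [← Over.w q, reassoc_of% hkq]
    exact Over.w z')
  have hk1 : k' ≫ q = z' := by
    ext1
    exact hkq
  have hk2 : k' ≫ g = z ≫ ℓ' := by
    ext1
    exact hkg
  have hℓ' : ℓ' ≫ h = c ≫ m := by
    ext1
    exact hℓ
  refine ⟨Over.mk (Spec.map (CommRingCat.ofHom φ) ≫ str), (yon S).map c ≫ e, (yon S).map (ℓ' ≫ s) ≫ a₀,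
    ?_, ?_, ?_, ?_⟩
  · exact (RepWith @Etale).comp_mem _ _ ((repWith_yon_map_iff _ _).2 hφ) he
  · obtain ⟨ζ, hζ⟩ := hk
    refine ⟨z.left ζ, ?_⟩
    rw [K616.Refine.ofPt_comp, ← hv]
    congr 1
    have h1 : c.left (z.left ζ) = (stdJ A I str).left (z'.left ζ) :=
      congrArg (fun f => f.left ζ) hzc
    rw [h1, ← hy]
    change (stdJ A I str).left (z'.left ζ) = (stdJ A I str).left y
    congr 1
    rw [← hk1, ← hw₁, ← hζ]
    rfl
  · have e1 := congrArg (yon S).map hℓ'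
    rw [Functor.map_comp, Functor.map_comp] at e1
    rw [Functor.map_comp, Category.assoc, Category.assoc, ← hU.w, reassoc_of% e1, Category.assoc, hm]
  · intro P p₁ p₂ sq
    obtain ⟨p', hp1, hp2⟩ : ∃ p' : P ⟶ _, p' ≫ p = p₁ ∧ p' ≫ (yon S).map (stdJ A I str) =
        p₂ ≫ (yon S).map c :=
      ⟨hp.lift p₁ (p₂ ≫ (yon S).map c) (by rw [sq.w, Category.assoc]), hp.lift_fst _ _ _,
        hp.lift_snd _ _ _⟩
    have hzpb : IsPullback z z' c (stdJ A I str) :=
      IsPullback.of_map (Over.forget S) hzc (isPullback_quot φ I)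
    obtain ⟨t, ht1, ht2⟩ : ∃ t : P ⟶ _, t ≫ (yon S).map z = p₂ ∧ t ≫ (yon S).map z' = p' :=
      ⟨(hzpb.map (yon S)).lift p₂ p' hp2.symm, (hzpb.map (yon S)).lift_fst _ _ _,
        (hzpb.map (yon S)).lift_snd _ _ _⟩
    rw [← hp1, ← ht1, ← ht2, ← hk1]
    have e1 := congrArg (yon S).map hk2
    rw [Functor.map_comp, Functor.map_comp] at e1
    simp only [Functor.map_comp, Category.assoc]
    rw [← hW₁.w, ← hg1, Functor.map_comp, Category.assoc, reassoc_of% e1]

end K634.LocLiftSp
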