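import Groth.Agent.AlgSp.K597.UnivInj
import Groth.Agent.AlgSp.K597.EtLoc
import Groth.Agent.AlgSp.K597.LocP
import Groth.Agent.AlgSp.K634.Charts
import Groth.Agent.S10262

/-!
# Unramified monomorphisms of algebraic spaces
-/

set_option autoImplicit false

universe u

open CategoryTheory CategoryTheory.Limits AlgebraicGeometry Opposite

namespace K634.MonoTfae

open AlgSp K634.Formal K634.Charts

variable {S : Scheme.{u}}

section

variable {X Y : Sp S} (hX : IsAlgSpace X) (hY : IsAlgSpace Y) (f : X ⟶ Y)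

include hX hY in
theorem unram_of_mono (h : LocP @LocallyOfFiniteType f) [CategoryTheory.Mono f] :
    LocP (@LocallyOfFiniteType ⊓ @FormallyUnramified) f := by
  refine K597.locP_inf_iff.2 ⟨h, (unramified_iff_locP f hX hY).1 ?_⟩
  rw [unramified_iff]
  intro A _ I hI str
  exact Unq.of_mono

include hX in
theorem univInj_of_mono [CategoryTheory.Mono f] : IsUnivInjectiveMor f :=
  (K597.UnivInj.injective_points_iff hX.diag f).1 fun _ _ _ _ _ h => (cancel_mono f).1 h

theorem isSeparatedMor_of_mono [CategoryTheory.Mono f] : IsSeparatedMor f :=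
  MorphismProperty.of_isIso (RepWith @IsClosedImmersion) (pullback.diagonal f)

theorem lqf_of_unram (h : LocP (@LocallyOfFiniteType ⊓ @FormallyUnramified) f) :
    LocP (@LocallyQuasiFinite ⊓ @LocallyOfFiniteType) f := by
  refine K597.locP_mono ?_ h
  intro A B g hg
  have := hg.1
  have := hg.2
  exact ⟨K597.locallyQuasiFinite_of_unramified g, hg.1⟩

end

theorem mono_of_unram_univInj {X Y : Space S} (f : X ⟶ Y)
    (h : LocP (@LocallyOfFiniteType ⊓ @FormallyUnramified) f.hom) (hi : IsUnivInjectiveMor f.hom) :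
    CategoryTheory.Mono f.hom := by
  have h1 : RepWith @IsOpenImmersion (pullback.diagonal f.hom) := (Groth.Agent.S10262.result f).1 h
  have h2 : RepWith @Surjective (pullback.diagonal f.hom) :=
    K596.Pts.repWith_surjective_of_surjective h1.1 (K597.UnivInj.surjective_diagonal_of_univInj hi)
  refine K613.Mono.mono_of_repWith_diagonal ⟨h1.1, fun U V g fst snd sq => ?_⟩
  exact (isIso_iff_isOpenImmersion_and_surjective _).2 ⟨h1.2 _ _ _ sq, h2.2 _ _ _ sq⟩

theorem tfae {X Y : Space S} (f : X ⟶ Y) :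
    ((LocP (@LocallyOfFiniteType ⊓ @FormallyUnramified) f.hom ∧ CategoryTheory.Mono f.hom) ↔
      (LocP (@LocallyOfFiniteType ⊓ @FormallyUnramified) f.hom ∧ IsUnivInjectiveMor f.hom)) ∧
    ((LocP (@LocallyOfFiniteType ⊓ @FormallyUnramified) f.hom ∧ CategoryTheory.Mono f.hom) ↔
      (LocP @LocallyOfFiniteType f.hom ∧ CategoryTheory.Mono f.hom)) ∧
    ((LocP (@LocallyOfFiniteType ⊓ @FormallyUnramified) f.hom ∧ CategoryTheory.Mono f.hom) ↔
      (IsUnivInjectiveMor f.hom ∧ LocP @LocallyOfFiniteType f.hom ∧ IsFormallyUnramifiedMor f.hom)) ∧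
    (LocP @LocallyOfFiniteType f.hom ∧ CategoryTheory.Mono f.hom →
      IsSeparatedMor f.hom ∧ LocP (@LocallyQuasiFinite ⊓ @LocallyOfFiniteType) f.hom) := by
  refine ⟨⟨fun h => ⟨h.1, ?_⟩, fun h => ⟨h.1, mono_of_unram_univInj f h.1 h.2⟩⟩,
    ⟨fun h => ⟨(K597.locP_inf_iff.1 h.1).1, h.2⟩, fun h => ⟨?_, h.2⟩⟩,
    ⟨fun h => ⟨?_, (K597.locP_inf_iff.1 h.1).1,
      (unramified_iff_locP f.hom X.property Y.property).2 (K597.locP_inf_iff.1 h.1).2⟩, fun h => ?_⟩, fun h => ?_⟩
  · have := h.2
    exact univInj_of_mono X.property f.hom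
  · have := h.2
    exact unram_of_mono X.property Y.property f.hom h.1
  · have := h.2
    exact univInj_of_mono X.property f.hom
  · have h1 : LocP (@LocallyOfFiniteType ⊓ @FormallyUnramified) f.hom :=
      K597.locP_inf_iff.2 ⟨h.2.1, (unramified_iff_locP f.hom X.property Y.property).1 h.2.2⟩
    exact ⟨h1, mono_of_unram_univInj f h1 h.1⟩
  · have := h.2
    exact ⟨isSeparatedMor_of_mono f.hom, lqf_of_unram _ (unram_of_mono X.property Y.property f.hom h.1)⟩

end K634.MonoTfae
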