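import Mathlib.RingTheory.Filtration
import Mathlib.LinearAlgebra.Pi
import Mathlib.RingTheory.Finiteness.Ideal

/-!
# Two consequences of the Artin-Rees lemma

* `exists_torsion_eq_zero` : elements killed by `I^e` and divisible by a large power of `I` vanish.
* `exists_mem_add_torsion` : if `I^e x ⊂ I^n M` then `x ∈ I^(n-c) M +` (`I^e`-torsion).
-/

set_option autoImplicit false

namespace K634.ReesAR

variable {A : Type*} [CommRing A] [IsNoetherianRing A] (I : Ideal A) (M : Type*) [AddCommGroup M] [Module A M]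
  [Module.Finite A M] (e : ℕ)

theorem exists_torsion_eq_zero : ∃ c : ℕ, ∀ n, c ≤ n → ∀ x ∈ (I ^ n • ⊤ : Submodule A M), (∀ a ∈ I ^ e, a • x = 0) → x = 0 := by
  let N : Submodule A M :=
    { carrier := {x | ∀ a ∈ I ^ e, a • x = 0}
      add_mem' := fun hx hy a ha ↦ by rw [smul_add, hx a ha, hy a ha, add_zero]
      zero_mem' := fun a _ ↦ smul_zero a
      smul_mem' := fun r x hx a ha ↦ by rw [smul_comm, hx a ha, smul_zero] }
  obtain ⟨k, hk⟩ := I.exists_pow_inf_eq_pow_smul N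
  refine ⟨k + e, fun n hn x hx hxN ↦ ?_⟩
  have h1 : x ∈ I ^ (n - k) • (I ^ k • ⊤ ⊓ N) := by
    rw [← hk n (by omega)]
    exact ⟨hx, hxN⟩
  have h2 : I ^ (n - k) • (I ^ k • ⊤ ⊓ N) ≤ I ^ e • N :=
    Submodule.smul_mono (Ideal.pow_le_pow_right (by omega)) inf_le_right
  have h3 := h2 h1
  refine Submodule.smul_induction_on h3 (fun a ha y hy ↦ hy a ha) (fun y z hy hz ↦ by rw [hy, hz, add_zero])

theorem exists_mem_add_torsion : ∃ c : ℕ, ∀ n, c ≤ n → ∀ x : M, (∀ a ∈ I ^ e, a • x ∈ (I ^ n • ⊤ : Submodule A M)) →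
    ∃ y ∈ (I ^ (n - c) • ⊤ : Submodule A M), ∀ a ∈ I ^ e, a • (x - y) = 0 := by
  classical
  obtain ⟨s, hs⟩ := (isNoetherian_def.mp inferInstance (I ^ e) : (I ^ e).FG)
  let φ : M →ₗ[A] (s → M) := LinearMap.pi fun a ↦ (a : A) • LinearMap.id
  obtain ⟨k, hk⟩ := I.exists_pow_inf_eq_pow_smul (LinearMap.range φ)
  refine ⟨k, fun n hn x hx ↦ ?_⟩
  have h1 : φ x ∈ (I ^ n • ⊤ : Submodule A (s → M)) := by
    have h2 : φ x = ∑ a, LinearMap.single A (fun _ : s ↦ M) a (φ x a) := by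
      exact (LinearMap.sum_single_apply (φ := fun _ : s ↦ M) (φ x)).symm
    rw [h2]
    refine Submodule.sum_mem _ fun a _ ↦ ?_
    have h3 : (I ^ n • ⊤ : Submodule A M).map (LinearMap.single A (fun _ : s ↦ M) a) ≤ I ^ n • ⊤ := by
      rw [Submodule.map_smul'']
      exact Submodule.smul_mono le_rfl le_top
    exact h3 (Submodule.mem_map_of_mem (hx a (hs ▸ Submodule.subset_span a.2)))
  have h2 : φ x ∈ I ^ (n - k) • (I ^ k • ⊤ ⊓ LinearMap.range φ) := by
    rw [← hk n hn]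
    exact ⟨h1, x, rfl⟩
  have h3 : φ x ∈ (I ^ (n - k) • ⊤ : Submodule A M).map φ := by
    rw [Submodule.map_smul'', Submodule.map_top]
    exact Submodule.smul_mono le_rfl inf_le_right h2
  obtain ⟨y, hy, hxy⟩ := h3
  refine ⟨y, hy, fun a ha ↦ ?_⟩
  rw [← hs] at ha
  refine Submodule.span_induction (p := fun a _ ↦ a • (x - y) = 0) ?_ (zero_smul _ _) ?_ ?_ ha
  · intro a ha
    have := congrFun hxy ⟨a, ha⟩
    have h4 : a • y = a • x := this
    rw [smul_sub, h4, sub_self]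
  · intro a b _ _ ha hb
    rw [add_smul, ha, hb, add_zero]
  · intro r a _ ha
    rw [smul_eq_mul, mul_smul, ha, smul_zero]

end K634.ReesAR
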