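import Groth.Agent.AlgSp.K634.ReesEq
import Mathlib.AlgebraicGeometry.Morphisms.ClosedImmersion
import Mathlib.AlgebraicGeometry.IdealSheaf.Functorial

/-!
# The Rees algebra of a chart as a closed subscheme
-/

set_option autoImplicit false

universe u

open CategoryTheory CategoryTheory.Limits AlgebraicGeometry Opposite Polynomial

namespace K634.ReesSch

theorem exists_psi {A B : CommRingCat.{u}} (I : Ideal A) (φ : A ⟶ B) {W1 : Scheme.{u}} [IsAffine W1]
    (g : Spec (CommRingCat.of B[X]) ⟶ W1) (b1 : W1 ⟶ Spec B) (r1 : W1 ⟶ Spec (CommRingCat.of (reesAlgebra I)))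
    (hb : g ≫ b1 = Spec.map (CommRingCat.ofHom Polynomial.C))
    (hr : g ≫ r1 = Spec.map (CommRingCat.ofHom ((Polynomial.mapRingHom φ.hom).comp (reesAlgebra I).val.toRingHom)))
    {Z : Scheme.{u}} (z : Z ⟶ W1) [IsClosedImmersion z] (hz : z.ker = g.ker) :
    letI : Algebra (reesAlgebra I) Γ(Z, ⊤) := ((Scheme.ΓSpecIso (CommRingCat.of (reesAlgebra I))).inv ≫ (z ≫ r1).appTop).hom.toAlgebra
    ∃ ψ : Γ(Z, ⊤) →+* B[X], Function.Injective ψ ∧
      (∀ r : reesAlgebra I, ψ (algebraMap _ _ r) = Polynomial.map φ.hom r.1) ∧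
      ∀ f : B[X], (∀ i, f.coeff i ∈ (I ^ i).map φ.hom) → ∃ x, ψ x = f := by
  let _ : Algebra (reesAlgebra I) Γ(Z, ⊤) := ((Scheme.ΓSpecIso (CommRingCat.of (reesAlgebra I))).inv ≫ (z ≫ r1).appTop).hom.toAlgebra
  let κ : Spec (CommRingCat.of B[X]) ⟶ Z := IsClosedImmersion.lift z g hz.le
  have hκ : κ ≫ z = g := IsClosedImmersion.lift_fac _ _ _
  have hκa : z.appTop ≫ κ.appTop = g.appTop := by rw [← Scheme.Hom.comp_appTop, hκ]
  let e := Scheme.ΓSpecIso (CommRingCat.of B[X])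
  have hej : Function.Injective e.hom.hom := (ConcreteCategory.bijective_of_isIso e.hom).1
  have hC : b1.appTop ≫ z.appTop ≫ κ.appTop ≫ e.hom = (Scheme.ΓSpecIso B).hom ≫ CommRingCat.ofHom Polynomial.C := by
    rw [reassoc_of% hκa]
    have h1 := congrArg Scheme.Hom.appTop hb
    rw [Scheme.Hom.comp_appTop] at h1
    rw [reassoc_of% h1, Scheme.ΓSpecIso_naturality]
    rfl
  have hR : r1.appTop ≫ z.appTop ≫ κ.appTop ≫ e.hom = (Scheme.ΓSpecIso (CommRingCat.of (reesAlgebra I))).hom ≫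
      CommRingCat.ofHom ((Polynomial.mapRingHom φ.hom).comp (reesAlgebra I).val.toRingHom) := by
    rw [reassoc_of% hκa]
    have h1 := congrArg Scheme.Hom.appTop hr
    rw [Scheme.Hom.comp_appTop] at h1
    rw [reassoc_of% h1, Scheme.ΓSpecIso_naturality]
  let ψ := (κ.appTop ≫ e.hom).hom
  have hψR : ∀ r : reesAlgebra I, ψ (algebraMap _ _ r) = Polynomial.map φ.hom r.1 := by
    intro r
    have h1 := ConcreteCategory.congr_hom hR ((Scheme.ΓSpecIso (CommRingCat.of (reesAlgebra I))).inv.hom r)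
    have h2 : (Scheme.ΓSpecIso (CommRingCat.of (reesAlgebra I))).hom.hom
      ((Scheme.ΓSpecIso (CommRingCat.of (reesAlgebra I))).inv.hom r) = r := by
      rw [← CommRingCat.comp_apply, Iso.inv_hom_id]
      rfl
    change ψ ((z ≫ r1).appTop.hom ((Scheme.ΓSpecIso (CommRingCat.of (reesAlgebra I))).inv.hom r)) = _
    rw [Scheme.Hom.comp_appTop]
    refine Eq.trans h1 ?_
    change Polynomial.map φ.hom ((Scheme.ΓSpecIso (CommRingCat.of (reesAlgebra I))).hom.hom
      ((Scheme.ΓSpecIso (CommRingCat.of (reesAlgebra I))).inv.hom r) : reesAlgebra I).1 = _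
    rw [h2]
  have hψC : ∀ b : B, ∃ x, ψ x = Polynomial.C b := by
    intro b
    refine ⟨z.appTop.hom (b1.appTop.hom ((Scheme.ΓSpecIso B).inv.hom b)), ?_⟩
    have h1 := ConcreteCategory.congr_hom hC ((Scheme.ΓSpecIso B).inv.hom b)
    refine Eq.trans h1 ?_
    change Polynomial.C ((Scheme.ΓSpecIso B).hom.hom ((Scheme.ΓSpecIso B).inv.hom b)) = _
    rw [← CommRingCat.comp_apply, Iso.inv_hom_id]
    rfl
  refine ⟨ψ, ?_, hψR, ?_⟩
  · rw [injective_iff_map_eq_zero]
    intro x hx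
    obtain ⟨-, hsurj⟩ := IsClosedImmersion.isAffine_surjective_of_isAffine z
    obtain ⟨y, rfl⟩ := hsurj x
    have h1 : g.appTop.hom y = 0 := by
      rw [← hκa]
      exact hej (by rw [map_zero]; exact hx)
    have h2 : y ∈ g.ker.ideal ⟨⊤, isAffineOpen_top W1⟩ := by
      rw [Scheme.Hom.ker_apply]
      exact h1
    rw [← hz, Scheme.Hom.ker_apply] at h2
    exact h2
  · intro f hf
    have hmem : ∀ f : B[X], f ∈ ψ.range ↔ ∃ x, ψ x = f := fun f ↦ Iff.rfl
    rw [← hmem]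
    rw [f.as_sum_support]
    refine Subring.sum_mem _ fun i _ ↦ ?_
    have h1 := hf i
    refine Submodule.span_induction (p := fun b _ ↦ monomial i b ∈ ψ.range) ?_ ?_ ?_ ?_ h1
    · rintro _ ⟨a, ha, rfl⟩
      refine ⟨algebraMap _ _ (⟨monomial i a, reesAlgebra.monomial_mem.2 ha⟩ : reesAlgebra I), ?_⟩
      rw [hψR, Polynomial.map_monomial]
    · rw [map_zero]
      exact Subring.zero_mem _
    · intro a b _ _ ha hb
      rw [map_add]
      exact Subring.add_mem _ ha hb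
    · intro b b' _ hb'
      rw [smul_eq_mul, ← Polynomial.C_mul_monomial]
      exact Subring.mul_mem _ (hψC b) hb'

end K634.ReesSch
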