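import Groth.Agent.AlgSp.K634.CoeqFin
import Groth.Agent.AlgSp.K634.ReesSch
import Groth.Agent.AlgSp.K634.LocEff
import Groth.Agent.AlgSp.K597.ProperSub
import Groth.Agent.AlgSp.K598.SchImg
import Mathlib.RingTheory.PolynomialAlgebra

/-!
# The constant of a proper morphism which is an isomorphism off a closed subscheme
-/

set_option autoImplicit false

universe u

open CategoryTheory CategoryTheory.Limits AlgebraicGeometry Opposite Polynomial TensorProduct

namespace K634.ReesSp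

open AlgSp K634.ReesEq K634.CoeqFin

variable {S : Scheme.{u}}

theorem isPullback_polynomial {A B : CommRingCat.{u}} (φ : A ⟶ B) :
    IsPullback (Spec.map (CommRingCat.ofHom (Polynomial.C : B →+* B[X])))
      (Spec.map (CommRingCat.ofHom (Polynomial.mapRingHom φ.hom))) (Spec.map φ)
      (Spec.map (CommRingCat.ofHom (Polynomial.C : A →+* A[X]))) := by
  let _ := φ.hom.toAlgebra
  let _ : Algebra A[X] B[X] := Polynomial.algebra A B
  have h : Algebra.IsPushout A B A[X] B[X] := inferInstance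
  have h2 := CommRingCat.isPushout_of_isPushout A B A[X] B[X]
  exact isPullback_SpecMap_of_isPushout _ _ _ _ h2

theorem locallyOfFiniteType_chart {Y : Sp S} {V W : Over S} {f : Y ⟶ (yon S).obj V} (hf : LocP @LocallyOfFiniteType f)
    {w : (yon S).obj W ⟶ Y} (hw : RepWith @Etale w) (q : W ⟶ V) (hwf : w ≫ f = (yon S).map q) :
    LocallyOfFiniteType q.left :=
  hf w (𝟙 _) q hw (repWith_id _ V) (by rw [hwf, Category.comp_id])

/-- The finiteness of the equalizer of the Rees algebra. -/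
theorem exists_rees (HC : CoeqHyp S) {A B : CommRingCat.{u}} [hAN : IsNoetherianRing A] (I : Ideal A) (sA : Spec A ⟶ S)
    (φ : A ⟶ B) {Y : Space S} (f : Y ⟶ (ofScheme S).obj (Over.mk sA)) (hf : IsProperMor f.hom)
    (w : (yon S).obj (Over.mk (Spec.map φ ≫ sA)) ⟶ Y.obj) (hw : RepWith @Etale w) (hws : RepWith @Surjective w)
    (hwf : w ≫ f.hom = (yon S).map (Over.homMk (Spec.map φ) rfl)) :
    ∃ (V : CommRingCat.{u}) (_ : Algebra (reesAlgebra I) V) (ψ : V →+* B[X]),
      Algebra.FiniteType (reesAlgebra I) V ∧ (Subalgebra.toSubmodule (eqz (reesAlgebra I) V)).FG ∧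
      Function.Injective ψ ∧
      (∀ r : reesAlgebra I, ψ (algebraMap _ _ r) = Polynomial.map φ.hom r.1) ∧
      ∀ f : B[X], (∀ i, f.coeff i ∈ (I ^ i).map φ.hom) → ∃ x, ψ x = f := by
  let RA : CommRingCat.{u} := CommRingCat.of (reesAlgebra I)
  let AX : CommRingCat.{u} := CommRingCat.of A[X]
  let BX : CommRingCat.{u} := CommRingCat.of B[X]
  let ρ : A ⟶ RA := CommRingCat.ofHom (algebraMap A (reesAlgebra I))
  let σ : RA ⟶ AX := CommRingCat.ofHom (reesAlgebra I).val.toRingHom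
  let μ : AX ⟶ BX := CommRingCat.ofHom (Polynomial.mapRingHom φ.hom)
  let cB : B ⟶ BX := CommRingCat.ofHom Polynomial.C
  have hρσ : ρ ≫ σ = CommRingCat.ofHom (Polynomial.C : A →+* A[X]) := rfl
  let sR : Spec RA ⟶ S := Spec.map ρ ≫ sA
  let VA : Over S := Over.mk sA
  let V1 : Over S := Over.mk sR
  let v1 : V1 ⟶ VA := Over.homMk (Spec.map ρ) rfl
  let V2 : Over S := Over.mk (Spec.map σ ≫ sR)
  let v21 : V2 ⟶ V1 := Over.homMk (Spec.map σ) rfl
  let WB : Over S := Over.mk (Spec.map φ ≫ sA)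
  let q : WB ⟶ VA := Over.homMk (Spec.map φ) rfl
  let W2 : Over S := Over.mk (Spec.map μ ≫ Spec.map σ ≫ sR)
  let q2 : W2 ⟶ V2 := Over.homMk (Spec.map μ) rfl
  have hcomm : φ ≫ cB = (ρ ≫ σ) ≫ μ := by
    rw [hρσ]
    exact CommRingCat.hom_ext (RingHom.ext fun x ↦ (Polynomial.map_C φ.hom).symm)
  let b2 : W2 ⟶ WB := Over.homMk (Spec.map cB) (by
    change Spec.map cB ≫ Spec.map φ ≫ sA = Spec.map μ ≫ Spec.map σ ≫ Spec.map ρ ≫ sA
    rw [← Spec.map_comp_assoc, hcomm, Spec.map_comp, Spec.map_comp]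
    simp only [Category.assoc])
  have hsqW2 : IsPullback b2 q2 q (v21 ≫ v1) := by
    refine IsPullback.of_map (Over.forget S) ?_ ?_
    · ext1
      change Spec.map cB ≫ Spec.map φ = Spec.map μ ≫ Spec.map σ ≫ Spec.map ρ
      rw [← Spec.map_comp, hcomm, Spec.map_comp, Spec.map_comp]
    · have h := isPullback_polynomial φ
      rw [← hρσ, Spec.map_comp] at h
      exact h
  have hsqW1 : IsPullback (pullback.fst q v1) (pullback.snd q v1) q v1 := IsPullback.of_hasPullback _ _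
  set W1 : Over S := pullback q v1 with hW1
  set b1 : W1 ⟶ WB := pullback.fst q v1
  set q1 : W1 ⟶ V1 := pullback.snd q v1
  let g : W2 ⟶ W1 := hsqW1.lift b2 (q2 ≫ v21) (by rw [hsqW2.w, Category.assoc])
  have hgb : g ≫ b1 = b2 := hsqW1.lift_fst _ _ _
  have hgq : g ≫ q1 = q2 ≫ v21 := hsqW1.lift_snd _ _ _
  have hsqg : IsPullback g q2 q1 v21 := by
    refine IsPullback.of_right (h₁₂ := b1) (h₂₂ := v1) (v₁₃ := q) ?_ hgq hsqW1
    rw [hgb]
    exact hsqW2
  have hW1A : IsAffine W1.left := by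
    have h1 := hsqW1.map (Over.forget S)
    have h2 : IsAffineHom ((Over.forget S).map q) := inferInstanceAs (IsAffineHom (Spec.map φ))
    have h3 : IsAffineHom ((Over.forget S).map q1) := MorphismProperty.of_isPullback h1 h2
    have h4 : IsAffine ((Over.forget S).obj V1) := inferInstanceAs (IsAffine (Spec RA))
    exact @isAffine_of_isAffineHom _ _ ((Over.forget S).map q1) h3 h4
  -- the spaces
  obtain ⟨f₀, hf₀⟩ : ∃ f₀ : Y.obj ⟶ (yon S).obj VA, f₀ = f.hom := ⟨f.hom, rfl⟩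
  have hwf' : w ≫ f₀ = (yon S).map q := by
    rw [hf₀]
    exact hwf
  have hf' : IsProperMor f₀ := by
    rw [hf₀]
    exact hf
  have hVA := IsAlgSpace.yon_obj VA
  have hV1 := IsAlgSpace.yon_obj V1
  have hV2 := IsAlgSpace.yon_obj V2
  obtain ⟨Y1, y1, f1, hsqY1, hY1⟩ : ∃ (Y1 : Sp S) (y1 : Y1 ⟶ Y.obj) (f1 : Y1 ⟶ (yon S).obj V1),
      IsPullback y1 f1 f₀ ((yon S).map v1) ∧ IsAlgSpace Y1 :=
    ⟨_, _, _, IsPullback.of_hasPullback _ _, K613.Chart.isAlgSpace_pullback Y.2 hV1 hVA _ _⟩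
  obtain ⟨Y2, h, f2, hsqY2, hY2⟩ : ∃ (Y2 : Sp S) (h : Y2 ⟶ Y1) (f2 : Y2 ⟶ (yon S).obj V2),
      IsPullback h f2 f1 ((yon S).map v21) ∧ IsAlgSpace Y2 :=
    ⟨_, _, _, IsPullback.of_hasPullback _ _, K613.Chart.isAlgSpace_pullback hY1 hV2 hV1 _ _⟩
  have hf1 : IsProperMor f1 := K597.Proper.isProperMor_of_isPullback Y.2 hVA hV1 hsqY1 hf'
  have hhqc : IsQuasiCompactMor h := by
    refine K596.QC.isQuasiCompactMor_of_isPullback hsqY2.flip (K596.QC.isQuasiCompactMor_of_repWith ?_)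
    refine (repWith_yon_map_iff _ _).2 ?_
    exact inferInstanceAs (QuasiCompact (Spec.map σ))
  -- the charts
  let w1 : (yon S).obj W1 ⟶ Y1 := hsqY1.lift ((yon S).map b1 ≫ w) ((yon S).map q1) (by
    rw [Category.assoc, hwf', ← Functor.map_comp, ← Functor.map_comp, hsqW1.w])
  have hw1y : w1 ≫ y1 = (yon S).map b1 ≫ w := hsqY1.lift_fst _ _ _
  have hw1f : w1 ≫ f1 = (yon S).map q1 := hsqY1.lift_snd _ _ _
  have hsqw1 : IsPullback w1 ((yon S).map b1) y1 w := by
    refine IsPullback.of_right (h₁₂ := f1) (h₂₂ := f₀) (v₁₃ := (yon S).map v1) ?_ hw1y hsqY1.flip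
    rw [hw1f, hwf']
    exact (hsqW1.map (yon S)).flip
  have hw1e : RepWith @Etale w1 := MorphismProperty.of_isPullback hsqw1.flip hw
  have hw1s : RepWith @Surjective w1 := MorphismProperty.of_isPullback hsqw1.flip hws
  let w2 : (yon S).obj W2 ⟶ Y2 := hsqY2.lift ((yon S).map g ≫ w1) ((yon S).map q2) (by
    rw [Category.assoc, hw1f, ← Functor.map_comp, ← Functor.map_comp, hgq])
  have hw2h : w2 ≫ h = (yon S).map g ≫ w1 := hsqY2.lift_fst _ _ _
  have hw2f : w2 ≫ f2 = (yon S).map q2 := hsqY2.lift_snd _ _ _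
  have hsqw2 : IsPullback w2 ((yon S).map g) h w1 := by
    refine IsPullback.of_right (h₁₂ := f2) (h₂₂ := f1) (v₁₃ := (yon S).map v21) ?_ hw2h hsqY2.flip
    rw [hw2f, hw1f]
    exact (hsqg.map (yon S)).flip
  have hK : K598.SchImg.K h w1 = g.left.ker :=
    K598.SchImg.K_eq_ker hsqw2 (𝟙 _) (repWith_id _ _) (repWith_id _ _) g (Category.id_comp _)
  obtain ⟨F, -, -, hF⟩ := K598.SchImg.exists_image hY1 hhqc
  have hFI : F.I w1 = g.left.ker := by
    rw [hF W1 w1 hW1A (K598.Charts.repWith_flat_of_etale hw1e), hK]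
  let PW : Over S := Over.mk ((F.I w1).subschemeι ≫ W1.hom)
  let s : PW ⟶ W1 := Over.homMk (F.I w1).subschemeι rfl
  obtain ⟨p, hsqp⟩ : ∃ p : (yon S).obj PW ⟶ F.sheaf, IsPullback p ((yon S).map s) F.ι w1 := F.exists_isPullback w1
  have hpe : RepWith @Etale p := MorphismProperty.of_isPullback hsqp.flip hw1e
  have hps : RepWith @Surjective p := MorphismProperty.of_isPullback hsqp.flip hw1s
  have hPalg := F.isAlgSpace_sheaf hY1
  let P : Space S := ⟨F.sheaf, hPalg⟩
  let fP : P ⟶ (ofScheme S).obj (Over.mk sR) := ⟨F.ι ≫ f1⟩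
  have hfP : IsProperMor fP.hom := K597.ProperSub.isProperMor_comp hPalg hY1 hV1
    (K597.ProperSub.isProperMor_of_closed hY1 F.repWith_ι) hf1
  have hsci : IsClosedImmersion s.left := inferInstanceAs (IsClosedImmersion (F.I w1).subschemeι)
  have hPWA : IsAffine PW.left := isAffine_of_isAffineHom s.left
  have hpf : p ≫ F.ι ≫ f1 = (yon S).map (s ≫ q1) := by
    rw [← Category.assoc, hsqp.w, Category.assoc, hw1f, ← Functor.map_comp]
  have hRN : IsNoetherianRing RA := inferInstanceAs (IsNoetherianRing (reesAlgebra I))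
  have hfg := fg_eqz' HC (A := RA) sR fP hfP (W := PW) p hpe hps (s ≫ q1) hpf
  obtain ⟨ψ, h1, h2, h3⟩ := K634.ReesSch.exists_psi I φ (W1 := W1.left) g.left b1.left q1.left
    (congrArg (fun f ↦ f.left) hgb) (by
      have h := congrArg (fun f ↦ f.left) hgq
      refine Eq.trans h ?_
      change Spec.map μ ≫ Spec.map σ = _
      rw [← Spec.map_comp]
      rfl) s.left (by
      rw [← hFI]
      exact Scheme.IdealSheafData.ker_subschemeι _)
  refine ⟨Γ(PW.left, ⊤), ((Scheme.ΓSpecIso RA).inv ≫ (s ≫ q1).left.appTop).hom.toAlgebra, ψ, ?_, hfg, h1, h2, h3⟩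
  have h4 : LocallyOfFiniteType (s ≫ q1).left := locallyOfFiniteType_chart hfP.2.1.1 hpe (s ≫ q1) hpf
  have h5 := isoSpec_inv_comp (s ≫ q1).left
  have h6 : LocallyOfFiniteType (Spec.map ((Scheme.ΓSpecIso RA).inv ≫ (s ≫ q1).left.appTop)) := by
    rw [← h5]
    infer_instance
  exact (HasRingHomProperty.Spec_iff (P := @LocallyOfFiniteType)).1 h6

theorem faithfullyFlat_of_isIso {A B : CommRingCat.{u}} (a : A) (sA : Spec A ⟶ S) (φ : A ⟶ B) {Y : Space S}
    (f : Y ⟶ (ofScheme S).obj (Over.mk sA))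
    (w : (yon S).obj (Over.mk (Spec.map φ ≫ sA)) ⟶ Y.obj) (hw : RepWith @Etale w) (hws : RepWith @Surjective w)
    (hwf : w ≫ f.hom = (yon S).map (Over.homMk (Spec.map φ) rfl))
    (hiso : ∀ (Q : Sp S) (q1 : Q ⟶ Y.obj) (q2 : Q ⟶ (yon S).obj (Over.mk
      (Spec.map (CommRingCat.ofHom (algebraMap A (Localization.Away a))) ≫ sA))),
      IsPullback q1 q2 f.hom ((yon S).map (Over.homMk (Spec.map (CommRingCat.ofHom
        (algebraMap A (Localization.Away a)))) rfl : _ ⟶ Over.mk sA)) → IsIso q2) :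
    letI := φ.hom.toAlgebra
    Module.FaithfullyFlat (Localization.Away a) (Localization.Away a ⊗[A] B) := by
  let _ := φ.hom.toAlgebra
  have hpo := CommRingCat.isPushout_tensorProduct A (Localization.Away a) B
  have hpb := isPullback_SpecMap_of_isPushout _ _ _ _ hpo
  let Aa : CommRingCat.{u} := CommRingCat.of (Localization.Away a)
  let ℓ : A ⟶ Aa := CommRingCat.ofHom (algebraMap A (Localization.Away a))
  let BT : CommRingCat.{u} := CommRingCat.of (Localization.Away a ⊗[A] B)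
  let jl : Aa ⟶ BT := CommRingCat.ofHom Algebra.TensorProduct.includeLeftRingHom
  let jr : B ⟶ BT := CommRingCat.ofHom
    (Algebra.TensorProduct.includeRight : B →ₐ[A] Localization.Away a ⊗[A] B).toRingHom
  have hcomm : ℓ ≫ jl = φ ≫ jr := hpo.w
  let VA : Over S := Over.mk sA
  let WB : Over S := Over.mk (Spec.map φ ≫ sA)
  let q : WB ⟶ VA := Over.homMk (Spec.map φ) rfl
  let Va : Over S := Over.mk (Spec.map ℓ ≫ sA)
  let va : Va ⟶ VA := Over.homMk (Spec.map ℓ) rfl
  let Wa : Over S := Over.mk (Spec.map jl ≫ Spec.map ℓ ≫ sA)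
  let qa : Wa ⟶ Va := Over.homMk (Spec.map jl) rfl
  let ba : Wa ⟶ WB := Over.homMk (Spec.map jr) (by
    change Spec.map jr ≫ Spec.map φ ≫ sA = Spec.map jl ≫ Spec.map ℓ ≫ sA
    rw [← Spec.map_comp_assoc, ← Spec.map_comp_assoc, hcomm])
  have hsqW : IsPullback ba qa q va := by
    refine IsPullback.of_map (Over.forget S) ?_ hpb.flip
    ext1
    change Spec.map jr ≫ Spec.map φ = Spec.map jl ≫ Spec.map ℓ
    rw [← Spec.map_comp, ← Spec.map_comp, hcomm]
  obtain ⟨f₀, hf₀⟩ : ∃ f₀ : Y.obj ⟶ (yon S).obj VA, f₀ = f.hom := ⟨f.hom, rfl⟩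
  have hwf' : w ≫ f₀ = (yon S).map q := by
    rw [hf₀]
    exact hwf
  obtain ⟨Q, y1, fQ, hsqQ⟩ : ∃ (Q : Sp S) (y1 : Q ⟶ Y.obj) (fQ : Q ⟶ (yon S).obj Va),
      IsPullback y1 fQ f₀ ((yon S).map va) := ⟨_, _, _, IsPullback.of_hasPullback _ _⟩
  have hQi : IsIso fQ := by
    refine hiso Q y1 fQ ?_
    rw [hf₀] at hsqQ
    exact hsqQ
  let wQ : (yon S).obj Wa ⟶ Q := hsqQ.lift ((yon S).map ba ≫ w) ((yon S).map qa) (by
    rw [Category.assoc, hwf', ← Functor.map_comp, ← Functor.map_comp, hsqW.w])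
  have hwQy : wQ ≫ y1 = (yon S).map ba ≫ w := hsqQ.lift_fst _ _ _
  have hwQf : wQ ≫ fQ = (yon S).map qa := hsqQ.lift_snd _ _ _
  have hsqwQ : IsPullback wQ ((yon S).map ba) y1 w := by
    refine IsPullback.of_right (h₁₂ := fQ) (h₂₂ := f₀) (v₁₃ := (yon S).map va) ?_ hwQy hsqQ.flip
    rw [hwQf, hwf']
    exact (hsqW.map (yon S)).flip
  have hwQe : RepWith @Etale wQ := MorphismProperty.of_isPullback hsqwQ.flip hw
  have hwQs : RepWith @Surjective wQ := MorphismProperty.of_isPullback hsqwQ.flip hws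
  have h1 : RepWith @Etale ((yon S).map qa) := by
    rw [← hwQf]
    exact MorphismProperty.comp_mem _ _ _ hwQe (K598.RepKit.repWith_of_isIso _)
  have h2 : RepWith @Surjective ((yon S).map qa) := by
    rw [← hwQf]
    exact MorphismProperty.comp_mem _ _ _ hwQs (K598.RepKit.repWith_of_isIso _)
  have h3 : Etale qa.left := (repWith_yon_map_iff _ _).1 h1
  have h4 : Surjective qa.left := (repWith_yon_map_iff _ _).1 h2
  have h5 : Flat qa.left := inferInstance
  have h6 : (algebraMap (Localization.Away a) (Localization.Away a ⊗[A] B)).FaithfullyFlat :=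
    (flat_and_surjective_SpecMap_iff jl).1 ⟨h5, h4⟩
  exact RingHom.faithfullyFlat_algebraMap_iff.1 h6

/-- The constant of a proper morphism of an algebraic space to a Noetherian affine scheme which is an isomorphism off
the closed subscheme of `I`. -/
theorem exists_const (HC : CoeqHyp S) {A B : CommRingCat.{u}} [hAN : IsNoetherianRing A] (I : Ideal A) (sA : Spec A ⟶ S)
    (φ : A ⟶ B) {Y : Space S} (f : Y ⟶ (ofScheme S).obj (Over.mk sA)) (hf : IsProperMor f.hom)
    (w : (yon S).obj (Over.mk (Spec.map φ ≫ sA)) ⟶ Y.obj) (hw : RepWith @Etale w) (hws : RepWith @Surjective w)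
    (hwf : w ≫ f.hom = (yon S).map (Over.homMk (Spec.map φ) rfl))
    (hiso : ∀ a ∈ I, ∀ (Q : Sp S) (q1 : Q ⟶ Y.obj) (q2 : Q ⟶ (yon S).obj (Over.mk
      (Spec.map (CommRingCat.ofHom (algebraMap A (Localization.Away a))) ≫ sA))),
      IsPullback q1 q2 f.hom ((yon S).map (Over.homMk (Spec.map (CommRingCat.ofHom
        (algebraMap A (Localization.Away a)))) rfl : _ ⟶ Over.mk sA)) → IsIso q2) :
    letI := φ.hom.toAlgebra
    ∃ c : ℕ, (∀ n, c ≤ n → ∀ b ∈ (I ^ n).map φ.hom, b ∈ eqz A B → ∃ a ∈ I ^ (n - c), φ.hom a = b) ∧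
      ∀ x ∈ I ^ c, φ.hom x = 0 → x = 0 := by
  let _ := φ.hom.toAlgebra
  obtain ⟨V, _, ψ, h1, h2, h3, h4, h5⟩ := exists_rees HC I sA φ f hf w hw hws hwf
  have hft : LocallyOfFiniteType (Spec.map φ) :=
    locallyOfFiniteType_chart (V := Over.mk sA) (f := f.hom) hf.2.1.1 hw (Over.homMk (Spec.map φ) rfl) hwf
  have hft' : φ.hom.FiniteType := (HasRingHomProperty.Spec_iff (P := @LocallyOfFiniteType)).1 hft
  have hftA : Algebra.FiniteType A B := hft'
  have hBN : IsNoetherianRing B := Algebra.FiniteType.isNoetherianRing A B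
  have hff : ∀ a ∈ I, Module.FaithfullyFlat (Localization.Away a) (Localization.Away a ⊗[A] B) := fun a ha ↦
    faithfullyFlat_of_isIso a sA φ f w hw hws hwf (hiso a ha)
  refine K634.ReesEq.main (A := A) (W := B) (V := V) I ψ h3 h4 h5 h2 ?_ ?_
  · intro a ha b hb
    have := hff a ha
    exact K634.LocEff.exists_pow_smul_eq a b hb
  · intro a ha x hx
    have := hff a ha
    exact K634.LocEff.exists_pow_mul_eq_zero (B := B) a x hx

end K634.ReesSp
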