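import Groth.Agent.AlgSp.K634.Formal
import Groth.Agent.Flat2H.FSSmoothHom

/-!
# Representable morphisms with a property implying the infinitesimal lifting property
-/

set_option autoImplicit false

universe u v w

open CategoryTheory CategoryTheory.Limits AlgebraicGeometry Opposite

namespace K634.Formal

section General

variable {C : Type w} [Category.{v} C] {A B F G : C} {i : A ⟶ B}

theorem Lft.of_forall_pullback {f : F ⟶ G}
    (h : ∀ b : B ⟶ G, ∃ (P : C) (p : P ⟶ F) (f' : P ⟶ B), IsPullback p f' f b ∧ Lft i f') : Lft i f := by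
  intro t b w
  obtain ⟨P, p, f', hP, hl⟩ := h b
  obtain ⟨l, h1, h2⟩ := hl (hP.lift t i w) (𝟙 _) (by rw [hP.lift_snd, Category.comp_id])
  refine ⟨l ≫ p, ?_, ?_⟩
  · rw [← Category.assoc, h1, hP.lift_fst]
  · rw [Category.assoc, hP.w, ← Category.assoc, h2, Category.id_comp]

theorem Unq.of_forall_pullback {f : F ⟶ G}
    (h : ∀ b : B ⟶ G, ∃ (P : C) (p : P ⟶ F) (f' : P ⟶ B), IsPullback p f' f b ∧ Unq i f') : Unq i f := by
  intro l l' h1 h2
  obtain ⟨P, p, f', hP, hl⟩ := h (l ≫ f)
  have e := hl (hP.lift l (𝟙 _) (by simp)) (hP.lift l' (𝟙 _) (by rw [Category.id_comp]; exact h2.symm))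
    (by
      apply hP.hom_ext
      · simpa using h1
      · simp)
    (by simp)
  have := congrArg (· ≫ p) e
  simpa using this

end General

open AlgSp

variable {S : Scheme.{u}} {F G H P : Sp S}

/-- A lifting property over `S` from the one of schemes. -/
theorem lft_over {A B U V : Over S} (i : A ⟶ B) (f : U ⟶ V) (h : Lft i.left f.left) : Lft i f := by
  intro t b w
  obtain ⟨l, h1, h2⟩ := h t.left b.left (by simpa using congrArg CommaMorphism.left w)
  refine ⟨Over.homMk l ?_, ?_, ?_⟩
  · rw [← Over.w f, ← Category.assoc, h2, Over.w b]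
  · ext; simpa using h1
  · ext; simpa using h2

theorem unq_over {A B U V : Over S} (i : A ⟶ B) (f : U ⟶ V) (h : Unq i.left f.left) : Unq i f := by
  intro l l' h1 h2
  ext
  exact h _ _ (by simpa using congrArg CommaMorphism.left h1) (by simpa using congrArg CommaMorphism.left h2)

theorem lft_of_isFormallySmoothHom {X Y : Scheme.{u}} {f : X ⟶ Y} (h : MoreMor.IsFormallySmoothHom f)
    (A : Type u) [CommRing A] (I : Ideal A) (hI : I ^ 2 = ⊥) :
    Lft (Spec.map (CommRingCat.ofHom (Ideal.Quotient.mk I))) f :=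
  fun t b w => h A I hI t b w.symm

theorem unq_of_formallyUnramified {X Y : Scheme.{u}} (f : X ⟶ Y) [FormallyUnramified f]
    (A : Type u) [CommRing A] (I : Ideal A) (hI : I ^ 2 = ⊥) :
    Unq (Spec.map (CommRingCat.ofHom (Ideal.Quotient.mk I))) f := by
  intro l l' h1 h2
  have : IsClosedImmersion (Spec.map (CommRingCat.ofHom (Ideal.Quotient.mk I))) :=
    IsClosedImmersion.spec_of_surjective _ Ideal.Quotient.mk_surjective
  exact FormallyUnramified.hom_ext _
    (Groth.Agent.Flat2H.FSLift.isNilpotent_ker_SpecMap_mk A I hI) f h1 h2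

/-- Representable maps all of whose represented pullbacks have the lifting property have the lifting property. -/
theorem smooth_of_repWith {P : MorphismProperty Scheme.{u}}
    (hP : ∀ {X Y : Scheme.{u}} (f : X ⟶ Y), P f → MoreMor.IsFormallySmoothHom f) {a : F ⟶ G}
    (ha : RepWith P a) : IsFormallySmoothMor a := by
  rw [smooth_iff]
  intro A _ I hI str
  refine Lft.of_forall_pullback fun b => ?_
  obtain ⟨V, snd, fst, hsq⟩ := ha.1 b
  refine ⟨_, _, _, hsq, ?_⟩
  rw [Lft.map_iff]
  exact lft_over _ _ (lft_of_isFormallySmoothHom (hP _ (ha.2 _ _ _ hsq)) A I hI)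

theorem unramified_of_repWith {P : MorphismProperty Scheme.{u}}
    (hP : ∀ {X Y : Scheme.{u}} (f : X ⟶ Y), P f → FormallyUnramified f) {a : F ⟶ G}
    (ha : RepWith P a) : IsFormallyUnramifiedMor a := by
  rw [unramified_iff]
  intro A _ I hI str
  refine Unq.of_forall_pullback fun b => ?_
  obtain ⟨V, snd, fst, hsq⟩ := ha.1 b
  refine ⟨_, _, _, hsq, ?_⟩
  rw [Unq.map_iff]
  have : FormallyUnramified snd.left := hP _ (ha.2 _ _ _ hsq)
  exact unq_over _ _ (unq_of_formallyUnramified _ A I hI)

theorem smooth_of_repWith_smooth {a : F ⟶ G} (ha : RepWith @Smooth a) : IsFormallySmoothMor a :=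
  smooth_of_repWith (P := @Smooth) (fun f (_ : Smooth f) =>
    Groth.Agent.Flat2H.FSSmoothHom.isFormallySmoothHom_of_smooth f) ha

theorem etale_of_repWith_etale {a : F ⟶ G} (ha : RepWith @Etale a) : IsFormallyEtaleMor a := by
  rw [etale_iff]
  exact ⟨smooth_of_repWith (P := @Etale) (fun f (_ : Etale f) =>
      Groth.Agent.Flat2H.FSSmoothHom.isFormallySmoothHom_of_smooth f) ha,
    unramified_of_repWith (P := @Etale) (fun f (_ : Etale f) => inferInstance) ha⟩

theorem unramified_of_repWith_unramified {a : F ⟶ G}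
    (ha : RepWith (@LocallyOfFiniteType ⊓ @FormallyUnramified) a) : IsFormallyUnramifiedMor a :=
  unramified_of_repWith (P := @LocallyOfFiniteType ⊓ @FormallyUnramified) (fun _ h => h.2) ha

end K634.Formal
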