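import Groth.Agent.UnramB.FSGlobalLift
import Groth.Agent.AlgSp.K634.Quot

/-!
# Retractions of first order thickenings, tested after a faithfully flat extension
-/

set_option autoImplicit false

universe u

open CategoryTheory CategoryTheory.Limits AlgebraicGeometry Opposite TensorProduct

namespace K634.RetractFF

open K634.Quot

section

variable {A : Type u} [CommRing A] (I : Ideal A) {C : Type u} [CommRing C] [Algebra A C] (π : C →ₐ[A] A ⧸ I)
  (hK : ∀ x y : C, π x = 0 → π y = 0 → x * y = 0)
  {B : Type u} [CommRing B] [Algebra A B] [Module.FaithfullyFlat A B]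
  {B₀ : Type u} [CommRing B₀] [Algebra (A ⧸ I) B₀] [Module.FaithfullyFlat (A ⧸ I) B₀]

include hK

/-- Retractions of a first order thickening exist if they exist after a faithfully flat extension and derivations
lift after a faithfully flat extension. -/
theorem exists_retraction (h1 : Nonempty (C →ₐ[A] B))
    (h2 : ∀ (M M' : Type u) [AddCommGroup M] [AddCommGroup M'] [Module B₀ M] [Module B₀ M']
      [Module (A ⧸ I) M] [Module (A ⧸ I) M'] [Module A M] [Module A M']
      [IsScalarTower (A ⧸ I) B₀ M] [IsScalarTower (A ⧸ I) B₀ M']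
      [IsScalarTower A (A ⧸ I) M] [IsScalarTower A (A ⧸ I) M']
      (f : M →ₗ[B₀] M') (_ : Function.Surjective f)
      (D : C →ₗ[A] M') (_ : ∀ x y, D (x * y) = π x • D y + π y • D x),
      ∃ D' : C →ₗ[A] M, (∀ x y, D' (x * y) = π x • D' y + π y • D' x) ∧ ∀ x, f (D' x) = D x) :
    ∃ r : C →ₐ[A] A, ∀ c, Ideal.Quotient.mk I (r c) = π c := by
  have hinj : Function.Injective (algebraMap A C) := by
    rw [injective_iff_map_eq_zero]
    intro a ha
    obtain ⟨r⟩ := h1
    have : algebraMap A B a = 0 := by rw [← r.commutes, ha, map_zero]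
    exact (FaithfulSMul.algebraMap_injective A B) (by rw [this, map_zero])
  have hπ : ∀ a : A, π (algebraMap A C a) = Ideal.Quotient.mk I a := fun a => π.commutes a
  let N := C ⧸ LinearMap.range (Algebra.linearMap A C)
  let mk : C →ₗ[A] N := (LinearMap.range (Algebra.linearMap A C)).mkQ
  have hmk : ∀ a : A, mk (algebraMap A C a) = 0 := fun a =>
    (Submodule.Quotient.mk_eq_zero _).mpr ⟨a, rfl⟩
  have hmul : ∀ (x y : C) (a b : A), Ideal.Quotient.mk I a = π x → Ideal.Quotient.mk I b = π y →
      mk (x * y) = a • mk y + b • mk x := by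
    intro x y a b ha hb
    have h0 : (x - algebraMap A C a) * (y - algebraMap A C b) = 0 := hK _ _
      (by rw [map_sub, hπ, ha, sub_self]) (by rw [map_sub, hπ, hb, sub_self])
    have : x * y = a • y + b • x - algebraMap A C (a * b) := by
      rw [(algebraMap A C).map_mul, Algebra.smul_def, Algebra.smul_def]
      linear_combination h0
    rw [this, map_sub, hmk, sub_zero, map_add, map_smul, map_smul]
  have htor : Module.IsTorsionBySet A N I := by
    intro n ⟨a, ha⟩
    obtain ⟨c, rfl⟩ := Submodule.mkQ_surjective _ n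
    obtain ⟨b, hb⟩ := Ideal.Quotient.mk_surjective (π c)
    change a • mk c = 0
    have h3 := hmul (algebraMap A C a) c 0 b (by
      rw [hπ, map_zero, (Ideal.Quotient.eq_zero_iff_mem.mpr ha)]) hb
    rw [zero_smul, zero_add, hmk, smul_zero, ← Algebra.smul_def, map_smul] at h3
    exact h3
  let _ : Module (A ⧸ I) N := htor.module
  have : IsScalarTower A (A ⧸ I) N := htor.isScalarTower
  have hsmul : ∀ (a : A) (n : N), Ideal.Quotient.mk I a • n = a • n := fun a n =>
    (algebraMap_smul (A ⧸ I) a n)
  have hsurj : Function.Surjective (algebraMap A (A ⧸ I)) := Ideal.Quotient.mk_surjective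
  have hff : Module.FaithfullyFlat (A ⧸ I) (PUnit.{u + 1} → B₀) :=
    Module.FaithfullyFlat.of_linearEquiv (A ⧸ I) B₀ (LinearEquiv.funUnique PUnit.{u + 1} (A ⧸ I) B₀)
  have hproj : Module.Projective (A ⧸ I) N := by
    refine Groth.Agent.UnramB.SqZeroSplit.projective_of_local_lifting (R := A ⧸ I) (ι := PUnit.{u + 1})
      (fun _ => B₀) N ?_
    intro _ M M' _ _ _ _ _ _ _ _ f hf g
    let _ : Module A M := Module.compHom M (algebraMap A (A ⧸ I))
    let _ : Module A M' := Module.compHom M' (algebraMap A (A ⧸ I))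
    have : IsScalarTower A (A ⧸ I) M := IsScalarTower.of_algebraMap_smul fun _ _ => rfl
    have : IsScalarTower A (A ⧸ I) M' := IsScalarTower.of_algebraMap_smul fun _ _ => rfl
    obtain ⟨D', hD', hf'⟩ := h2 M M' f hf (g.restrictScalars A ∘ₗ mk) (by
      intro x y
      obtain ⟨a, ha⟩ := Ideal.Quotient.mk_surjective (π x)
      obtain ⟨b, hb⟩ := Ideal.Quotient.mk_surjective (π y)
      rw [LinearMap.comp_apply, hmul x y a b ha hb, map_add, map_smul, map_smul, ← ha, ← hb]
      rfl)
    have hD1 : D' 1 = 0 := by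
      have := hD' 1 1
      have hπ1 : π 1 = 1 := map_one π
      rw [mul_one, hπ1, one_smul] at this
      simpa using this
    have hker : LinearMap.range (Algebra.linearMap A C) ≤ LinearMap.ker D' := by
      rintro _ ⟨a, rfl⟩
      change D' (algebraMap A C a) = 0
      rw [Algebra.algebraMap_eq_smul_one, map_smul, hD1, smul_zero]
    refine ⟨LinearMap.extendScalarsOfSurjective hsurj (Submodule.liftQ _ D' hker), ?_⟩
    ext n
    obtain ⟨c, rfl⟩ := Submodule.mkQ_surjective _ n
    exact hf' c
  exact Groth.Agent.UnramB.SqZeroSplit.exists_retraction_of_projective I π hK hinj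

end

/-- Ring level form: a first order thickening `A → C → A/I` has a retraction as soon as ring maps out of `C` lift
along square-zero surjections of `A`-algebras over a faithfully flat `A/I`-algebra `B/IB`. -/
theorem exists_retraction_of_lift {A : Type u} [CommRing A] (I : Ideal A) (hI : I ^ 2 = ⊥)
    {B : Type u} [CommRing B] (φ : A →+* B) (hφ : φ.FaithfullyFlat)
    (hφ₀ : (qmap φ I).FaithfullyFlat) {C : CommRingCat.{u}} (γ : CommRingCat.of A ⟶ C)
    (κ : C ⟶ CommRingCat.of (A ⧸ I)) (hγκ : γ ≫ κ = CommRingCat.ofHom (Ideal.Quotient.mk I))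
    (hK : ∀ x y : C, κ x = 0 → κ y = 0 → x * y = 0)
    (H : ∀ (E E' : CommRingCat.{u}) (β : CommRingCat.of A ⟶ E) (q'' : E ⟶ E')
      (p : E' ⟶ CommRingCat.of (B ⧸ I.map φ))
      (_ : Function.Surjective q''.hom) (_ : Function.Surjective p.hom) (_ : RingHom.ker (q'' ≫ p).hom ^ 2 = ⊥)
      (_ : β ≫ q'' ≫ p = CommRingCat.ofHom ((qmap φ I).comp (Ideal.Quotient.mk I))) (θ : C ⟶ E')
      (_ : γ ≫ θ = β ≫ q'') (_ : θ ≫ p = κ ≫ CommRingCat.ofHom (qmap φ I)),
        ∃ y : C ⟶ E, y ≫ q'' = θ ∧ γ ≫ y = β) :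
    ∃ r : C ⟶ CommRingCat.of A, γ ≫ r = 𝟙 _ ∧ r ≫ CommRingCat.ofHom (Ideal.Quotient.mk I) = κ := by
  algebraize [γ.hom, φ, qmap φ I]
  let π : C →ₐ[A] A ⧸ I := { toRingHom := κ.hom, commutes' := fun x => congr($(hγκ).hom x) }
  let u : CommRingCat.of (A ⧸ I) ⟶ CommRingCat.of (B ⧸ I.map φ) := CommRingCat.ofHom (qmap φ I)
  have hB : Module.FaithfullyFlat A B := (RingHom.faithfullyFlat_algebraMap_iff).1 hφ
  have hB₀ : Module.FaithfullyFlat (A ⧸ I) (B ⧸ I.map φ) := (RingHom.faithfullyFlat_algebraMap_iff).1 hφ₀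
  obtain ⟨r, hr⟩ := exists_retraction I π (fun x y hx hy => hK x y hx hy) (B := B) (B₀ := B ⧸ I.map φ) (by
      let β : CommRingCat.of A ⟶ CommRingCat.of B := CommRingCat.ofHom φ
      let q'' : CommRingCat.of B ⟶ CommRingCat.of (B ⧸ I.map φ) := CommRingCat.ofHom (Ideal.Quotient.mk _)
      obtain ⟨y, -, hy⟩ := H _ _ β q'' (𝟙 _) Ideal.Quotient.mk_surjective Function.surjective_id
        (by
          rw [Category.comp_id]
          change RingHom.ker (Ideal.Quotient.mk (I.map φ)) ^ 2 = ⊥
          rw [Ideal.mk_ker]; exact map_sq φ I hI)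
        (by rw [Category.comp_id]; rfl) (κ ≫ u) (by
          rw [← Category.assoc, hγκ]; rfl) (Category.comp_id _)
      exact ⟨{ toRingHom := y.hom, commutes' := fun x => congr($(hy).hom x) }⟩) (by
      intro M M' _ _ _ _ _ _ _ _ _ _ _ _ F hF D hD
      have hDγ : ∀ x : A, D (algebraMap A C x) = 0 := by
        have hD1 : D 1 = 0 := by
          have := hD 1 1
          have hπ1 : π 1 = 1 := map_one π
          rw [mul_one, hπ1, one_smul] at this
          simpa using this
        intro x
        rw [Algebra.algebraMap_eq_smul_one, map_smul, hD1, smul_zero]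
      obtain ⟨D', hD', hD'γ, hFD⟩ := Groth.Agent.UnramB.FSGlobalLift.exists_derivation_lift γ.hom
        (κ ≫ u).hom F hF D.toAddMonoidHom
        (fun x y => by
          refine (hD x y).trans ?_
          congr 1
          · exact (algebraMap_smul (B ⧸ I.map φ) (π x) (D y)).symm
          · exact (algebraMap_smul (B ⧸ I.map φ) (π y) (D x)).symm)
        hDγ (by
          intro E E' β q'' p hq'' hp hker hβ θ hθγ hθp
          refine H E E' β q'' p hq'' hp hker ?_ θ hθγ hθp
          rw [hβ]
          congr 1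
          have h4 : (κ ≫ u).hom.comp γ.hom = (CommRingCat.ofHom (Ideal.Quotient.mk I) ≫ u).hom := by
            rw [← hγκ]; rfl
          exact h4)
      refine ⟨{ toFun := D', map_add' := map_add D', map_smul' := fun x y => ?_ }, fun x y => ?_, hFD⟩
      · have h5 : x • y = γ.hom x * y := Algebra.smul_def x y
        rw [h5, hD', hD'γ, smul_zero, add_zero]
        have h6 : (κ ≫ u).hom (γ.hom x) = algebraMap (A ⧸ I) _ (Ideal.Quotient.mk I x) := by
          have := congr($(hγκ).hom x)
          exact congr_arg u.hom this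
        rw [h6, algebraMap_smul]
        exact algebraMap_smul (A ⧸ I) x (D' y)
      · refine (hD' x y).trans ?_
        congr 1
        · exact algebraMap_smul (B ⧸ I.map φ) (π x) (D' y)
        · exact algebraMap_smul (B ⧸ I.map φ) (π y) (D' x))
  refine ⟨CommRingCat.ofHom r.toRingHom, ?_, ?_⟩
  · ext x
    exact r.commutes x
  · ext x
    exact hr x

end K634.RetractFF
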