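import Groth.Agent.AlgSp.K650.SatTop

/-!
# Saturated affine opens for a pinching diagram

`exists_saturated` : `k : Y' ⟶ Y` a closed immersion and `ρ : Y' ⟶ W` affine and closed; finite sets contained in
affine opens are contained in compatible affine opens of `Y` and `W`.
-/

set_option autoImplicit false
universe u
open CategoryTheory CategoryTheory.Limits AlgebraicGeometry

namespace K634.SatOpen

open K650

/-- Change a function away from a closed set so that it does not vanish at finitely many points. -/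
theorem exists_section_lift {X : Scheme.{u}} {V : X.Opens} (hV : IsAffineOpen V) (T F : Set X) (hT : IsClosed T)
    (hF : F.Finite) (a : Γ(X, V)) (hTF : ∀ x ∈ V, x ∈ T → x ∉ F) :
    ∃ b : Γ(X, V), (∀ x ∈ V, x ∈ T → (x ∈ X.basicOpen b ↔ x ∈ X.basicOpen a)) ∧
      ∀ x ∈ V, x ∈ F → x ∈ X.basicOpen b := by
  have hr : ∀ P : Spec Γ(X, V), hV.fromSpec P ∈ V := by
    intro P
    have h5 : hV.fromSpec P ∈ Set.range hV.fromSpec := ⟨P, rfl⟩
    rw [hV.range_fromSpec] at h5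
    exact h5
  have hs : ∀ x ∈ V, ∃ P : Spec Γ(X, V), hV.fromSpec P = x := fun x hx =>
    ⟨_, hV.fromSpec_primeIdealOf ⟨x, hx⟩⟩
  let T' : Set (PrimeSpectrum Γ(X, V)) := hV.fromSpec ⁻¹' T
  have hT' : IsClosed T' := hT.preimage hV.fromSpec.continuous
  obtain ⟨b, hb, hb'⟩ := Avoid.exists_lift_nonvanishing (PrimeSpectrum.vanishingIdeal T') a (hV.fromSpec ⁻¹' F)
    (hF.preimage hV.fromSpec.isOpenEmbedding.injective.injOn) (fun P hP hPT => by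
      rw [PrimeSpectrum.zeroLocus_vanishingIdeal_eq_closure, hT'.closure_eq] at hPT
      exact hTF _ (hr P) hPT hP)
  refine ⟨b, ?_, ?_⟩
  · intro x hx hxT
    obtain ⟨P, rfl⟩ := hs x hx
    rw [NormLoc.fromSpec_mem_basicOpen, NormLoc.fromSpec_mem_basicOpen, not_iff_not]
    have h1 : b - a ∈ P.asIdeal := (PrimeSpectrum.mem_vanishingIdeal _ _).1 hb P hxT
    constructor
    · intro h
      have := P.asIdeal.sub_mem h h1
      simpa using this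
    · intro h
      have := P.asIdeal.add_mem h1 h
      simpa using this
  · intro x hx hxF
    obtain ⟨P, rfl⟩ := hs x hx
    rw [NormLoc.fromSpec_mem_basicOpen]
    exact hb' P hxF

/-- **Saturated affine opens.** -/
theorem exists_saturated {Y Y' W : Scheme.{u}} (k : Y' ⟶ Y) (ρ : Y' ⟶ W) [IsClosedImmersion k] [IsAffineHom ρ]
    (hρ : IsClosedMap ρ) (E : Set Y) (E' : Set W) (hE : E.Finite) (hE' : E'.Finite)
    (hEE : ∀ y, k y ∈ E ↔ ρ y ∈ E') {V : Y.Opens} (hV : IsAffineOpen V) (hEV : E ⊆ V) {A : W.Opens}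
    (hA : IsAffineOpen A) (hEA : E' ⊆ A) :
    ∃ (V' : Y.Opens) (A' : W.Opens), IsAffineOpen V' ∧ E ⊆ V' ∧ k ⁻¹ᵁ V' = ρ ⁻¹ᵁ A' := by
  have hk : IsClosedMap k := k.isClosedEmbedding.isClosedMap
  -- first shrinking in `W`
  obtain ⟨h₁, h₁a, -, h₁b⟩ := SatTop.exists_section hA (ρ '' ((k ⁻¹ᵁ V : Set Y')ᶜ)) ∅ E'
    (hρ _ (k ⁻¹ᵁ V).2.isClosed_compl) isClosed_empty hE' (fun _ _ _ h => h) (by
      rintro _ _ ⟨y, hy, rfl⟩ hyE
      exact hy (hEV ((hEE y).2 hyE)))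
  have hA₁ : IsAffineOpen (W.basicOpen h₁) := hA.basicOpen h₁
  have hEA₁ : E' ⊆ W.basicOpen h₁ := fun x hx => h₁b x (hEA hx) hx
  have hle₁ : ∀ y, ρ y ∈ W.basicOpen h₁ → k y ∈ V := by
    intro y hy
    by_contra hcon
    exact h₁a _ (W.basicOpen_le _ hy) ⟨y, hcon, rfl⟩ hy
  -- shrinking in `Y`
  obtain ⟨g, ga, -, gb⟩ := SatTop.exists_section hV (k '' ((ρ ⁻¹ᵁ W.basicOpen h₁ : Set Y')ᶜ)) ∅ E
    (hk _ (ρ ⁻¹ᵁ W.basicOpen h₁).2.isClosed_compl) isClosed_empty hE (fun _ _ _ h => h) (by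
      rintro _ _ ⟨y, hy, rfl⟩ hyE
      exact hy (hEA₁ ((hEE y).1 hyE)))
  have hV₁ : IsAffineOpen (Y.basicOpen g) := hV.basicOpen g
  have hEV₁ : E ⊆ Y.basicOpen g := fun x hx => gb x (hEV hx) hx
  have hle₂ : k ⁻¹ᵁ (Y.basicOpen g) ≤ ρ ⁻¹ᵁ (W.basicOpen h₁) := by
    intro y hy
    by_contra hcon
    exact ga _ (Y.basicOpen_le _ hy) ⟨y, hcon, rfl⟩ hy
  -- second shrinking in `W`
  obtain ⟨h₂, h₂a, -, h₂b⟩ := SatTop.exists_section hA₁ (ρ '' ((k ⁻¹ᵁ (Y.basicOpen g) : Set Y')ᶜ)) ∅ E'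
    (hρ _ (k ⁻¹ᵁ (Y.basicOpen g)).2.isClosed_compl) isClosed_empty hE' (fun _ _ _ h => h) (by
      rintro _ _ ⟨y, hy, rfl⟩ hyE
      exact hy (hEV₁ ((hEE y).2 hyE)))
  have hEA₂ : E' ⊆ W.basicOpen h₂ := fun x hx => h₂b x (hEA₁ hx) hx
  have hle₃ : ρ ⁻¹ᵁ (W.basicOpen h₂) ≤ k ⁻¹ᵁ (Y.basicOpen g) := by
    intro y hy
    by_contra hcon
    exact h₂a _ (W.basicOpen_le _ hy) ⟨y, hcon, rfl⟩ hy
  -- lift the function
  obtain ⟨a, ha⟩ := Scheme.Hom.app_surjective k (Y.basicOpen g) hV₁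
    (Y'.presheaf.map (homOfLE hle₂).op (ρ.app (W.basicOpen h₁) h₂))
  have hka : k ⁻¹ᵁ (Y.basicOpen a) = ρ ⁻¹ᵁ (W.basicOpen h₂) := by
    have e : ρ ⁻¹ᵁ (W.basicOpen h₂) = Y'.basicOpen (ρ.app (W.basicOpen h₁) h₂) := Scheme.preimage_basicOpen _ _
    rw [Scheme.preimage_basicOpen, ha, Scheme.basicOpen_res, ← e]
    exact inf_eq_right.2 hle₃
  obtain ⟨b, hb, hb'⟩ := exists_section_lift hV₁ (Set.range k) (E \ Set.range k) k.isClosedEmbedding.isClosed_range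
    (hE.subset Set.sdiff_subset) a (fun x _ hx hx' => hx'.2 hx)
  have hkb : k ⁻¹ᵁ (Y.basicOpen b) = ρ ⁻¹ᵁ (W.basicOpen h₂) := by
    rw [← hka]
    ext y
    constructor
    · intro hy
      exact (hb _ (Y.basicOpen_le _ hy) ⟨y, rfl⟩).1 hy
    · intro hy
      exact (hb _ (Y.basicOpen_le _ hy) ⟨y, rfl⟩).2 hy
  refine ⟨Y.basicOpen b, W.basicOpen h₂, hV₁.basicOpen b, ?_, hkb⟩
  intro x hx
  by_cases hxk : x ∈ Set.range k
  · obtain ⟨y, rfl⟩ := hxk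
    change y ∈ k ⁻¹ᵁ (Y.basicOpen b)
    rw [hkb]
    exact hEA₂ ((hEE y).1 hx)
  · exact hb' x (hEV₁ hx) ⟨hx, hxk⟩

end K634.SatOpen
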