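import Groth.Agent.AlgSp.K634.CoeqFin
import Groth.Agent.AlgSp.K634.LiftAlg
import Mathlib.AlgebraicGeometry.Morphisms.ClosedImmersion
import Mathlib.AlgebraicGeometry.IdealSheaf.Functorial

/-!
# The local retraction of the coequalizer, for affine schemes
-/

set_option autoImplicit false

universe u

open CategoryTheory CategoryTheory.Limits AlgebraicGeometry Opposite TensorProduct

namespace K634.SecAff

open K634.ReesEq K634.CoeqFin

/-- ring map of a morphism to an affine scheme -/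
noncomputable def rg {A : CommRingCat.{u}} {Z : Scheme.{u}} (p : Z ⟶ Spec A) : A ⟶ Γ(Z, ⊤) :=
  (Scheme.ΓSpecIso A).inv ≫ p.appTop

/-- the ideal of a morphism to an affine scheme -/
noncomputable def idl {A : CommRingCat.{u}} {Z : Scheme.{u}} (p : Z ⟶ Spec A) : Ideal A := RingHom.ker (rg p).hom

theorem idl_eq_comap {A : CommRingCat.{u}} {Z : Scheme.{u}} (p : Z ⟶ Spec A) [QuasiCompact p] :
    idl p = (p.ker.ideal ⟨⊤, isAffineOpen_top _⟩).comap (Scheme.ΓSpecIso A).inv.hom := by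
  rw [Scheme.Hom.ker_apply]
  rfl

theorem idl_pow {A : CommRingCat.{u}} {Z Z' : Scheme.{u}} (p : Z ⟶ Spec A) (p' : Z' ⟶ Spec A) [QuasiCompact p]
    [QuasiCompact p'] {n : ℕ} (h : p'.ker = p.ker ^ n) : idl p' = idl p ^ n := by
  rw [idl_eq_comap, idl_eq_comap, h, Scheme.IdealSheafData.ideal_pow, Pi.pow_apply]
  let e : A ≃+* Γ(Spec A, ⊤) := (Scheme.ΓSpecIso A).symm.commRingCatIsoToRingEquiv
  change Ideal.comap e _ = Ideal.comap e _ ^ n
  rw [← Ideal.map_symm, ← Ideal.map_symm, Ideal.map_pow]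

theorem rg_surjective {A : CommRingCat.{u}} {Z : Scheme.{u}} (p : Z ⟶ Spec A) [IsClosedImmersion p] :
    Function.Surjective (rg p).hom := by
  obtain ⟨-, h⟩ := IsClosedImmersion.isAffine_surjective_of_isAffine p
  exact h.comp (ConcreteCategory.bijective_of_isIso (Scheme.ΓSpecIso A).inv).2

theorem rg_comp {A : CommRingCat.{u}} {Z Z' : Scheme.{u}} (z : Z' ⟶ Z) (p : Z ⟶ Spec A) : rg (z ≫ p) = rg p ≫ z.appTop := by
  rw [rg, rg, Scheme.Hom.comp_appTop, Category.assoc]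

theorem rg_SpecMap {A B : CommRingCat.{u}} (φ : A ⟶ B) : rg (Spec.map φ) = φ ≫ (Scheme.ΓSpecIso B).inv :=
  (Scheme.ΓSpecIso_inv_naturality φ).symm

theorem isoSpec_inv_appTop {W : Scheme.{u}} [IsAffine W] : W.isoSpec.inv.appTop = (Scheme.ΓSpecIso Γ(W, ⊤)).inv := by
  have h2 := congrArg Scheme.Hom.appTop W.isoSpec.hom_inv_id
  rw [Scheme.Hom.comp_appTop, Scheme.isoSpec_hom, Scheme.toSpecΓ_appTop] at h2
  rw [← cancel_mono (Scheme.ΓSpecIso Γ(W, ⊤)).hom, Iso.inv_hom_id, h2]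
  exact Scheme.Hom.id_appTop

theorem exists_hom {W : Scheme.{u}} [IsAffine W] {R : CommRingCat.{u}} (δ : Γ(W, ⊤) ⟶ R) :
    ∃ m : Spec R ⟶ W, m.appTop = δ ≫ (Scheme.ΓSpecIso R).inv :=
  ⟨Spec.map δ ≫ W.isoSpec.inv, by
    rw [Scheme.Hom.comp_appTop, isoSpec_inv_appTop, ← Scheme.ΓSpecIso_inv_naturality]⟩

/-- functions on `Spec B` and on `Z` which agree on the fibre product. -/
theorem sub_mem {A B : CommRingCat.{u}} (φ : A ⟶ B) {Z W : Scheme.{u}} (p : Z ⟶ Spec A) [IsClosedImmersion p]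
    (β : Spec B ⟶ W) (ζ : Z ⟶ W)
    (h : ∀ (T : Scheme.{u}) (l : T ⟶ Spec B) (r : T ⟶ Z), l ≫ Spec.map φ = r ≫ p → l ≫ β = r ≫ ζ) (x : Γ(W, ⊤)) (a : A)
    (hx : (rg p).hom a = ζ.appTop.hom x) :
    (Scheme.ΓSpecIso B).hom.hom (β.appTop.hom x) - φ.hom a ∈ (idl p).map φ.hom := by
  let J := (idl p).map φ.hom
  let μ : B ⟶ CommRingCat.of (B ⧸ J) := CommRingCat.ofHom (Ideal.Quotient.mk J)
  let l : Spec (CommRingCat.of (B ⧸ J)) ⟶ Spec B := Spec.map μ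
  have hle : p.ker ≤ (l ≫ Spec.map φ).ker := by
    refine Scheme.IdealSheafData.le_of_isAffine ?_
    rw [Scheme.Hom.ker_apply, Scheme.Hom.ker_apply]
    intro y hy
    obtain ⟨y, rfl⟩ := (ConcreteCategory.bijective_of_isIso (Scheme.ΓSpecIso A).inv).2 y
    have hy' : y ∈ idl p := hy
    change (l ≫ Spec.map φ).appTop.hom ((Scheme.ΓSpecIso A).inv.hom y) = 0
    have h1 : (Scheme.ΓSpecIso A).inv ≫ (l ≫ Spec.map φ).appTop = φ ≫ μ ≫ (Scheme.ΓSpecIso _).inv := by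
      change rg (Spec.map μ ≫ Spec.map φ) = _
      rw [← Spec.map_comp, rg_SpecMap, Category.assoc]
    have h2 := ConcreteCategory.congr_hom h1 y
    refine Eq.trans h2 ?_
    have h3 : μ.hom (φ.hom y) = 0 := Ideal.Quotient.eq_zero_iff_mem.2 (Ideal.mem_map_of_mem _ hy')
    change (Scheme.ΓSpecIso _).inv.hom (μ.hom (φ.hom y)) = 0
    rw [h3, map_zero]
  let r := IsClosedImmersion.lift p (l ≫ Spec.map φ) hle
  have hr : r ≫ p = l ≫ Spec.map φ := IsClosedImmersion.lift_fac _ _ _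
  have hlr := h _ l r hr.symm
  have h1 := congrArg Scheme.Hom.appTop hlr
  rw [Scheme.Hom.comp_appTop, Scheme.Hom.comp_appTop] at h1
  have h2 := ConcreteCategory.congr_hom h1 x
  have h3 : r.appTop.hom (ζ.appTop.hom x) = (Scheme.ΓSpecIso _).inv.hom (μ.hom (φ.hom a)) := by
    rw [← hx]
    have h4 : rg p ≫ r.appTop = φ ≫ μ ≫ (Scheme.ΓSpecIso _).inv := by
      rw [← rg_comp, hr]
      change rg (Spec.map μ ≫ Spec.map φ) = _
      rw [← Spec.map_comp, rg_SpecMap, Category.assoc]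
    exact ConcreteCategory.congr_hom h4 a
  have h5 : l.appTop.hom (β.appTop.hom x) = (Scheme.ΓSpecIso _).inv.hom (μ.hom ((Scheme.ΓSpecIso B).hom.hom (β.appTop.hom x))) := by
    have h6 : l.appTop = (Scheme.ΓSpecIso B).hom ≫ μ ≫ (Scheme.ΓSpecIso _).inv := by
      rw [← rg_SpecMap, rg, Iso.hom_inv_id_assoc]
    exact ConcreteCategory.congr_hom h6 _
  have h7 : (Scheme.ΓSpecIso (CommRingCat.of (B ⧸ J))).inv.hom (μ.hom ((Scheme.ΓSpecIso B).hom.hom (β.appTop.hom x))) =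
      (Scheme.ΓSpecIso (CommRingCat.of (B ⧸ J))).inv.hom (μ.hom (φ.hom a)) := by
    rw [← h5, ← h3]
    exact h2
  have h8 := (ConcreteCategory.bijective_of_isIso (Scheme.ΓSpecIso (CommRingCat.of (B ⧸ J))).inv).1 h7
  exact Ideal.Quotient.eq.1 h8

/-- a function on `Spec B` with equal pullbacks to the fibre product. -/
theorem mem_eqz_of_agree {A B : CommRingCat.{u}} (φ : A ⟶ B) {W : Scheme.{u}} (β : Spec B ⟶ W)
    (h : ∀ (T : Scheme.{u}) (l r : T ⟶ Spec B), l ≫ Spec.map φ = r ≫ Spec.map φ → l ≫ β = r ≫ β) (x : Γ(W, ⊤)) :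
    letI := φ.hom.toAlgebra
    (Scheme.ΓSpecIso B).hom.hom (β.appTop.hom x) ∈ eqz A B := by
  let _ := φ.hom.toAlgebra
  let jl : B ⟶ CommRingCat.of (B ⊗[A] B) := CommRingCat.ofHom Algebra.TensorProduct.includeLeftRingHom
  let jr : B ⟶ CommRingCat.of (B ⊗[A] B) := CommRingCat.ofHom
    (Algebra.TensorProduct.includeRight : B →ₐ[A] B ⊗[A] B).toRingHom
  have hw : φ ≫ jl = φ ≫ jr := (CommRingCat.isPushout_tensorProduct A B B).w
  have h1 := h _ (Spec.map jl) (Spec.map jr) (by rw [← Spec.map_comp, ← Spec.map_comp, hw])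
  have h2 := congrArg Scheme.Hom.appTop h1
  rw [Scheme.Hom.comp_appTop, Scheme.Hom.comp_appTop] at h2
  have h3 := ConcreteCategory.congr_hom h2 x
  have h4 : ∀ j : B ⟶ CommRingCat.of (B ⊗[A] B), (Spec.map j).appTop.hom (β.appTop.hom x) =
      (Scheme.ΓSpecIso _).inv.hom (j.hom ((Scheme.ΓSpecIso B).hom.hom (β.appTop.hom x))) := by
    intro j
    have h6 : (Spec.map j).appTop = (Scheme.ΓSpecIso B).hom ≫ j ≫ (Scheme.ΓSpecIso _).inv := by
      rw [← rg_SpecMap, rg, Iso.hom_inv_id_assoc]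
    exact ConcreteCategory.congr_hom h6 _
  have h5 : (Scheme.ΓSpecIso (CommRingCat.of (B ⊗[A] B))).inv.hom (jl.hom ((Scheme.ΓSpecIso B).hom.hom (β.appTop.hom x))) =
      (Scheme.ΓSpecIso (CommRingCat.of (B ⊗[A] B))).inv.hom (jr.hom ((Scheme.ΓSpecIso B).hom.hom (β.appTop.hom x))) := by
    rw [← h4, ← h4]
    exact h3
  exact (ConcreteCategory.bijective_of_isIso (Scheme.ΓSpecIso (CommRingCat.of (B ⊗[A] B))).inv).1 h5

/-- The section over the affine chart. -/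
theorem exists_eta {A B : CommRingCat.{u}} (φ : A ⟶ B) (I : Ideal A) (c k : ℕ)
    (h1 : letI := φ.hom.toAlgebra
      ∀ n, c ≤ n → ∀ b ∈ (I ^ n).map φ.hom, b ∈ eqz A B → ∃ a ∈ I ^ (n - c), φ.hom a = b)
    (h2 : ∀ x ∈ I ^ c, φ.hom x = 0 → x = 0) (hk : c ≤ k) {W Zn Zk : Scheme.{u}} [IsAffine W] (ic : W ⟶ Spec A)
    (β : Spec B ⟶ W) (hβ : β ≫ ic = Spec.map φ) (sn : Zn ⟶ Spec A) (sk : Zk ⟶ Spec A) [IsClosedImmersion sn]
    [IsClosedImmersion sk] (hsn : idl sn = I ^ (k + c + 1)) (hsk : idl sk = I ^ (k + 1)) (ζ : Zn ⟶ W) (hζ : ζ ≫ ic = sn)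
    (z : Zk ⟶ Zn) (hz : z ≫ sn = sk)
    (H3 : ∀ (T : Scheme.{u}) (l r : T ⟶ Spec B), l ≫ Spec.map φ = r ≫ Spec.map φ → l ≫ β = r ≫ β)
    (H4 : ∀ (T : Scheme.{u}) (l : T ⟶ Spec B) (r : T ⟶ Zn), l ≫ Spec.map φ = r ≫ sn → l ≫ β = r ≫ ζ) :
    ∃ η : Spec A ⟶ W, η ≫ ic = 𝟙 _ ∧ Spec.map φ ≫ η = β ∧ sk ≫ η = z ≫ ζ := by
  let _ := φ.hom.toAlgebra
  let β' : Γ(W, ⊤) ⟶ B := β.appTop ≫ (Scheme.ΓSpecIso B).hom
  have e1 : rg ic ≫ β' = φ := by
    change rg ic ≫ β.appTop ≫ (Scheme.ΓSpecIso B).hom = φ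
    rw [← Category.assoc, ← rg_comp, hβ, rg_SpecMap, Category.assoc, Iso.inv_hom_id, Category.comp_id]
  have e2 : rg ic ≫ ζ.appTop = rg sn := by rw [← rg_comp, hζ]
  have e3 : rg sn ≫ z.appTop = rg sk := by rw [← rg_comp, hz]
  obtain ⟨δ, hδ1, hδ2, hδ3⟩ := K634.LiftAlg.exists_retraction (A := A) (B := B) (C := Γ(W, ⊤)) (Dn := Γ(Zn, ⊤)) (Dk := Γ(Zk, ⊤))
    I c h1 h2 k hk (rg sn).hom (rg_surjective sn) (rg sk).hom hsk z.appTop.hom (by rw [← e3]; rfl)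
    (rg ic).hom β'.hom (by
      change (rg ic ≫ β').hom = φ.hom
      rw [e1]) ζ.appTop.hom (by rw [← e2]; rfl)
    (mem_eqz_of_agree φ β H3) (by
      intro x a hx
      have h3 := sub_mem φ sn β ζ H4 x a hx
      rw [hsn] at h3
      exact h3)
  obtain ⟨η, hη⟩ := exists_hom (W := W) (CommRingCat.ofHom δ)
  have d1 : CommRingCat.ofHom δ ≫ φ = β' := CommRingCat.hom_ext hδ1
  have d2 : CommRingCat.ofHom δ ≫ rg sk = ζ.appTop ≫ z.appTop := CommRingCat.hom_ext hδ2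
  have d3 : rg ic ≫ CommRingCat.ofHom δ = 𝟙 _ := CommRingCat.hom_ext hδ3
  refine ⟨η, hom_ext_spec _ _ ?_, ext_of_isAffine ?_, ext_of_isAffine ?_⟩
  · change rg (η ≫ ic) = _
    rw [rg_comp, hη, ← Category.assoc, d3, Category.id_comp]
    exact (Category.comp_id _).symm.trans (congrArg _ Scheme.Hom.id_appTop.symm)
  · rw [Scheme.Hom.comp_appTop, hη, Category.assoc]
    change CommRingCat.ofHom δ ≫ rg (Spec.map φ) = _
    rw [rg_SpecMap, ← Category.assoc, d1, Category.assoc, Iso.hom_inv_id, Category.comp_id]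
  · rw [Scheme.Hom.comp_appTop, hη, Category.assoc, Scheme.Hom.comp_appTop, ← d2]
    rfl

end K634.SecAff
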