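import Groth.Agent.AlgSp.K634.CoeqFin
import Groth.Agent.AlgSp.K634.FiniteMor
import Groth.Agent.AlgSp.K598.SchImg
import Groth.Agent.AlgSp.K610.Factor

/-!
# Uniqueness of morphisms to a separated space along a schematically dominant morphism

* `sep_ext`
* `finite_of_coeq`: every coequalizer of `Y ×_X Y ⇉ Y` is finite over `X`.
-/

set_option autoImplicit false

universe u

open CategoryTheory CategoryTheory.Limits AlgebraicGeometry Opposite

namespace K634.SepExt

open AlgSp K634.CoeqFin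

variable {S : Scheme.{u}}

theorem sep_ext {X₁ X Y : Sp S} {c : X₁ ⟶ X} (hc : IsSeparatedMor c) (g : Y ⟶ X) {T : Over S} (t : (yon S).obj T ⟶ X)
    (u₁ u₂ : (yon S).obj T ⟶ X₁) (h₁ : u₁ ≫ c = t) (h₂ : u₂ ≫ c = t) (hK : K598.SchImg.K g t = ⊥)
    (h : ∀ (W : Over S) (y : (yon S).obj W ⟶ Y) (b : W ⟶ T), y ≫ g = (yon S).map b ≫ t →
      (yon S).map b ≫ u₁ = (yon S).map b ≫ u₂) : u₁ = u₂ := by
  let l : (yon S).obj T ⟶ pullback c c := pullback.lift u₁ u₂ (h₁.trans h₂.symm)
  obtain ⟨E, e, fst, sq⟩ := hc.1 l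
  have hcl : IsClosedImmersion e.left := hc.2 _ _ _ sq
  have hker : e.left.ker ≤ K598.SchImg.K g t := by
    refine K598.SchImg.le_K fun W y b hyb ↦ ?_
    have h1 := h W y b hyb
    have h2 : ((yon S).map b ≫ u₁) ≫ pullback.diagonal c = (yon S).map b ≫ l := by
      apply pullback.hom_ext
      · simp only [Category.assoc, pullback.diagonal_fst, Category.comp_id, l, pullback.lift_fst]
      · simp only [Category.assoc, pullback.diagonal_snd, Category.comp_id, l, pullback.lift_snd]
        exact h1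
    obtain ⟨e', he'⟩ := (yon S).map_surjective (sq.lift _ _ h2)
    have h3 : e' ≫ e = b := by
      apply (yon S).map_injective
      rw [Functor.map_comp, he', sq.lift_snd]
    rw [← h3, Over.comp_left, Scheme.IdealSheafData.comap_comp, K598.ClFam.comap_ker_self,
      Scheme.IdealSheafData.comap_bot]
  rw [hK, le_bot_iff] at hker
  have hiso : IsIso e.left := K598.ClFam.isIso_of_ker_eq_bot _ hker
  have hiso' : IsIso e := K610.Factor.isIso_of_left e hiso
  have h4 : fst = (yon S).map e ≫ u₁ := by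
    have := congrArg (· ≫ pullback.fst c c) sq.w
    simpa only [Category.assoc, pullback.diagonal_fst, Category.comp_id, l, pullback.lift_fst] using this
  have h5 : fst = (yon S).map e ≫ u₂ := by
    have := congrArg (· ≫ pullback.snd c c) sq.w
    simpa only [Category.assoc, pullback.diagonal_snd, Category.comp_id, l, pullback.lift_snd] using this
  rw [← cancel_epi ((yon S).map e), ← h4, ← h5]

theorem finite_of_coeq (HC : CoeqHyp S) {X Y R X' : Space S} (g : Y ⟶ X) (hX : IsLocNoethSp X.obj) (hg : IsProperMor g.hom)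
    (t s : R ⟶ Y) (hR : IsPullback t.hom s.hom g.hom g.hom) (π : Y ⟶ X') (w : t ≫ π = s ≫ π)
    (hc : IsColimit (Cofork.ofπ π w)) (c : X' ⟶ X) (hπc : π ≫ c = g) :
    IsFiniteMor c.hom ∧ IsSurjectiveMor π.hom ∧ (IsSurjectiveMor g.hom → IsUnivHomeoMor c.hom) := by
  obtain ⟨X'', π', w', c', ⟨hc'⟩, hπ', hfin, -, hs, -, hu⟩ := HC g hX hg t s hR
  let e : X' ≅ X'' := hc.coconePointUniqueUpToIso hc'
  have he : π ≫ e.hom = π' := hc.comp_coconePointUniqueUpToIso_hom hc' WalkingParallelPair.one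
  have hce : e.hom ≫ c' = c := by
    refine Cofork.IsColimit.hom_ext hc ?_
    change π ≫ e.hom ≫ c' = π ≫ c
    rw [← Category.assoc, he, hπ', hπc]
  have hce' : c.hom = e.hom.hom ≫ c'.hom := congrArg (·.hom) hce.symm
  have hei : IsIso e.hom.hom := inferInstanceAs (IsIso ((ObjectProperty.ι _).map e.hom))
  have hπe : π.hom = π'.hom ≫ inv e.hom.hom := by
    rw [IsIso.eq_comp_inv]
    exact congrArg (·.hom) he
  refine ⟨?_, ?_, fun hgs ↦ ?_⟩
  · rw [K634.FiniteMor.isFiniteMor_iff] at hfin ⊢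
    rw [hce']
    exact MorphismProperty.comp_mem _ _ _ (K598.RepKit.repWith_of_isIso _) hfin
  · have h1 : Function.Surjective (Points.map (inv e.hom.hom)) := fun x ↦
      ⟨Points.map e.hom.hom x, by rw [← Points.map_comp, IsIso.hom_inv_id, Points.map_id]⟩
    rw [hπe]
    intro x
    obtain ⟨y, rfl⟩ := h1 x
    obtain ⟨z, rfl⟩ := hs y
    exact ⟨z, by rw [Points.map_comp]⟩
  · intro Z Z' hZ z fst snd sq
    refine hu hgs hZ z (fst ≫ e.hom.hom) snd ?_
    refine IsPullback.of_iso sq (Iso.refl _) (asIso e.hom.hom) (Iso.refl _) (Iso.refl _) ?_ ?_ ?_ ?_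
    all_goals simp [hce']

end K634.SepExt
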