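import Groth.Agent.AlgSp.K634.SecAff
import Groth.Agent.AlgSp.K634.SepExt
import Groth.Agent.AlgSp.K634.CoprodProper
import Groth.Agent.AlgSp.K634.ReesSp
import Groth.Agent.AlgSp.K618.ClosedPt
import Groth.Agent.AlgSp.K635.Glue

/-!
# The section of the coequalizer
-/

set_option autoImplicit false

universe u

open CategoryTheory CategoryTheory.Limits AlgebraicGeometry Opposite TensorProduct

namespace K634.SecGlue

open AlgSp K634.ReesEq K634.CoeqFin K634.SecAff K634.SepExt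

variable {S : Scheme.{u}}

/-- `K f g` is contained in the kernel of every scheme over `Y ×_X T`. -/
theorem K_le_ker {X Y : Sp S} (f : X ⟶ Y) {T W : Over S} (g : (yon S).obj T ⟶ Y) (w : (yon S).obj W ⟶ X) (b : W ⟶ T)
    (h : w ≫ f = (yon S).map b ≫ g) : K598.SchImg.K f g ≤ b.left.ker :=
  (K598.ClFam.le_ker_iff _).2 (K598.SchImg.K_mem f g W w b h)

theorem agree_of_coeq {X Y R X₁ : Space S} (g : Y ⟶ X) (t s : R ⟶ Y) (hR : IsPullback t.hom s.hom g.hom g.hom) (π : Y ⟶ X₁)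
    (w : t ≫ π = s ≫ π) {G : Sp S} (y₁ y₂ : G ⟶ Y.obj) (h : y₁ ≫ g.hom = y₂ ≫ g.hom) : y₁ ≫ π.hom = y₂ ≫ π.hom := by
  have hw : t.hom ≫ π.hom = s.hom ≫ π.hom := congrArg (·.hom) w
  rw [← hR.lift_fst _ _ h, Category.assoc, hw, ← Category.assoc, hR.lift_snd]

/-- The section over the chart. -/
theorem exists_section_chart {X X' Zn Zk Yn Rn Xn : Space S} (f : X' ⟶ X) (kn : Zn ⟶ X) (kk : Zk ⟶ X) (zz : Zk ⟶ Zn)
    (hzz : zz ≫ kn = kk) (inl : X' ⟶ Yn) (inr : Zn ⟶ Yn) (g : Yn ⟶ X)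
    (hg₁ : inl ≫ g = f) (hg₂ : inr ≫ g = kn) (t s : Rn ⟶ Yn) (hR : IsPullback t.hom s.hom g.hom g.hom) (π : Yn ⟶ Xn)
    (w : t ≫ π = s ≫ π) (c : Xn ⟶ X) (hc : π ≫ c = g) (hcf : IsFiniteMor c.hom)
    {A B : CommRingCat.{u}} (I : Ideal A) (sA : Spec A ⟶ S) (φ : A ⟶ B) (v : (yon S).obj (Over.mk sA) ⟶ X.obj)
    {YV : Sp S} (x' : YV ⟶ X'.obj) (fV : YV ⟶ (yon S).obj (Over.mk sA)) (sqY : IsPullback x' fV f.hom v)
    (w₀ : (yon S).obj (Over.mk (Spec.map φ ≫ sA)) ⟶ YV)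
    (hw₀ : w₀ ≫ fV = (yon S).map (Over.homMk (Spec.map φ) rfl))
    {ZnV ZkV : Over S} (sn : ZnV ⟶ Over.mk sA) (fn : (yon S).obj ZnV ⟶ Zn.obj) (sqn : IsPullback fn ((yon S).map sn) kn.hom v)
    (sk : ZkV ⟶ Over.mk sA) (fk : (yon S).obj ZkV ⟶ Zk.obj) (sqk : IsPullback fk ((yon S).map sk) kk.hom v)
    (hsnc : IsClosedImmersion sn.left) (hskc : IsClosedImmersion sk.left) (k c₀ : ℕ) (hk : c₀ ≤ k)
    (hIn : idl sn.left = I ^ (k + c₀ + 1)) (hIk : idl sk.left = I ^ (k + 1))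
    (h1 : letI := φ.hom.toAlgebra
      ∀ n, c₀ ≤ n → ∀ b ∈ (I ^ n).map φ.hom, b ∈ eqz A B → ∃ a ∈ I ^ (n - c₀), φ.hom a = b)
    (h2 : ∀ x ∈ I ^ c₀, φ.hom x = 0 → x = 0) :
    ∃ hV : (yon S).obj (Over.mk sA) ⟶ Xn.obj, hV ≫ c.hom = v ∧
      (yon S).map (Over.homMk (Spec.map φ) rfl : Over.mk (Spec.map φ ≫ sA) ⟶ Over.mk sA) ≫ hV =
        w₀ ≫ x' ≫ inl.hom ≫ π.hom ∧ (yon S).map sk ≫ hV = fk ≫ zz.hom ≫ inr.hom ≫ π.hom := by
  let VA : Over S := Over.mk sA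
  let WB : Over S := Over.mk (Spec.map φ ≫ sA)
  let q : WB ⟶ VA := Over.homMk (Spec.map φ) rfl
  have hVAA : IsAffine VA.left := inferInstanceAs (IsAffine (Spec A))
  obtain ⟨Wc, ic, fc, sqc, hWcA, -⟩ := hcf hVAA v
  have e1 : inl.hom ≫ g.hom = f.hom := congrArg (·.hom) hg₁
  have e2 : inr.hom ≫ g.hom = kn.hom := congrArg (·.hom) hg₂
  have e3 : π.hom ≫ c.hom = g.hom := congrArg (·.hom) hc
  have e4 : zz.hom ≫ kn.hom = kk.hom := congrArg (·.hom) hzz
  have hβw : (w₀ ≫ x' ≫ inl.hom ≫ π.hom) ≫ c.hom = (yon S).map q ≫ v := by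
    simp only [Category.assoc]
    rw [e3, e1, sqY.w, ← Category.assoc, hw₀]
  obtain ⟨β₀, hβ₀⟩ := (yon S).map_surjective (sqc.lift _ _ hβw)
  have hβ1 : (yon S).map β₀ ≫ fc = w₀ ≫ x' ≫ inl.hom ≫ π.hom := by rw [hβ₀, sqc.lift_fst]
  have hβ2 : β₀ ≫ ic = q := by
    apply (yon S).map_injective
    rw [Functor.map_comp, hβ₀, sqc.lift_snd]
  have hζw : (fn ≫ inr.hom ≫ π.hom) ≫ c.hom = (yon S).map sn ≫ v := by
    simp only [Category.assoc]
    rw [e3, e2, sqn.w]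
  obtain ⟨ζ₀, hζ₀⟩ := (yon S).map_surjective (sqc.lift _ _ hζw)
  have hζ1 : (yon S).map ζ₀ ≫ fc = fn ≫ inr.hom ≫ π.hom := by rw [hζ₀, sqc.lift_fst]
  have hζ2 : ζ₀ ≫ ic = sn := by
    apply (yon S).map_injective
    rw [Functor.map_comp, hζ₀, sqc.lift_snd]
  have hzw : (fk ≫ zz.hom) ≫ kn.hom = (yon S).map sk ≫ v := by rw [Category.assoc, e4, sqk.w]
  obtain ⟨zV, hzV⟩ := (yon S).map_surjective (sqn.lift _ _ hzw)
  have hz1 : (yon S).map zV ≫ fn = fk ≫ zz.hom := by rw [hzV, sqn.lift_fst]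
  have hz2 : zV ≫ sn = sk := by
    apply (yon S).map_injective
    rw [Functor.map_comp, hzV, sqn.lift_snd]
  obtain ⟨η₀, hη1, hη2, hη3⟩ := exists_eta φ I c₀ k h1 h2 hk (W := Wc.left) ic.left β₀.left
    (congrArg (fun f ↦ f.left) hβ2) sn.left sk.left hIn hIk ζ₀.left (congrArg (fun f ↦ f.left) hζ2) zV.left
    (congrArg (fun f ↦ f.left) hz2) (by
      intro T l r hlr
      let T' : Over S := Over.mk (l ≫ Spec.map φ ≫ sA)
      let l' : T' ⟶ WB := Over.homMk l rfl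
      let r' : T' ⟶ WB := Over.homMk r (by
        change r ≫ Spec.map φ ≫ sA = l ≫ Spec.map φ ≫ sA
        rw [← Category.assoc, ← hlr, Category.assoc])
      have hlr' : l' ≫ q = r' ≫ q := by
        ext1
        exact hlr
      have h3 : l' ≫ β₀ = r' ≫ β₀ := by
        apply (yon S).map_injective
        refine sqc.hom_ext ?_ ?_
        · have h4 := agree_of_coeq g t s hR π w ((yon S).map l' ≫ w₀ ≫ x' ≫ inl.hom) ((yon S).map r' ≫ w₀ ≫ x' ≫ inl.hom) (by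
            have h5 : (yon S).map l' ≫ w₀ ≫ fV = (yon S).map r' ≫ w₀ ≫ fV := by
              rw [hw₀]
              change (yon S).map l' ≫ (yon S).map q = (yon S).map r' ≫ (yon S).map q
              rw [← Functor.map_comp, ← Functor.map_comp, hlr']
            simp only [Category.assoc]
            rw [e1, sqY.w, reassoc_of% h5])
          rw [Functor.map_comp, Functor.map_comp, Category.assoc, Category.assoc, hβ1]
          simpa only [Category.assoc] using h4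
        · rw [← Functor.map_comp, ← Functor.map_comp, Category.assoc, Category.assoc, hβ2, hlr']
      exact congrArg (fun f ↦ f.left) h3) (by
      intro T l r hlr
      let T' : Over S := Over.mk (l ≫ Spec.map φ ≫ sA)
      let l' : T' ⟶ WB := Over.homMk l rfl
      let r' : T' ⟶ ZnV := Over.homMk r (by
        change r ≫ ZnV.hom = l ≫ Spec.map φ ≫ sA
        rw [← Over.w sn, ← Category.assoc, ← hlr, Category.assoc]
        rfl)
      have hlr' : l' ≫ q = r' ≫ sn := by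
        ext1
        exact hlr
      have h3 : l' ≫ β₀ = r' ≫ ζ₀ := by
        apply (yon S).map_injective
        refine sqc.hom_ext ?_ ?_
        · have h4 := agree_of_coeq g t s hR π w ((yon S).map l' ≫ w₀ ≫ x' ≫ inl.hom) ((yon S).map r' ≫ fn ≫ inr.hom) (by
            have h5 : (yon S).map l' ≫ w₀ ≫ fV = (yon S).map r' ≫ (yon S).map sn := by
              rw [hw₀]
              change (yon S).map l' ≫ (yon S).map q = (yon S).map r' ≫ (yon S).map sn
              rw [← Functor.map_comp, ← Functor.map_comp, hlr']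
            simp only [Category.assoc]
            rw [e1, sqY.w, reassoc_of% h5, e2, sqn.w])
          rw [Functor.map_comp, Functor.map_comp, Category.assoc, Category.assoc, hβ1, hζ1]
          simpa only [Category.assoc] using h4
        · rw [← Functor.map_comp, ← Functor.map_comp, Category.assoc, Category.assoc, hβ2, hζ2, hlr']
      exact congrArg (fun f ↦ f.left) h3)
  let η : VA ⟶ Wc := Over.homMk η₀ (by
    change η₀ ≫ Wc.hom = sA
    rw [← Over.w ic]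
    change η₀ ≫ ic.left ≫ sA = sA
    rw [← Category.assoc, hη1, Category.id_comp])
  have hη1' : η ≫ ic = 𝟙 _ := by
    ext1
    exact hη1
  have hη2' : q ≫ η = β₀ := by
    ext1
    exact hη2
  have hη3' : sk ≫ η = zV ≫ ζ₀ := by
    ext1
    exact hη3
  refine ⟨(yon S).map η ≫ fc, ?_, ?_, ?_⟩
  · rw [Category.assoc, sqc.w, ← Category.assoc, ← Functor.map_comp, hη1', CategoryTheory.Functor.map_id, Category.id_comp]
  · change (yon S).map q ≫ (yon S).map η ≫ fc = _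
    rw [← Category.assoc, ← Functor.map_comp, hη2', hβ1]
  · rw [← Category.assoc, ← Functor.map_comp, hη3', Functor.map_comp, Category.assoc, hζ1, reassoc_of% hz1]

/-- The section over the chart agrees with the canonical map on `Y_k`. -/
theorem agree_chart {X X' Zk Yk Xn : Space S} (f : X' ⟶ X) (kk : Zk ⟶ X)
    (inlk : X' ⟶ Yk) (inrk : Zk ⟶ Yk) (hYk : IsColimit (BinaryCofan.mk inlk inrk)) (gk : Yk ⟶ X)
    (hgk₁ : inlk ≫ gk = f) (hgk₂ : inrk ≫ gk = kk) {V WB ZkV : Over S} (v : (yon S).obj V ⟶ X.obj)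
    {YV : Sp S} (x' : YV ⟶ X'.obj) (fV : YV ⟶ (yon S).obj V) (sqY : IsPullback x' fV f.hom v)
    (w₀ : (yon S).obj WB ⟶ YV) (hwe : RepWith @Etale w₀) (hws : RepWith @Surjective w₀) (q : WB ⟶ V)
    (hw₀ : w₀ ≫ fV = (yon S).map q)
    (sk : ZkV ⟶ V) (fk : (yon S).obj ZkV ⟶ Zk.obj) (sqk : IsPullback fk ((yon S).map sk) kk.hom v)
    (hV : (yon S).obj V ⟶ Xn.obj) (ρ : Yk.obj ⟶ Xn.obj)
    (h1 : (yon S).map q ≫ hV = w₀ ≫ x' ≫ inlk.hom ≫ ρ) (h2 : (yon S).map sk ≫ hV = fk ≫ inrk.hom ≫ ρ)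
    {W' : Over S} (y : (yon S).obj W' ⟶ Yk.obj) (b : W' ⟶ V) (hyb : y ≫ gk.hom = (yon S).map b ≫ v) :
    (yon S).map b ≫ hV = y ≫ ρ := by
  obtain ⟨hc⟩ := K634.CoprodSp.nonempty_isColimit_hom hYk
  have e1 : inlk.hom ≫ gk.hom = f.hom := congrArg (·.hom) hgk₁
  have e2 : inrk.hom ≫ gk.hom = kk.hom := congrArg (·.hom) hgk₂
  have hls := K610.Site.isLocallySurjective_of_etale hwe hws
  refine K610.Site.eq_of_cover fun x ↦ ?_
  obtain ⟨T', ψ, hf1, hf2, ⟨x1, rfl⟩, hlr⟩ := K634.CoprodSp.exists_local_lift hc y x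
  rcases hlr with ⟨l, hl⟩ | ⟨r, hr⟩
  · have hlw : l ≫ f.hom = (yon S).map (ψ ≫ b) ≫ v := by
      rw [← e1, ← Category.assoc, hl, Category.assoc, hyb, Functor.map_comp, Category.assoc]
    obtain ⟨T'', ψ2, hf3, hf4, ⟨x2, rfl⟩, m, hm⟩ := K610.Site.exists_local_lift w₀ (sqY.lift _ _ hlw) x1
    obtain ⟨m', rfl⟩ := (yon S).map_surjective m
    have h3 : m' ≫ q = ψ2 ≫ ψ ≫ b := by
      apply (yon S).map_injective
      rw [Functor.map_comp, ← hw₀, ← Category.assoc, hm, Category.assoc, sqY.lift_snd, ← Functor.map_comp]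
    refine ⟨T'', ψ2 ≫ ψ, ?_, ?_, ⟨x2, rfl⟩, ?_⟩
    · exact inferInstanceAs (Flat (ψ2.left ≫ ψ.left))
    · exact inferInstanceAs (LocallyOfFinitePresentation (ψ2.left ≫ ψ.left))
    · rw [← Category.assoc, ← Functor.map_comp, Category.assoc, ← h3, Functor.map_comp, Category.assoc, h1,
        ← Category.assoc ((yon S).map m'), hm, Category.assoc, ← Category.assoc (sqY.lift _ _ hlw) x', sqY.lift_fst,
        Functor.map_comp, Category.assoc, ← Category.assoc l, hl, Category.assoc]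
  · have hrw : r ≫ kk.hom = (yon S).map (ψ ≫ b) ≫ v := by
      rw [← e2, ← Category.assoc, hr, Category.assoc, hyb, Functor.map_comp, Category.assoc]
    obtain ⟨m', hm'⟩ := (yon S).map_surjective (sqk.lift _ _ hrw)
    have h3 : m' ≫ sk = ψ ≫ b := by
      apply (yon S).map_injective
      rw [Functor.map_comp, hm', sqk.lift_snd]
    have h4 : (yon S).map m' ≫ fk = r := by rw [hm', sqk.lift_fst]
    refine ⟨T', ψ, hf1, hf2, ⟨x1, rfl⟩, ?_⟩
    rw [← Category.assoc, ← Functor.map_comp, ← h3, Functor.map_comp, Category.assoc, h2, ← Category.assoc, h4,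
      ← Category.assoc, hr, Category.assoc]

/-- Schematic dominance of `Y_k` over the chart. -/
theorem K_eq_bot {X X' Zk Yk : Space S} (f : X' ⟶ X) (kk : Zk ⟶ X)
    (inlk : X' ⟶ Yk) (inrk : Zk ⟶ Yk) (gk : Yk ⟶ X)
    (hgk₁ : inlk ≫ gk = f) (hgk₂ : inrk ≫ gk = kk)
    {A B : CommRingCat.{u}} (I : Ideal A) (sA : Spec A ⟶ S) (φ : A ⟶ B) (v : (yon S).obj (Over.mk sA) ⟶ X.obj)
    {YV : Sp S} (x' : YV ⟶ X'.obj) (fV : YV ⟶ (yon S).obj (Over.mk sA)) (sqY : IsPullback x' fV f.hom v)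
    (w₀ : (yon S).obj (Over.mk (Spec.map φ ≫ sA)) ⟶ YV)
    (hw₀ : w₀ ≫ fV = (yon S).map (Over.homMk (Spec.map φ) rfl))
    {ZkV : Over S} (sk : ZkV ⟶ Over.mk sA) (fk : (yon S).obj ZkV ⟶ Zk.obj) (sqk : IsPullback fk ((yon S).map sk) kk.hom v)
    (hskc : IsClosedImmersion sk.left) (k c₀ : ℕ) (hk : c₀ ≤ k) (hIk : idl sk.left = I ^ (k + 1))
    (h2 : ∀ x ∈ I ^ c₀, φ.hom x = 0 → x = 0) : K598.SchImg.K gk.hom v = ⊥ := by
  let VA : Over S := Over.mk sA
  let WB : Over S := Over.mk (Spec.map φ ≫ sA)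
  let q : WB ⟶ VA := Over.homMk (Spec.map φ) rfl
  have e1 : inlk.hom ≫ gk.hom = f.hom := congrArg (·.hom) hgk₁
  have e2 : inrk.hom ≫ gk.hom = kk.hom := congrArg (·.hom) hgk₂
  have k1 := K_le_ker gk.hom v (w₀ ≫ x' ≫ inlk.hom) q (by
    simp only [Category.assoc]
    rw [e1, sqY.w, ← Category.assoc, hw₀])
  have k2 := K_le_ker gk.hom v (fk ≫ inrk.hom) sk (by
    simp only [Category.assoc]
    rw [e2, sqk.w])
  refine le_bot_iff.1 (Scheme.IdealSheafData.le_of_isAffine (X := Spec A) ?_)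
  intro y hy
  obtain ⟨y, rfl⟩ := (ConcreteCategory.bijective_of_isIso (Scheme.ΓSpecIso A).inv).2 y
  have m1 := k1 _ hy
  have m2 := k2 _ hy
  change _ ∈ (Spec.map φ).ker.ideal _ at m1
  rw [Scheme.Hom.ker_apply] at m1
  have n1 : (rg (Spec.map φ)).hom y = 0 := m1
  have n2 : y ∈ idl sk.left := by
    rw [idl_eq_comap]
    exact m2
  rw [rg_SpecMap] at n1
  have n3 : φ.hom y = 0 :=
    (ConcreteCategory.bijective_of_isIso (Scheme.ΓSpecIso B).inv).1 (n1.trans (map_zero (Scheme.ΓSpecIso B).inv.hom).symm)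
  rw [hIk] at n2
  have n4 : y = 0 := h2 y (Ideal.pow_le_pow_right (by omega) n2) n3
  rw [n4, map_zero]
  exact Ideal.zero_mem _

end K634.SecGlue
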