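import Groth.Agent.AlgSp.K634.SecGlue
import Groth.Agent.AlgSp.K621.Charts
import Groth.Agent.AlgSp.K609.QC

/-!
# The coequalizers of the infinitesimal neighbourhoods along a modification
-/

set_option autoImplicit false

universe u

open CategoryTheory CategoryTheory.Limits AlgebraicGeometry Opposite TensorProduct

namespace K634.SecMain

open AlgSp K634.ReesEq K634.CoeqFin K634.SecAff K634.SepExt K634.SecGlue

variable {S : Scheme.{u}}

/-- Descent of a morphism to a separated space over `X`. -/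
theorem exists_desc_sep {X X₁ : Space S} {Y : Sp S} (c : X₁ ⟶ X) (hc : IsSeparatedMor c.hom) (g : Y ⟶ X.obj) (hg : IsQuasiCompactMor g)
    {V : Over S} (hVA : IsAffine V.left) (v : (yon S).obj V ⟶ X.obj) (hv : RepWith @Etale v) (hvs : RepWith @Surjective v)
    (hV : (yon S).obj V ⟶ X₁.obj) (h1 : hV ≫ c.hom = v) (hK : K598.SchImg.K g v = ⊥) (ρ : Y ⟶ X₁.obj)
    (h2 : ∀ (W' : Over S) (y : (yon S).obj W' ⟶ Y) (b : W' ⟶ V), y ≫ g = (yon S).map b ≫ v →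
      (yon S).map b ≫ hV = y ≫ ρ) : ∃ h : X.obj ⟶ X₁.obj, v ≫ h = hV := by
  have hepi := K610.Site.epi_of_etale hv hvs
  obtain ⟨RV, r1, fst, sqR⟩ := hv.1 v
  obtain ⟨r2, rfl⟩ := (yon S).map_surjective fst
  have hr1 : Etale r1.left := hv.2 _ _ _ sqR
  have key : (yon S).map r2 ≫ hV = (yon S).map r1 ≫ hV := by
    refine K610.Site.eq_of_cover fun x ↦ ?_
    obtain ⟨O, hO, hxO, -⟩ := K635.Glue.exists_affine_nhd x ⊤ trivial
    let T' : Over S := Over.mk (O.ι ≫ RV.hom)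
    let ι : T' ⟶ RV := Over.homMk O.ι rfl
    have hιo : IsOpenImmersion ι.left := inferInstanceAs (IsOpenImmersion O.ι)
    have hTA : IsAffine T'.left := hO
    refine ⟨T', ι, inferInstance, inferInstance, ⟨⟨x, hxO⟩, rfl⟩, ?_⟩
    have hfl : Flat (ι ≫ r1).left := by
      rw [Over.comp_left]
      infer_instance
    have hcomp : (yon S).map (ι ≫ r2) ≫ v = (yon S).map (ι ≫ r1) ≫ v := by
      rw [Functor.map_comp, Functor.map_comp, Category.assoc, Category.assoc, sqR.w]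
    refine sep_ext hc g ((yon S).map (ι ≫ r1) ≫ v) _ _ ?_ ?_ ?_ ?_
    · rw [← Category.assoc, ← Functor.map_comp, Category.assoc, h1, hcomp]
    · rw [← Category.assoc, ← Functor.map_comp, Category.assoc, h1]
    · rw [K598.SchImg.K_bc' hg v (ι ≫ r1), hK, Scheme.IdealSheafData.comap_bot]
    · intro W y b hyb
      have k1 := h2 W y (b ≫ ι ≫ r1) (by rw [hyb, Functor.map_comp (yon S) b (ι ≫ r1), Category.assoc])
      have k2 := h2 W y (b ≫ ι ≫ r2) (by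
        rw [hyb, Functor.map_comp (yon S) b (ι ≫ r2), Category.assoc, hcomp])
      rw [← Category.assoc, ← Category.assoc, ← Functor.map_comp, ← Functor.map_comp, ← Category.assoc, ← Category.assoc,
        ← Functor.map_comp, ← Functor.map_comp, Category.assoc, Category.assoc, k1, k2]
  exact K610.Site.exists_desc v hV fun T a b hab ↦ by
    rw [← sqR.lift_fst a b hab, Category.assoc, key, ← Category.assoc, sqR.lift_snd]

/-- An affine chart, as a spectrum. -/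
theorem exists_spec_chart {F : Sp S} (h : IsQuasiCompactSp F) : ∃ (A : CommRingCat.{u}) (sA : Spec A ⟶ S)
    (v : (yon S).obj (Over.mk sA) ⟶ F), RepWith @Etale v ∧ RepWith @Surjective v := by
  obtain ⟨V, v, hV, hv, hvs⟩ := K609.QC.exists_affine_chart h
  let e : Over.mk (V.left.isoSpec.inv ≫ V.hom) ⟶ V := Over.homMk V.left.isoSpec.inv rfl
  have he : IsIso e.left := inferInstanceAs (IsIso V.left.isoSpec.inv)
  refine ⟨Γ(V.left, ⊤), V.left.isoSpec.inv ≫ V.hom, (yon S).map e ≫ v, ?_, ?_⟩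
  · exact MorphismProperty.comp_mem _ _ _ ((repWith_yon_map_iff _ _).2 (inferInstance : Etale e.left)) hv
  · exact MorphismProperty.comp_mem _ _ _ ((repWith_yon_map_iff _ _).2 (inferInstance : Surjective e.left)) hvs

theorem exists_spec_chart_over {F : Sp S} (h : IsQuasiCompactSp F) {A : CommRingCat.{u}} (sA : Spec A ⟶ S)
    (f : F ⟶ (yon S).obj (Over.mk sA)) : ∃ (B : CommRingCat.{u}) (φ : A ⟶ B)
    (w : (yon S).obj (Over.mk (Spec.map φ ≫ sA)) ⟶ F), RepWith @Etale w ∧ RepWith @Surjective w ∧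
      w ≫ f = (yon S).map (Over.homMk (Spec.map φ) rfl) := by
  obtain ⟨B, sB, w, hw, hws⟩ := exists_spec_chart h
  obtain ⟨m, hm⟩ := (yon S).map_surjective (w ≫ f)
  obtain ⟨φ, hφ⟩ := Spec.map_surjective m.left
  have hsB : Spec.map φ ≫ sA = sB := by
    rw [hφ]
    exact Over.w m
  subst hsB
  refine ⟨B, φ, w, hw, hws, ?_⟩
  rw [← hm]
  congr 1
  ext1
  exact hφ.symm

theorem glue {X X' Zn Zk Yn Yk Rn Xn : Space S} (f : X' ⟶ X) (kn : Zn ⟶ X) (kk : Zk ⟶ X) (zz : Zk ⟶ Zn)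
    (hzz : zz ≫ kn = kk) (inl : X' ⟶ Yn) (inr : Zn ⟶ Yn) (g : Yn ⟶ X)
    (hg₁ : inl ≫ g = f) (hg₂ : inr ≫ g = kn) (inlk : X' ⟶ Yk) (inrk : Zk ⟶ Yk)
    (hYk : IsColimit (BinaryCofan.mk inlk inrk)) (gk : Yk ⟶ X) (hgk₁ : inlk ≫ gk = f) (hgk₂ : inrk ≫ gk = kk)
    (hgkq : IsQuasiCompactMor gk.hom) (yy : Yk ⟶ Yn) (hyy₁ : inlk ≫ yy = inl) (hyy₂ : inrk ≫ yy = zz ≫ inr)
    (t s : Rn ⟶ Yn) (hR : IsPullback t.hom s.hom g.hom g.hom) (π : Yn ⟶ Xn)
    (w : t ≫ π = s ≫ π) (c : Xn ⟶ X) (hc : π ≫ c = g) (hcf : IsFiniteMor c.hom)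
    {A B : CommRingCat.{u}} (I : Ideal A) (sA : Spec A ⟶ S) (φ : A ⟶ B) (v : (yon S).obj (Over.mk sA) ⟶ X.obj)
    (hv : RepWith @Etale v) (hvs : RepWith @Surjective v)
    {YV : Sp S} (x' : YV ⟶ X'.obj) (fV : YV ⟶ (yon S).obj (Over.mk sA)) (sqY : IsPullback x' fV f.hom v)
    (w₀ : (yon S).obj (Over.mk (Spec.map φ ≫ sA)) ⟶ YV) (hwe : RepWith @Etale w₀) (hws : RepWith @Surjective w₀)
    (hw₀ : w₀ ≫ fV = (yon S).map (Over.homMk (Spec.map φ) rfl))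
    {ZnV ZkV : Over S} (sn : ZnV ⟶ Over.mk sA) (fn : (yon S).obj ZnV ⟶ Zn.obj) (sqn : IsPullback fn ((yon S).map sn) kn.hom v)
    (sk : ZkV ⟶ Over.mk sA) (fk : (yon S).obj ZkV ⟶ Zk.obj) (sqk : IsPullback fk ((yon S).map sk) kk.hom v)
    (hsnc : IsClosedImmersion sn.left) (hskc : IsClosedImmersion sk.left) (k c₀ : ℕ) (hk : c₀ ≤ k)
    (hIn : idl sn.left = I ^ (k + c₀ + 1)) (hIk : idl sk.left = I ^ (k + 1))
    (h1 : letI := φ.hom.toAlgebra
      ∀ n, c₀ ≤ n → ∀ b ∈ (I ^ n).map φ.hom, b ∈ eqz A B → ∃ a ∈ I ^ (n - c₀), φ.hom a = b)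
    (h2 : ∀ x ∈ I ^ c₀, φ.hom x = 0 → x = 0) :
    ∃ h : X ⟶ Xn, RepWith @IsClosedImmersion h.hom ∧ h ≫ c = 𝟙 X ∧ gk ≫ h = yy ≫ π := by
  obtain ⟨hV, hV1, hV2, hV3⟩ := exists_section_chart f kn kk zz hzz inl inr g hg₁ hg₂ t s hR π w c hc hcf I sA φ v x' fV sqY
    w₀ hw₀ sn fn sqn sk fk sqk hsnc hskc k c₀ hk hIn hIk h1 h2
  have hK := K_eq_bot f kk inlk inrk gk hgk₁ hgk₂ I sA φ v x' fV sqY w₀ hw₀ sk fk sqk hskc k c₀ hk hIk h2
  have e1 : inlk.hom ≫ yy.hom = inl.hom := congrArg (·.hom) hyy₁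
  have e2 : inrk.hom ≫ yy.hom = zz.hom ≫ inr.hom := congrArg (·.hom) hyy₂
  have hagree : ∀ (W' : Over S) (y : (yon S).obj W' ⟶ Yk.obj) (b : W' ⟶ Over.mk sA), y ≫ gk.hom = (yon S).map b ≫ v →
      (yon S).map b ≫ hV = y ≫ yy.hom ≫ π.hom := fun W' y b hyb ↦
    agree_chart f kk inlk inrk hYk gk hgk₁ hgk₂ v x' fV sqY w₀ hwe hws _ hw₀ sk fk sqk hV (yy.hom ≫ π.hom)
      (by rw [hV2, reassoc_of% e1]) (by rw [hV3, reassoc_of% e2]) y b hyb
  have hcsep : IsSeparatedMor c.hom := K597.Proper.isSeparatedMor_of_isAffineMor (K634.FiniteMor.isAffineMor_of_isFiniteMor hcf)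
  obtain ⟨h₀, hh₀⟩ := exists_desc_sep c hcsep gk.hom hgkq (inferInstanceAs (IsAffine (Spec A))) v hv hvs hV hV1 hK _ hagree
  have hepi := K610.Site.epi_of_etale hv hvs
  have hh₀c : h₀ ≫ c.hom = 𝟙 _ := by rw [← cancel_epi v, ← Category.assoc, hh₀, hV1, Category.comp_id]
  refine ⟨⟨h₀⟩, ?_, ?_, ?_⟩
  · have hm : Mono h₀ := mono_of_mono_fac hh₀c
    have hfin : IsFiniteMor h₀ := K597.Proper.finite_of_comp hcsep (by
      rw [hh₀c, K634.FiniteMor.isFiniteMor_iff]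
      exact K598.RepKit.repWith_of_isIso _)
    exact K618.ClosedPt.repWith_isClosedImmersion_of_mono (K634.FiniteMor.isFiniteMor_iff.1 hfin)
  · ext1
    exact hh₀c
  · apply BinaryCofan.IsColimit.hom_ext hYk
    · change inlk ≫ gk ≫ _ = inlk ≫ yy ≫ π
      ext1
      change inlk.hom ≫ gk.hom ≫ h₀ = inlk.hom ≫ yy.hom ≫ π.hom
      have hx'e : RepWith @Etale x' := MorphismProperty.of_isPullback sqY.flip hv
      have hx's : RepWith @Surjective x' := MorphismProperty.of_isPullback sqY.flip hvs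
      have hepx := K610.Site.epi_of_etale hx'e hx's
      have hepw := K610.Site.epi_of_etale hwe hws
      have e3 : inlk.hom ≫ gk.hom = f.hom := congrArg (·.hom) hgk₁
      rw [← cancel_epi x', ← cancel_epi w₀, reassoc_of% e3, reassoc_of% sqY.w, hh₀, ← Category.assoc, hw₀, hV2,
        reassoc_of% e1]
    · change inrk ≫ gk ≫ _ = inrk ≫ yy ≫ π
      ext1
      change inrk.hom ≫ gk.hom ≫ h₀ = inrk.hom ≫ yy.hom ≫ π.hom
      have hfe : RepWith @Etale fk := MorphismProperty.of_isPullback sqk.flip hv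
      have hfs : RepWith @Surjective fk := MorphismProperty.of_isPullback sqk.flip hvs
      have hepf := K610.Site.epi_of_etale hfe hfs
      have e3 : inrk.hom ≫ gk.hom = kk.hom := congrArg (·.hom) hgk₂
      rw [← cancel_epi fk, reassoc_of% e3, reassoc_of% sqk.w, hh₀, hV3, reassoc_of% e2]

theorem ne_of_unit {A : CommRingCat.{u}} {T Z : Scheme.{u}} (p : T ⟶ Spec A) (sZ : Z ⟶ Spec A) (r : A)
    (hu : IsUnit ((rg p).hom r)) (hz : (rg sZ).hom r = 0) (x : T) (y : Z) : sZ y ≠ p x := by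
  intro hp'
  let r' : Γ(Spec A, ⊤) := (Scheme.ΓSpecIso A).inv.hom r
  have h1 : p x ∈ (Spec A).basicOpen r' := by
    have h2 : x ∈ p ⁻¹ᵁ (Spec A).basicOpen r' := by
      rw [Scheme.preimage_basicOpen]
      have h3 : IsUnit (p.app ⊤ r') := hu
      rw [Scheme.basicOpen_of_isUnit _ h3]
      trivial
    exact h2
  rw [← hp'] at h1
  have h5 : y ∈ sZ ⁻¹ᵁ (Spec A).basicOpen r' := h1
  rw [Scheme.preimage_basicOpen] at h5
  have h6 : sZ.app ⊤ r' = 0 := hz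
  rw [h6, Scheme.basicOpen_zero] at h5
  exact h5

/-- An affine open of the chart on which an element of the ideal is invertible maps to the open complement. -/
theorem isIso_away {X X' Z U XU : Space S} (i : Z ⟶ X) (jU : U ⟶ X)
    (hjU : RepWith @IsOpenImmersion jU.hom)
    (hU : Set.range (Points.map jU.hom) = (Set.range (Points.map i.hom))ᶜ) (f : X' ⟶ X)
    (a : XU ⟶ X') (b : XU ⟶ U) (hXU : IsPullback a.hom b.hom f.hom jU.hom) [IsIso b]
    {A : CommRingCat.{u}} (sA : Spec A ⟶ S) (v : (yon S).obj (Over.mk sA) ⟶ X.obj)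
    {YV : Sp S} (x' : YV ⟶ X'.obj) (fV : YV ⟶ (yon S).obj (Over.mk sA)) (sqY : IsPullback x' fV f.hom v)
    {ZV : Over S} (sZ : ZV ⟶ Over.mk sA) (fZ : (yon S).obj ZV ⟶ Z.obj) (sqZ : IsPullback fZ ((yon S).map sZ) i.hom v)
    (r : A) (hr : r ∈ idl sZ.left) (Q : Sp S) (q1 : Q ⟶ YV) (q2 : Q ⟶ (yon S).obj (Over.mk
      (Spec.map (CommRingCat.ofHom (algebraMap A (Localization.Away r))) ≫ sA)))
    (sq : IsPullback q1 q2 fV ((yon S).map (Over.homMk (Spec.map (CommRingCat.ofHom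
        (algebraMap A (Localization.Away r)))) rfl : _ ⟶ Over.mk sA))) : IsIso q2 := by
  let Va : Over S := Over.mk (Spec.map (CommRingCat.ofHom (algebraMap A (Localization.Away r))) ≫ sA)
  let va : Va ⟶ Over.mk sA := Over.homMk (Spec.map (CommRingCat.ofHom (algebraMap A (Localization.Away r)))) rfl
  have hrange : Set.range (Points.ofPt ((yon S).map va ≫ v)) ⊆ Set.range (Points.map jU.hom) := by
    rintro _ ⟨x, rfl⟩
    rw [hU]
    rintro ⟨z, hz⟩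
    rw [K609.Points.ofPt_yon_map_comp, Points.ofPt_eq_map_ofScheme] at hz
    obtain ⟨p, -, hp⟩ := K609.Points.exists_of_isPullback sqZ z _ hz
    obtain ⟨y, rfl⟩ := K609.Points.ofScheme_surjective _ p
    rw [K609.Points.map_yon_map_ofScheme] at hp
    have hp' : sZ.left y = va.left x := K609.Points.ofScheme_injective _ hp
    refine ne_of_unit (Spec.map (CommRingCat.ofHom (algebraMap A (Localization.Away r)))) sZ.left r ?_ hr x y hp'
    rw [rg_SpecMap]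
    exact (IsLocalization.Away.algebraMap_isUnit (S := Localization.Away r) r).map
      (Scheme.ΓSpecIso (CommRingCat.of (Localization.Away r))).inv.hom
  obtain ⟨g', hg'⟩ := K610.Factor.exists_lift_open hjU _ hrange
  have hbi : IsIso b.hom := inferInstanceAs (IsIso ((ObjectProperty.ι _).map b))
  have sq2 : IsPullback (q1 ≫ x') q2 f.hom ((yon S).map va ≫ v) := sq.paste_horiz sqY
  rw [← hg'] at sq2
  let l : Q ⟶ XU.obj := hXU.lift (q1 ≫ x') (q2 ≫ g') (by rw [sq2.w, Category.assoc])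
  have hl : IsPullback l q2 b.hom g' := by
    refine IsPullback.of_right (h₁₂ := a.hom) (h₂₂ := jU.hom) (v₁₃ := f.hom) ?_ (hXU.lift_snd _ _ _) hXU
    rw [hXU.lift_fst]
    exact sq2
  exact hl.isIso_snd_of_isIso

theorem main (HC : CoeqHyp S) {X X' Z U XU : Space S}
    (hqc : IsQuasiCompactSp X.obj) (hN : IsLocNoethSp X.obj) (i : Z ⟶ X)
    (hi : RepWith @IsClosedImmersion i.hom) (jU : U ⟶ X) (hjU : RepWith @IsOpenImmersion jU.hom)
    (hU : Set.range (Points.map jU.hom) = (Set.range (Points.map i.hom))ᶜ) (f : X' ⟶ X)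
    (hf : IsProperMor f.hom) (a : XU ⟶ X') (b : XU ⟶ U) (hXU : IsPullback a.hom b.hom f.hom jU.hom) [IsIso b]
    (Zn Yn Rn Xn : ℕ → Space S) (jn : ∀ k, Z ⟶ Zn k) (kn : ∀ k, Zn k ⟶ X)
    (hZn : ∀ k, IsInfNbhd k i.hom (jn k).hom (kn k).hom) (inl : ∀ k, X' ⟶ Yn k) (inr : ∀ k, Zn k ⟶ Yn k)
    (hYn : ∀ k, IsColimit (BinaryCofan.mk (inl k) (inr k))) (g : ∀ k, Yn k ⟶ X) (hg₁ : ∀ k, inl k ≫ g k = f)
    (hg₂ : ∀ k, inr k ≫ g k = kn k) (t s : ∀ k, Rn k ⟶ Yn k)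
    (hRn : ∀ k, IsPullback (t k).hom (s k).hom (g k).hom (g k).hom) (π : ∀ k, Yn k ⟶ Xn k)
    (w : ∀ k, t k ≫ π k = s k ≫ π k) (hXn : ∀ k, IsColimit (Cofork.ofπ (π k) (w k))) (c : ∀ k, Xn k ⟶ X)
    (hc : ∀ k, π k ≫ c k = g k) (zz : ∀ k m, Zn k ⟶ Zn (k + m)) (hzz : ∀ k m, zz k m ≫ kn (k + m) = kn k)
    (yy : ∀ k m, Yn k ⟶ Yn (k + m)) (hyy₁ : ∀ k m, inl k ≫ yy k m = inl (k + m))
    (hyy₂ : ∀ k m, inr k ≫ yy k m = zz k m ≫ inr (k + m)) (τ : ∀ k m, Xn k ⟶ Xn (k + m))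
    (hτ : ∀ k m, π k ≫ τ k m = yy k m ≫ π (k + m)) :
    ∃ N : ℕ, ∀ k, N ≤ k → ∃ (m : ℕ) (h : X ⟶ Xn (k + m)), RepWith @IsClosedImmersion h.hom ∧
      h ≫ c (k + m) = 𝟙 X ∧ τ k m = c k ≫ h := by
  -- the chart
  obtain ⟨A, sA, v, hv, hvs⟩ := exists_spec_chart hqc
  have hAN' : IsLocallyNoetherian (Over.mk sA).left := K621.Charts.isLocallyNoetherian_chart hN hv
  have hAN : IsNoetherianRing A := isLocallyNoetherian_Spec.1 hAN'
  have hVAA : IsAffine (Over.mk sA).left := inferInstanceAs (IsAffine (Spec A))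
  obtain ⟨YV, x', fV, sqY, hYV⟩ : ∃ (YV : Sp S) (x' : YV ⟶ X'.obj) (fV : YV ⟶ (yon S).obj (Over.mk sA)),
      IsPullback x' fV f.hom v ∧ IsAlgSpace YV :=
    ⟨_, _, _, IsPullback.of_hasPullback _ _, K613.Chart.isAlgSpace_pullback X'.2 (IsAlgSpace.yon_obj _) X.2 _ _⟩
  have hYVq : IsQuasiCompactSp YV := hf.2.1.2 (IsAlgSpace.yon_obj _) (K596.QC.isQuasiCompactSp_yon _) v _ _ sqY
  obtain ⟨B, φ, w₀, hwe, hws, hw₀⟩ := exists_spec_chart_over hYVq sA fV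
  let Y : Space S := ⟨YV, hYV⟩
  let fV' : Y ⟶ (ofScheme S).obj (Over.mk sA) := ⟨fV⟩
  have hfV : IsProperMor fV'.hom :=
    K597.Proper.isProperMor_of_isPullback X'.2 X.2 (IsAlgSpace.yon_obj _) sqY hf
  obtain ⟨ZV, sZ, fZ, sqZ⟩ := hi.1 v
  have hsZ : IsClosedImmersion sZ.left := hi.2 _ _ _ sqZ
  let I : Ideal A := idl sZ.left
  have hZV : ∀ n, ∃ (ZnV : Over S) (sn : ZnV ⟶ Over.mk sA) (fn : (yon S).obj ZnV ⟶ (Zn n).obj),
      IsPullback fn ((yon S).map sn) (kn n).hom v ∧ IsClosedImmersion sn.left ∧ idl sn.left = I ^ (n + 1) := by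
    intro n
    obtain ⟨-, -, hk, hker⟩ := hZn n
    obtain ⟨ZnV, sn, fn, sqn⟩ := hk.1 v
    have hsn : IsClosedImmersion sn.left := hk.2 _ _ _ sqn
    exact ⟨ZnV, sn, fn, sqn, hsn, idl_pow sZ.left sn.left (hker v fZ sZ fn sn hVAA hv sqZ sqn)⟩
  choose ZnV sn fn sqn hsn hidl using hZV
  obtain ⟨c₀, h1, h2⟩ := K634.ReesSp.exists_const HC I sA φ fV' hfV w₀ hwe hws hw₀ (fun r hr Q q1 q2 sq ↦
    isIso_away i jU hjU hU f a b hXU sA v x' fV sqY sZ fZ sqZ r hr Q q1 q2 sq)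
  have hkn : ∀ n, IsProperMor (kn n).hom := fun n ↦ K597.ProperSub.isProperMor_of_closed X.2 (hZn n).2.2.1
  have hgp : ∀ n, IsProperMor (g n).hom := fun n ↦ K634.CoprodProper.isProperMor_of_coprod (hYn n) (g n)
    (by rw [hg₁]; exact hf) (by rw [hg₂]; exact hkn n)
  refine ⟨c₀, fun k hk ↦ ⟨c₀, ?_⟩⟩
  have hcf := (finite_of_coeq HC (g (k + c₀)) hN (hgp _) (t _) (s _) (hRn _) (π _) (w _) (hXn _) (c _) (hc _)).1
  obtain ⟨h, hh1, hh2, hh3⟩ := glue f (kn (k + c₀)) (kn k) (zz k c₀) (hzz k c₀) (inl _) (inr _) (g _) (hg₁ _) (hg₂ _)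
    (inl k) (inr k) (hYn k) (g k) (hg₁ k) (hg₂ k) (hgp k).2.1.2 (yy k c₀) (hyy₁ k c₀) (hyy₂ k c₀) (t _) (s _) (hRn _)
    (π _) (w _) (c _) (hc _) hcf I sA φ v hv hvs x' fV sqY w₀ hwe hws hw₀ (sn (k + c₀)) (fn _) (sqn _) (sn k) (fn k)
    (sqn k) (hsn _) (hsn _) k c₀ hk (hidl _) (hidl _) h1 h2
  refine ⟨h, hh1, hh2, ?_⟩
  refine Cofork.IsColimit.hom_ext (hXn k) ?_
  change π k ≫ τ k c₀ = π k ≫ c k ≫ h
  rw [hτ, ← Category.assoc, hc, hh3]

end K634.SecMain
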