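import Groth.Agent.AlgSp.K615.RelNorm
import Groth.Agent.AlgSp.K634.Charts

/-!
# Relative normalization commutes with smooth base change
-/

set_option autoImplicit false
universe u v
open CategoryTheory CategoryTheory.Limits AlgebraicGeometry Opposite AlgSp

namespace K634.SmoothNorm

open K615 K615.Norm K615.Aff K615.UN

variable {S : Scheme.{u}}

/-- The affine case: smooth base change of an `NChar` normalization. -/
theorem lnorm_of_nChar {U V W N : Over S} {n : V ⟶ N} {ν : N ⟶ U} {p1 p2 : W ⟶ V} (h : NChar n ν p1 p2)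
    (hU : IsAffine U.left) {Y : Sp S} {q : (yon S).obj V ⟶ Y} (hc : AffCov q p1 p2) {fY : Y ⟶ (yon S).obj U}
    (hv : q ≫ fY = (yon S).map (n ≫ ν)) {g : Y ⟶ (yon S).obj N} (hg : q ≫ g = (yon S).map n)
    {U' : Over S} (hU' : IsAffine U'.left) (e : U' ⟶ U) (he : Smooth e.left) :
    LNorm fY ((yon S).map ν) g ((yon S).map e) := by
  have hgν : g ≫ (yon S).map ν = fY := hc.ext (by
    rw [← Category.assoc, hg, hv, (yon S).map_comp])
  have sqN := IsPullback.of_hasPullback ν e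
  have sqV := IsPullback.of_hasPullback (n ≫ ν) e
  have sqW := IsPullback.of_hasPullback (p1 ≫ n ≫ ν) e
  have sqY := IsPullback.of_hasPullback fY ((yon S).map e)
  have sqN' := Int.isPullback_yon sqN
  let n' := sqN.lift (pullback.fst (n ≫ ν) e ≫ n) (pullback.snd (n ≫ ν) e) (by
    rw [Category.assoc, sqV.w])
  have hn1 : n' ≫ pullback.fst ν e = pullback.fst (n ≫ ν) e ≫ n := sqN.lift_fst _ _ _
  have hn2 : n' ≫ pullback.snd ν e = pullback.snd (n ≫ ν) e := sqN.lift_snd _ _ _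
  have w2 : p2 ≫ n ≫ ν = p1 ≫ n ≫ ν := by
    rw [← Category.assoc, ← h.eq, Category.assoc]
  let p1' := sqV.lift (pullback.fst (p1 ≫ n ≫ ν) e ≫ p1) (pullback.snd (p1 ≫ n ≫ ν) e) (by
    rw [Category.assoc, sqW.w])
  let p2' := sqV.lift (pullback.fst (p1 ≫ n ≫ ν) e ≫ p2) (pullback.snd (p1 ≫ n ≫ ν) e) (by
    rw [Category.assoc, w2, sqW.w])
  have h1 : p1' ≫ pullback.fst (n ≫ ν) e = pullback.fst (p1 ≫ n ≫ ν) e ≫ p1 := sqV.lift_fst _ _ _
  have h1' : p1' ≫ pullback.snd (n ≫ ν) e = pullback.snd (p1 ≫ n ≫ ν) e := sqV.lift_snd _ _ _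
  have h2 : p2' ≫ pullback.fst (n ≫ ν) e = pullback.fst (p1 ≫ n ≫ ν) e ≫ p2 := sqV.lift_fst _ _ _
  have h2' : p2' ≫ pullback.snd (n ≫ ν) e = pullback.snd (p1 ≫ n ≫ ν) e := sqV.lift_snd _ _ _
  let q' := sqY.lift ((yon S).map (pullback.fst (n ≫ ν) e) ≫ q) ((yon S).map (pullback.snd (n ≫ ν) e)) (by
    rw [Category.assoc, hv, ← (yon S).map_comp, sqV.w, (yon S).map_comp])
  have hq1 : q' ≫ pullback.fst fY ((yon S).map e) = (yon S).map (pullback.fst (n ≫ ν) e) ≫ q :=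
    sqY.lift_fst _ _ _
  have hq2 : q' ≫ pullback.snd fY ((yon S).map e) = (yon S).map (pullback.snd (n ≫ ν) e) :=
    sqY.lift_snd _ _ _
  let g' := sqN'.lift (pullback.fst fY ((yon S).map e) ≫ g) (pullback.snd fY ((yon S).map e)) (by
    rw [Category.assoc, hgν, sqY.w])
  have hg1 : g' ≫ (yon S).map (pullback.fst ν e) = pullback.fst fY ((yon S).map e) ≫ g :=
    sqN'.lift_fst _ _ _
  have hg2 : g' ≫ (yon S).map (pullback.snd ν e) = pullback.snd fY ((yon S).map e) := sqN'.lift_snd _ _ _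
  have hc' := hc.of_isPullback hU hU' sqY hv sqV sqW hq1 hq2 h1 h2 h1' h2'
  have hN' := h.of_isPullback hU hU' hc.affV hc.affW he sqN sqV sqW hn1 hn2 h1 h2
    h1' h2'
  refine LNorm.of_one sqY sqN' hg2 hg1 (hN'.isRel hU' hc' ?_ ?_)
  · rw [hq2, ← hn2]
  · apply sqN'.hom_ext
    · rw [Category.assoc, hg1, ← Category.assoc, hq1, Category.assoc, hg, ← (yon S).map_comp,
        ← (yon S).map_comp, hn1]
    · rw [Category.assoc, hg2, hq2, ← (yon S).map_comp, hn2]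

theorem lnorm_of_iso {X Y X₁ X₂ U : Sp S} {f : Y ⟶ X} {ν₁ : X₁ ⟶ X} {ν₂ : X₂ ⟶ X}
    {f₁ : Y ⟶ X₁} {f₂ : Y ⟶ X₂} (e : X₁ ≅ X₂) (he1 : f₁ ≫ e.hom = f₂) (he2 : e.hom ≫ ν₂ = ν₁)
    {a : U ⟶ X} (h : LNorm f ν₁ f₁ a) : LNorm f ν₂ f₂ a := by
  intro YU NU y fU n νU g sqY sqN hg hg'
  have e1 : e.inv ≫ ν₁ = ν₂ := by rw [← he2, Iso.inv_hom_id_assoc]
  refine h y fU (n ≫ e.inv) νU g sqY ?_ hg ?_
  · refine IsPullback.of_iso sqN (Iso.refl _) e.symm (Iso.refl _) (Iso.refl _) ?_ ?_ ?_ ?_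
    · simp
    · simp
    · simp [e1]
    · simp
  · rw [← Category.assoc, hg', Category.assoc, ← he1, Category.assoc, e.hom_inv_id, Category.comp_id]

/-- `LNorm` along affine schemes smooth over an affine étale chart. -/
theorem lnorm_of_smooth {X Y X' : Sp S} {f : Y ⟶ X} {ν : X' ⟶ X} {f' : Y ⟶ X'} (h : UNorm f ν f')
    (hqc : IsQuasiCompactMor f) (hqs : IsQuasiSeparatedMor f) {U U' : Over S} (hU : IsAffine U.left)
    (hU' : IsAffine U'.left) {a : (yon S).obj U ⟶ X} (ha : RepWith @Etale a) (e : U' ⟶ U)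
    (he : Smooth e.left) : LNorm f ν f' ((yon S).map e ≫ a) := by
  obtain ⟨YU, NU, y, fU, n, νU, g, sqY, sqN, hg, hg'⟩ := exists_chart h.w a
  refine LNorm.comp sqY sqN hg hg' _ ?_
  obtain ⟨V, W, N, q, p1, p2, n₀, ν₀, g₀, hc, hN, hv, hq, hun⟩ := Exist.exists_affine hqc hqs hU sqY
  have h1 : IsRelNormalization fU ((yon S).map ν₀) g₀ := hun.isRel (IsAlgSpace.yon_obj _)
  have h2 : IsRelNormalization fU νU g := h.charts U a hU ha _ _ _ _ _ sqY sqN hg hg'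
  obtain ⟨M, μ, ε, -, -, -⟩ := Int.exists_iso_of_isAffine hU νU (Int.of_isPullback sqN h.integral)
  have hNU : IsAlgSpace NU := (IsAlgSpace.yon_obj M).of_iso ε
  obtain ⟨d, hd1, hd2⟩ := exists_iso (IsAlgSpace.yon_obj _) hNU h1 h2
  exact lnorm_of_iso d hd1 hd2 (lnorm_of_nChar hN hU hc hv hq hU' e he)

/-- Affine étale charts of `W` lying smoothly over affine étale charts of `X`. -/
structure SChart {W X : Sp S} (w : W ⟶ X) where
  U : Over S
  U' : Over S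
  a : (yon S).obj U ⟶ X
  c : (yon S).obj U' ⟶ W
  e : U' ⟶ U
  affU : IsAffine U.left
  affU' : IsAffine U'.left
  etale : RepWith @Etale a
  etale' : RepWith @Etale c
  smooth : Smooth e.left
  comm : c ≫ w = (yon S).map e ≫ a

theorem schart_jsurj {W X : Sp S} (hW : IsAlgSpace W) (hX : IsAlgSpace X) {w : W ⟶ X} (hw : LocP @Smooth w) :
    Pt.JSurj (fun c : SChart w => (yon S).obj c.U') (fun c => c.c) := by
  intro T x
  obtain ⟨W₀, V₀, c₀, b₀, m, h1, h2, h3, h4, hm⟩ := K634.Charts.exists_chart w hW hX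
  let R : Sieve T :=
    { arrows := fun T' g => ∃ (c : SChart w) (y : (yon S).obj T' ⟶ (yon S).obj c.U'), y ≫ c.c = (yon S).map g ≫ x
      downward_closed := by
        rintro T' T'' g ⟨c, y, hy⟩ k
        exact ⟨c, (yon S).map k ≫ y, by rw [Category.assoc, hy, (yon S).map_comp, Category.assoc]⟩ }
  refine ⟨R, Cov.sieve_mem R fun t => ?_, fun T' g hg => hg⟩
  obtain ⟨P, snd, fst, sq⟩ := h1.1 x
  have e1 : Etale snd.left := h1.2 x fst snd sq
  have e2 : Surjective snd.left := h2.2 x fst snd sq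
  obtain ⟨v, hv⟩ := e2.surj t
  obtain ⟨l, rfl⟩ := (yon S).map_surjective fst
  obtain ⟨_, ⟨O, hO, rfl⟩, hmO, -⟩ := V₀.left.isBasis_affineOpens.exists_subset_of_mem_open
    (Set.mem_univ (m.left (l.left v))) isOpen_univ
  obtain ⟨_, ⟨O', hO', rfl⟩, hmO', hOO'⟩ := W₀.left.isBasis_affineOpens.exists_subset_of_mem_open
    (show l.left v ∈ (m.left ⁻¹ᵁ O : W₀.left.Opens) from hmO) (m.left ⁻¹ᵁ O).isOpen
  have hr1 : Set.range (Cov.opnι W₀ O' ≫ m).left ⊆ (O : Set V₀.left) := by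
    rintro _ ⟨z, rfl⟩
    exact hOO' z.2
  let e : Cov.opn W₀ O' ⟶ Cov.opn V₀ O := Cov.opnLift (Cov.opnι W₀ O' ≫ m) O hr1
  have he : e ≫ Cov.opnι V₀ O = Cov.opnι W₀ O' ≫ m := Cov.opnLift_opnι _ _ _
  have ha : RepWith @Etale ((yon S).map (Cov.opnι V₀ O) ≫ b₀) := Cov.repWith_etale_comp _ _ h3
  have hc : RepWith @Etale ((yon S).map (Cov.opnι W₀ O') ≫ c₀) := Cov.repWith_etale_comp _ _ h1
  have hcomm : ((yon S).map (Cov.opnι W₀ O') ≫ c₀) ≫ w = (yon S).map e ≫ (yon S).map (Cov.opnι V₀ O) ≫ b₀ := by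
    rw [Category.assoc, hm, ← Category.assoc, ← Category.assoc, ← (yon S).map_comp, ← (yon S).map_comp, he]
  let C : SChart w :=
    { U := Cov.opn V₀ O
      U' := Cov.opn W₀ O'
      a := (yon S).map (Cov.opnι V₀ O) ≫ b₀
      c := (yon S).map (Cov.opnι W₀ O') ≫ c₀
      e := e
      affU := hO
      affU' := hO'
      etale := ha
      etale' := hc
      smooth := hw _ _ e hc ha hcomm
      comm := hcomm }
  let V' : P.left.Opens := l.left ⁻¹ᵁ O'
  have hle : Set.range (Cov.opnι P V' ≫ l).left ⊆ (O' : Set W₀.left) := by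
    rintro _ ⟨z, rfl⟩
    exact z.2
  refine ⟨Cov.opn P V', Cov.opnι P V' ≫ snd, ⟨C, (yon S).map (Cov.opnLift (Cov.opnι P V' ≫ l) O' hle), ?_⟩,
    ?_, ?_, ⟨⟨v, hmO'⟩, hv⟩⟩
  · change (yon S).map (Cov.opnLift (Cov.opnι P V' ≫ l) O' hle) ≫ (yon S).map (Cov.opnι W₀ O') ≫ c₀ = _
    rw [← Category.assoc, ← (yon S).map_comp, Cov.opnLift_opnι, (yon S).map_comp, Category.assoc, sq.w,
      (yon S).map_comp, Category.assoc]
  · rw [Over.comp_left]; infer_instance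
  · rw [Over.comp_left]; infer_instance

theorem isRel_baseChange {X Y X' W YW NW : Sp S} {f : Y ⟶ X} {ν : X' ⟶ X} {f' : Y ⟶ X'} (h : UNorm f ν f')
    (hX : IsAlgSpace X) (hW : IsAlgSpace W)
    (hqc : IsQuasiCompactMor f) (hqs : IsQuasiSeparatedMor f) {w : W ⟶ X} (hw : LocP @Smooth w)
    {y : YW ⟶ Y} {fW : YW ⟶ W} {n : NW ⟶ X'} {νW : NW ⟶ W} {g : YW ⟶ NW} (sqY : IsPullback y fW f w)
    (sqN : IsPullback n νW ν w) (hg : g ≫ νW = fW) (hg' : g ≫ n = y ≫ f') : IsRelNormalization fW νW g := by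
  have key : ∀ (C : SChart w), LNorm fW νW g C.c := fun C => by
    refine LNorm.of_comp sqY sqN hg' C.c ?_
    rw [C.comm]
    exact lnorm_of_smooth h hqc hqs C.affU C.affU' C.etale C.e C.smooth
  refine isRelNormalization_of_charts hg (Int.of_isPullback sqN h.integral) (fun C : SChart w => C.affU')
    (schart_jsurj hW hX hw) key ?_
  intro i j T u u' huu
  obtain ⟨R, hR, H⟩ := Cov.charts_refine i.c j.c i.etale' j.etale' T u u' huu
  refine ⟨R, hR, fun T' k hk => ?_⟩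
  obtain ⟨V, e, e', t, hV, he, he', h1, h2, h3⟩ := H T' k hk
  refine ⟨V, (yon S).map e, (yon S).map e', (yon S).map t, hV, h1, ?_, h2, h3⟩
  have hs := i.smooth
  have hcomm : ((yon S).map e ≫ i.c) ≫ w = (yon S).map (e ≫ i.e) ≫ i.a := by
    rw [Category.assoc, i.comm, (yon S).map_comp, Category.assoc]
  refine LNorm.of_comp sqY sqN hg' _ ?_
  rw [hcomm]
  exact lnorm_of_smooth h hqc hqs i.affU hV i.etale (e ≫ i.e) (by rw [Over.comp_left]; infer_instance)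

end K634.SmoothNorm
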