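import Groth.Agent.AlgSp.K634.Top
import Groth.Agent.AlgSp.K635.UnivExist
import Groth.Agent.AlgSp.K597.Affine
import Groth.Agent.AlgSp.K613.Chart
import Groth.Agent.Flat2C.AffineThickening

/-!
# The universal first order thickening of a section over `Spec (A/I)` is affine
-/

set_option autoImplicit false

universe u

open CategoryTheory CategoryTheory.Limits AlgebraicGeometry Opposite

namespace K634.UnivAff

open AlgSp K634.Quot K634.Formal K634.Top K635.Univ K635.Formal K635.Thick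

variable {S : Scheme.{u}}

/-- Universal first order thickenings are invariant under isomorphisms. -/
theorem of_iso {Z Z' Z'' X : Sp S} (hA' : IsAlgSpace Z') (hA'' : IsAlgSpace Z'') {h : Z ⟶ X} {i : Z ⟶ Z'}
    {h' : Z' ⟶ X} (HU : IsUnivFOThick h i h') (e : Z'' ≅ Z') : IsUnivFOThick h (i ≫ e.inv) (e.hom ≫ h') := by
  have sq : IsPullback (𝟙 Z) (i ≫ e.inv) i e.hom := IsPullback.of_horiz_isIso ⟨by simp⟩
  have h1 := etale_baseChange hA' hA'' HU (isFormallyEtaleMor_of_repWith (K635.UnivEt.repWith_etale_iso e)) sq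
  rwa [Category.id_comp] at h1

/-- An affine space over `S` which is a sheaf isomorphic to the spectrum of a ring. -/
theorem exists_spec {Z : Sp S} {W : Over S} (hW : IsAffine W.left) (e : (yon S).obj W ≅ Z) :
    ∃ (C : CommRingCat.{u}) (str : Spec C ⟶ S), Nonempty ((yon S).obj (Over.mk str) ≅ Z) := by
  refine ⟨Γ(W.left, ⊤), W.left.isoSpec.inv ≫ W.hom, ⟨(yon S).mapIso (Over.isoMk W.left.isoSpec.symm rfl) ≪≫ e⟩⟩

/-- The universal first order thickening of an affine scheme over a scheme is affine. -/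
theorem exists_affine {Z X : Over S} (hZ : IsAffine Z.left) (h : Z ⟶ X)
    (hh : IsFormallyUnramifiedMor ((yon S).map h)) {P : Sp S} (hP : IsAlgSpace P) {i : (yon S).obj Z ⟶ P}
    {m : P ⟶ (yon S).obj X} (HU : IsUnivFOThick ((yon S).map h) i m) :
    ∃ W : Over S, IsAffine W.left ∧ Nonempty ((yon S).obj W ≅ P) := by
  have hg : FormallyUnramified h.left := (K634.Charts.unramified_yon_map_iff h).1 hh
  obtain ⟨U', j, g', H⟩ := K584.UnivGlue.exists_univ h.left
  obtain ⟨W, iW, hW, rfl, e, HW⟩ := K635.UnivExist.isUnivFOThick_of_scheme h H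
  obtain ⟨φ, -, -⟩ := K635.UnivEt.exists_iso (IsAlgSpace.yon_obj Z) (IsAlgSpace.yon_obj W) hP HW HU
  refine ⟨W, ?_, ⟨φ⟩⟩
  have h1 : IsClosedImmersion j := H.1.1.1
  have h2 : Surjective j := H.1.1.2
  exact Groth.Agent.Flat2C.AffineThickening.isAffine_of_thickening j

section

variable {A : Type u} [CommRing A] {I : Ideal A} {str : Spec (.of A) ⟶ S} {X : Sp S}
  (hX : IsAlgSpace X) {ζ : X ⟶ (yon S).obj (Over.mk str)}
  {σ : (yon S).obj (Over.mk (Spec.map (CommRingCat.ofHom (Ideal.Quotient.mk I)) ≫ str)) ⟶ X}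
  (hσ : σ ≫ ζ = (yon S).map (stdJ A I str))
  {U : Over S} {p : (yon S).obj U ⟶ X} (hp : RepWith @Etale p)
  {B : Type u} [CommRing B] {φ : A →+* B} (hφ : Etale (Spec.map (CommRingCat.ofHom φ)))
  (hφ' : Surjective (Spec.map (CommRingCat.ofHom φ)))
  {v : (yon S).obj (Over.mk (Spec.map (CommRingCat.ofHom (Ideal.Quotient.mk (I.map φ))) ≫
    Spec.map (CommRingCat.ofHom φ) ≫ str)) ⟶ (yon S).obj U} (hv : v ≫ p = (yon S).map (bcWT φ I str) ≫ σ)

include hX hσ hp hφ hφ' hv

theorem exists_univ_affine : ∃ (C : CommRingCat.{u}) (strC : Spec C ⟶ S)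
    (k : Over.mk (Spec.map (CommRingCat.ofHom (Ideal.Quotient.mk I)) ≫ str) ⟶ Over.mk strC)
    (hC : (yon S).obj (Over.mk strC) ⟶ X), IsUnivFOThick σ ((yon S).map k) hC := by
  have hσu : IsFormallyUnramifiedMor σ := by
    refine unramified_of_comp (b := ζ) ?_
    rw [hσ, K634.Charts.unramified_yon_map_iff]
    have : IsClosedImmersion (stdJ A I str).left :=
      IsClosedImmersion.spec_of_surjective _ Ideal.Quotient.mk_surjective
    infer_instance
  obtain ⟨Z', iZ, h', hA, HU, -⟩ := K635.UnivExist.exists_univ (IsAlgSpace.yon_obj _) hX hσu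
  -- base change to `Spec B`
  have hwe : RepWith @Etale ((yon S).map (bcW φ str)) := (repWith_yon_map_iff _ _).2 hφ
  have hws : RepWith @Surjective ((yon S).map (bcW φ str)) := (repWith_yon_map_iff _ _).2 hφ'
  obtain ⟨P, q, s, sq1⟩ : ∃ (P : Sp S) (q : P ⟶ Z') (s : P ⟶ (yon S).obj (Over.mk (Spec.map (CommRingCat.ofHom φ) ≫ str))),
      IsPullback q s (h' ≫ ζ) ((yon S).map (bcW φ str)) := ⟨_, _, _, IsPullback.of_hasPullback _ _⟩
  have hP : IsAlgSpace P :=
    K613.Chart.isAlgSpace_of_isPullback (IsAlgSpace.yon_obj _).diag hA (IsAlgSpace.yon_obj _) sq1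
  have hq : RepWith @Etale q := MorphismProperty.of_isPullback (P := RepWith @Etale) sq1.flip hwe
  have hbig : IsPullback ((yon S).map (bcWT φ I str)) ((yon S).map (stdJ B (I.map φ) (Spec.map (CommRingCat.ofHom φ) ≫ str)))
      ((yon S).map (stdJ A I str)) ((yon S).map (bcW φ str)) := by
    have h1 : IsPullback (stdJ B (I.map φ) (Spec.map (CommRingCat.ofHom φ) ≫ str)) (bcWT φ I str) (bcW φ str)
        (stdJ A I str) := IsPullback.of_map (Over.forget S) (bc_comm φ I str) (isPullback_quot φ I)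
    exact (h1.map (yon S)).flip
  have hiZ : iZ ≫ h' ≫ ζ = (yon S).map (stdJ A I str) := by
    rw [← Category.assoc, HU.2.1, hσ]
  obtain ⟨iP, hiP1, hiP2⟩ : ∃ iP : (yon S).obj (Over.mk (Spec.map (CommRingCat.ofHom (Ideal.Quotient.mk (I.map φ))) ≫
      Spec.map (CommRingCat.ofHom φ) ≫ str)) ⟶ P, iP ≫ q = (yon S).map (bcWT φ I str) ≫ iZ ∧
        iP ≫ s = (yon S).map (stdJ B (I.map φ) (Spec.map (CommRingCat.ofHom φ) ≫ str)) :=
    ⟨sq1.lift ((yon S).map (bcWT φ I str) ≫ iZ) _ (by rw [Category.assoc, hiZ]; exact hbig.w),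
      sq1.lift_fst _ _ _, sq1.lift_snd _ _ _⟩
  have sq2 : IsPullback ((yon S).map (bcWT φ I str)) iP iZ q := by
    refine IsPullback.of_bot ?_ hiP1.symm sq1
    rw [hiP2, hiZ]
    exact hbig
  have HP := etale_baseChange hA hP HU (isFormallyEtaleMor_of_repWith hq) sq2
  -- through the chart
  rw [← hv] at HP
  obtain ⟨m, ⟨hm1, hm2⟩, -⟩ := space_existsUnique_lift (isFormallyEtaleMor_of_repWith hp) hP HP.1 v (q ≫ h')
    HP.2.1.symm
  rw [← hm2] at HP
  have HP' := of_comp_formallyEtale hm1 HP (etale_iff.1 (isFormallyEtaleMor_of_repWith hp)).2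
  obtain ⟨v₀, rfl⟩ := (yon S).map_surjective v
  have hvu : IsFormallyUnramifiedMor ((yon S).map v₀) := by
    refine unramified_of_comp (b := p) ?_
    rw [hv]
    refine unramified_comp ?_ hσu
    have : RepWith @Etale ((yon S).map (bcWT φ I str)) :=
      MorphismProperty.of_isPullback (P := RepWith @Etale) hbig.flip hwe
    exact (etale_iff.1 (isFormallyEtaleMor_of_repWith this)).2
  obtain ⟨W, hW, ⟨e⟩⟩ := exists_affine (inferInstanceAs (IsAffine (Spec _))) v₀ hvu hP HP'
  -- descend affineness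
  have hs : IsAffineMor s := by
    rw [K597.Affine.isAffineMor_iff]
    obtain ⟨w, hw⟩ := (yon S).map_surjective (e.hom ≫ s)
    have h1 : RepWith @IsAffineHom ((yon S).map w) := by
      rw [repWith_yon_map_iff]
      have : IsAffine (Over.mk (Spec.map (CommRingCat.ofHom φ) ≫ str)).left := inferInstanceAs (IsAffine (Spec _))
      infer_instance
    have h2 : s = e.inv ≫ (yon S).map w := by rw [hw, Iso.inv_hom_id_assoc]
    rw [h2]
    exact (MorphismProperty.cancel_left_of_respectsIso (RepWith @IsAffineHom) e.inv _).2 h1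
  have hf : IsAffineMor (h' ≫ ζ) := K597.Affine.isAffineMor_of_cover sq1 hwe hws hs
  obtain ⟨W', i', fst, sq3, hW'⟩ := hf (Z := Over.mk str) (inferInstanceAs (IsAffine (Spec _))) (𝟙 _)
  have : IsIso fst := sq3.isIso_fst_of_isIso
  obtain ⟨C, strC, ⟨e'⟩⟩ := exists_spec hW' (asIso fst)
  obtain ⟨k, hk⟩ := (yon S).map_surjective (iZ ≫ e'.inv)
  refine ⟨C, strC, k, e'.hom ≫ h', ?_⟩
  rw [hk]
  exact of_iso hA (IsAlgSpace.yon_obj _) HU e'

end

end K634.UnivAff
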